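import Mathlib.GroupTheory.Coxeter.Length
import Mathlib.GroupTheory.OrderOfElement
import Mathlib.Tactic
set_option linter.all false

/-!
# The exchange condition implies the Coxeter presentation

`W` is a group, `σ : B → W` a family of involutions generating `W`, with the exchange condition.
Then `(W, σ)` is a Coxeter system for the matrix `orderOf (σ x * σ y)` (Matsumoto, Tits).
-/

set_option autoImplicit false

namespace Cfsg.Agent.LieExceptional.CoxeterExchange

variable {W : Type*} [Group W] {B : Type*} (σ : B → W)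

/-- The product of a word. -/
def wp (ω : List B) : W := (ω.map σ).prod

/-- The word is of minimal length among the words with the same product. -/
def IsRed (ω : List B) : Prop := ∀ ω' : List B, wp σ ω' = wp σ ω → ω.length ≤ ω'.length

/-- The exchange condition. -/
def Exchange : Prop :=
  ∀ (b : B) (ω : List B), IsRed σ ω → ¬ IsRed σ (b :: ω) →
    ∃ (ω₁ : List B) (a : B) (ω₂ : List B), ω = ω₁ ++ a :: ω₂ ∧ σ b * wp σ ω₁ = wp σ ω₁ * σ a

/-- The alternating word `x y x y ...` of length `k`, starting with `x`. -/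
def alt : B → B → ℕ → List B
  | _, _, 0 => []
  | x, y, k + 1 => x :: alt y x k

variable {σ}

theorem wp_nil : wp σ [] = 1 := rfl

theorem wp_cons (b : B) (ω : List B) : wp σ (b :: ω) = σ b * wp σ ω := by
  simp [wp]

theorem wp_append (ω ω' : List B) : wp σ (ω ++ ω') = wp σ ω * wp σ ω' := by
  simp [wp]

theorem alt_zero (x y : B) : alt x y 0 = [] := rfl

theorem alt_succ (x y : B) (k : ℕ) : alt x y (k + 1) = x :: alt y x k := rfl

theorem length_alt (x y : B) (k : ℕ) : (alt x y k).length = k := by
  induction k generalizing x y with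
  | zero => rfl
  | succ k ih => rw [alt_succ, List.length_cons, ih]

theorem mem_alt {x y z : B} {k : ℕ} (h : z ∈ alt x y k) : z = x ∨ z = y := by
  induction k generalizing x y with
  | zero => simp [alt_zero] at h
  | succ k ih =>
    rw [alt_succ, List.mem_cons] at h
    rcases h with h | h
    · exact Or.inl h
    · exact (ih h).symm

theorem wp_alt_mul_inv {x y : B} (hx : σ x * σ x = 1) (hy : σ y * σ y = 1) (k : ℕ) :
    wp σ (alt x y k) * (wp σ (alt y x k))⁻¹ = (σ x * σ y) ^ k := by
  induction k generalizing x y with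
  | zero => simp [alt_zero, wp_nil]
  | succ k ih =>
    have hyi : (σ y)⁻¹ = σ y := inv_eq_of_mul_eq_one_left hy
    rw [alt_succ, alt_succ, wp_cons, wp_cons, mul_inv_rev, hyi]
    calc σ x * wp σ (alt y x k) * ((wp σ (alt x y k))⁻¹ * σ y)
        = σ x * (wp σ (alt y x k) * (wp σ (alt x y k))⁻¹) * σ y := by group
      _ = σ x * (σ y * σ x) ^ k * σ y := by rw [ih hy hx]
      _ = (σ x * σ y) ^ (k + 1) := by
        rw [← mul_pow_mul, mul_assoc, ← pow_succ]

theorem IsRed.tail {b : B} {ω : List B} (h : IsRed σ (b :: ω)) : IsRed σ ω := by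
  intro ω' hω'
  have := h (b :: ω') (by rw [wp_cons, wp_cons, hω'])
  simpa using this

theorem IsRed.left {ω₁ ω₂ : List B} (h : IsRed σ (ω₁ ++ ω₂)) : IsRed σ ω₁ := by
  intro ω' hω'
  have := h (ω' ++ ω₂) (by rw [wp_append, wp_append, hω'])
  simpa using this

theorem IsRed.right {ω₁ ω₂ : List B} (h : IsRed σ (ω₁ ++ ω₂)) : IsRed σ ω₂ := by
  intro ω' hω'
  have := h (ω₁ ++ ω') (by rw [wp_append, wp_append, hω'])
  simpa using this

theorem IsRed.congr {ω ω' : List B} (h : IsRed σ ω) (hw : wp σ ω' = wp σ ω)
    (hl : ω'.length = ω.length) : IsRed σ ω' := by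
  intro ω'' hω''
  rw [hl]
  exact h ω'' (hω''.trans hw)

theorem isRed_nil : IsRed σ ([] : List B) := fun _ _ => Nat.zero_le _

/-- Every word in two letters has the product of an alternating word which is not longer. -/
theorem exists_alt (hsq : ∀ b, σ b * σ b = 1) {x y : B} (ω : List B)
    (hω : ∀ z ∈ ω, z = x ∨ z = y) :
    ∃ j ≤ ω.length, wp σ ω = wp σ (alt x y j) ∨ wp σ ω = wp σ (alt y x j) := by
  induction ω with
  | nil => exact ⟨0, le_rfl, Or.inl rfl⟩
  | cons b ω ih =>
    obtain ⟨j, hj, h⟩ := ih fun z hz => hω z (List.mem_cons_of_mem _ hz)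
    have aux : ∀ p q : B, b = p → (wp σ ω = wp σ (alt p q j) ∨ wp σ ω = wp σ (alt q p j)) →
        ∃ j ≤ (b :: ω).length,
          wp σ (b :: ω) = wp σ (alt p q j) ∨ wp σ (b :: ω) = wp σ (alt q p j) := by
      rintro p q rfl (h | h)
      · cases j with
        | zero =>
          refine ⟨1, by simp, Or.inl ?_⟩
          rw [wp_cons, h]
          simp [alt_succ, alt_zero, wp_cons, wp_nil]
        | succ j =>
          refine ⟨j, by rw [List.length_cons]; omega, Or.inr ?_⟩
          rw [wp_cons, h, alt_succ, wp_cons, ← mul_assoc, hsq, one_mul]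
      · refine ⟨j + 1, by rw [List.length_cons]; omega, Or.inl ?_⟩
        rw [wp_cons, h, alt_succ, wp_cons]
    rcases hω b List.mem_cons_self with hb | hb
    · exact aux x y hb h
    · obtain ⟨j', hj', h'⟩ := aux y x hb h.symm
      exact ⟨j', hj', h'.symm⟩

section main

variable (hsq : ∀ b, σ b * σ b = 1) (hinj : Function.Injective σ) (hex : Exchange σ)
include hsq hinj hex

theorem step {x y : B} (hxy : x ≠ y) {w : W} {L k : ℕ} {ρ ωy : List B}
    (hL : ∀ ω : List B, wp σ ω = w → L ≤ ω.length)
    (hy : wp σ (y :: ωy) = w) (hyL : (y :: ωy).length = L)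
    (hρ : wp σ (alt x y k ++ ρ) = w) (hρL : ρ.length + k = L) :
    (∃ ρ', wp σ (alt y x (k + 1) ++ ρ') = w ∧ ρ'.length + (k + 1) = L) ∨
      (0 < k ∧ wp σ (alt x y k) = wp σ (alt y x k)) := by
  have hlen : (alt x y k ++ ρ).length = L := by
    rw [List.length_append, length_alt]; omega
  have hred : IsRed σ (alt x y k ++ ρ) := by
    intro ω hω
    rw [hlen]
    exact hL ω (hω.trans hρ)
  have hnred : ¬ IsRed σ (y :: (alt x y k ++ ρ)) := by
    intro h
    have h1 := h ωy (by
      rw [wp_cons, hρ, ← hy, wp_cons, ← mul_assoc, hsq, one_mul])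
    rw [List.length_cons] at h1 hyL
    omega
  obtain ⟨ω₁, a, ω₂, h1, h2⟩ := hex y _ hred hnred
  -- `w = y ω₁ ω₂`
  have hw : w = wp σ (y :: (ω₁ ++ ω₂)) := by
    rw [← hρ, h1, wp_append, wp_cons, wp_cons, wp_append, ← mul_assoc, ← h2, mul_assoc]
  have hlen2 : ω₁.length + ω₂.length + 1 = L := by
    rw [h1, List.length_append, List.length_cons] at hlen
    omega
  have hmain : ∀ c' : List B, ω₁ = alt x y k ++ c' → ρ = c' ++ a :: ω₂ →
      (∃ ρ', wp σ (alt y x (k + 1) ++ ρ') = w ∧ ρ'.length + (k + 1) = L) := by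
    intro c' hc1 hc2
    refine ⟨c' ++ ω₂, ?_, ?_⟩
    · rw [hw, hc1, alt_succ, List.cons_append, List.append_assoc]
    · rw [hc2, List.length_append, List.length_cons] at hρL
      rw [List.length_append]
      omega
  rcases List.append_eq_append_iff.1 h1 with ⟨c', hc1, hc2⟩ | ⟨c', hc1, hc2⟩
  · exact Or.inl (hmain c' hc1 hc2)
  · cases c' with
    | nil =>
      left
      refine hmain [] ?_ ?_
      · rw [hc1]; simp
      · rw [List.nil_append] at hc2 ⊢
        exact hc2.symm
    | cons a' c' =>
      rw [List.cons_append, List.cons.injEq] at hc2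
      obtain ⟨rfl, hc2⟩ := hc2
      right
      have hk : ω₁.length + c'.length + 1 = k := by
        have := congrArg List.length hc1
        rw [length_alt, List.length_append, List.length_cons] at this
        omega
      refine ⟨by omega, ?_⟩
      -- `y * A x y k = ω₁ c'`
      have h3 : wp σ (alt x y k) = σ y * wp σ (ω₁ ++ c') := by
        rw [hc1, wp_append, wp_cons, wp_append, ← mul_assoc, ← h2, mul_assoc]
      obtain ⟨j, hj, h4⟩ := exists_alt (σ := σ) hsq (x := x) (y := y) (ω₁ ++ c') (by
        intro z hz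
        apply mem_alt (k := k)
        rw [hc1]
        rcases List.mem_append.1 hz with hz | hz
        · exact List.mem_append_left _ hz
        · exact List.mem_append_right _ (List.mem_cons_of_mem _ hz))
      rw [List.length_append] at hj
      have hredA : IsRed σ (alt x y k) := hred.left
      obtain ⟨k, rfl⟩ : ∃ k', k = k' + 1 := ⟨k - 1, by omega⟩
      have hjk : j = k := by
        rcases h4 with h4 | h4
        · have h5 := hredA (y :: alt x y j) (by rw [wp_cons, ← h4, h3])
          rw [length_alt, List.length_cons, length_alt] at h5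
          omega
        · have h5 := hredA (y :: alt y x j) (by rw [wp_cons, ← h4, h3])
          rw [length_alt, List.length_cons, length_alt] at h5
          omega
      subst hjk
      rcases h4 with h4 | h4
      · rw [h3, h4, alt_succ y x, wp_cons]
      · exfalso
        rw [h4] at h3
        cases j with
        | zero =>
          rw [alt_zero, wp_nil, mul_one, alt_succ, wp_cons, alt_zero, wp_nil, mul_one] at h3
          exact hxy (hinj h3)
        | succ j =>
          rw [alt_succ y x, wp_cons, ← mul_assoc, hsq, one_mul] at h3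
          have h5 := hredA (alt x y j) h3.symm
          rw [length_alt, length_alt] at h5
          omega

/-- If `w` has the two left descents `s ≠ t`, then it has a reduced word starting with the longest
word of the dihedral group. -/
theorem dihedral_aux {w : W} {L : ℕ} (hL : ∀ ω : List B, wp σ ω = w → L ≤ ω.length) (d : ℕ) :
    ∀ {x y : B} (_ : x ≠ y) {k : ℕ} {ρ ωx ωy : List B},
    wp σ (x :: ωx) = w → (x :: ωx).length = L →
    wp σ (y :: ωy) = w → (y :: ωy).length = L →
    wp σ (alt x y k ++ ρ) = w → ρ.length + k = L → L - k = d →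
    ∃ k ρ, 0 < k ∧ wp σ (alt x y k) = wp σ (alt y x k) ∧ wp σ (alt x y k ++ ρ) = w ∧
      ρ.length + k = L := by
  induction d using Nat.strong_induction_on with
  | _ d ih =>
    intro x y hxy k ρ ωx ωy hx hxL hy hyL hρ hρL hd
    rcases step hsq hinj hex hxy hL hy hyL hρ hρL with ⟨ρ', h1, h2⟩ | ⟨h1, h2⟩
    · obtain ⟨k', ρ'', h3, h4, h5, h6⟩ := ih (L - (k + 1)) (by omega) hxy.symm hy hyL hx hxL h1 h2
        rfl
      refine ⟨k', ρ'', h3, h4.symm, ?_, h6⟩
      rw [← h5, wp_append, wp_append, h4]
    · exact ⟨k, ρ, h1, h2, hρ, hρL⟩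

omit hinj hex in
theorem pow_eq_one_iff {x y : B} (k : ℕ) :
    (σ x * σ y) ^ k = 1 ↔ wp σ (alt x y k) = wp σ (alt y x k) := by
  rw [← wp_alt_mul_inv (hsq x) (hsq y), mul_inv_eq_one]

omit hinj hex in
theorem not_isRed_alt {x y : B} {m : ℕ} (hm : 0 < m)
    (h : wp σ (alt x y m) = wp σ (alt y x m)) (k : ℕ) (hk : m < k) :
    ¬ IsRed σ (alt x y k) ∧ ¬ IsRed σ (alt y x k) := by
  have aux : ∀ p q : B, wp σ (alt p q m) = wp σ (alt q p m) → ¬ IsRed σ (alt p q (m + 1)) := by
    intro p q hpq hred
    obtain ⟨m, rfl⟩ : ∃ m', m = m' + 1 := ⟨m - 1, by omega⟩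
    have h1 := hred (alt q p m) (by
      rw [alt_succ p q (m + 1), wp_cons, ← hpq, alt_succ, wp_cons, ← mul_assoc, hsq, one_mul])
    rw [length_alt, length_alt] at h1
    omega
  induction k, hk using Nat.le_induction with
  | base => exact ⟨aux x y h, aux y x h.symm⟩
  | succ k _ ih => exact ⟨fun hr => ih.2 hr.tail, fun hr => ih.1 hr.tail⟩

theorem dihedral {w : W} {L : ℕ} (hL : ∀ ω : List B, wp σ ω = w → L ≤ ω.length)
    {x y : B} (hxy : x ≠ y) {ωx ωy : List B}
    (hx : wp σ (x :: ωx) = w) (hxL : (x :: ωx).length = L)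
    (hy : wp σ (y :: ωy) = w) (hyL : (y :: ωy).length = L) :
    0 < orderOf (σ x * σ y) ∧
    ∃ ρ, wp σ (alt x y (orderOf (σ x * σ y)) ++ ρ) = w ∧
      ρ.length + orderOf (σ x * σ y) = L := by
  obtain ⟨k, ρ, h1, h2, h3, h4⟩ := dihedral_aux hsq hinj hex hL (L - 1) hxy (k := 1) (ρ := ωx)
    hx hxL hy hyL (by simpa [alt_succ, alt_zero] using hx) (by simpa using hxL) rfl
  have h5 : (σ x * σ y) ^ k = 1 := (pow_eq_one_iff hsq k).2 h2
  have h6 : 0 < orderOf (σ x * σ y) := orderOf_pos_iff.2 (isOfFinOrder_iff_pow_eq_one.2 ⟨k, h1, h5⟩)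
  have h7 : orderOf (σ x * σ y) ≤ k := orderOf_le_of_pow_eq_one h1 h5
  have h8 : orderOf (σ x * σ y) = k := by
    by_contra hne
    have h9 := (not_isRed_alt hsq h6 ((pow_eq_one_iff hsq _).1 (pow_orderOf_eq_one _)) k
      (lt_of_le_of_ne h7 hne)).1
    apply h9
    have h10 : IsRed σ (alt x y k ++ ρ) := by
      intro ω hω
      rw [List.length_append, length_alt, add_comm, h4]
      exact hL ω (hω.trans h3)
    exact h10.left
  rw [h8]
  exact ⟨h1, ρ, h3, h4⟩

/-- Matsumoto's theorem: a family satisfying the braid relations takes the same value on any two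
reduced words with the same product. -/
theorem matsumoto {H : Type*} [Monoid H] (f : B → H)
    (hf : ∀ x y : B, x ≠ y → 0 < orderOf (σ x * σ y) →
      ((alt x y (orderOf (σ x * σ y))).map f).prod = ((alt y x (orderOf (σ x * σ y))).map f).prod)
    (n : ℕ) : ∀ ω ω' : List B, ω.length = n → ω'.length = n → IsRed σ ω → wp σ ω = wp σ ω' →
      (ω.map f).prod = (ω'.map f).prod := by
  induction n with
  | zero =>
    intro ω ω' h h' _ _
    rw [List.length_eq_zero_iff] at h h'
    rw [h, h']
  | succ n ih =>
    have same : ∀ (x : B) (ω ω' : List B), (x :: ω).length = n + 1 → (x :: ω').length = n + 1 →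
        IsRed σ (x :: ω) → wp σ (x :: ω) = wp σ (x :: ω') →
        ((x :: ω).map f).prod = ((x :: ω').map f).prod := by
      intro x ω ω' h h' hred hw
      rw [wp_cons, wp_cons] at hw
      rw [List.map_cons, List.prod_cons, List.map_cons, List.prod_cons,
        ih ω ω' (by simpa using h) (by simpa using h') hred.tail (mul_left_cancel hw)]
    intro ω ω' h h' hred hw
    cases ω with
    | nil => simp at h
    | cons x ω =>
      cases ω' with
      | nil => simp at h'
      | cons y ω' =>
        by_cases hxy : x = y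
        · subst hxy
          exact same x ω ω' h h' hred hw
        · have hL : ∀ ω'' : List B, wp σ ω'' = wp σ (x :: ω) → n + 1 ≤ ω''.length := by
            intro ω'' h''
            rw [← h]
            exact hred ω'' h''
          obtain ⟨hm, ρ, h1, h2⟩ := dihedral hsq hinj hex hL hxy rfl h hw.symm h'
          have hbraid := hf x y hxy hm
          have hbraid' := (pow_eq_one_iff hsq (x := x) (y := y) _).1 (pow_orderOf_eq_one _)
          obtain ⟨m, hm'⟩ : ∃ m, orderOf (σ x * σ y) = m + 1 := ⟨orderOf (σ x * σ y) - 1, by omega⟩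
          rw [hm'] at h1 h2 hbraid hbraid'
          have h3 : ((x :: ω).map f).prod = ((x :: (alt y x m ++ ρ)).map f).prod := by
            refine same x ω _ h ?_ hred ?_
            · rw [List.length_cons, List.length_append, length_alt]; omega
            · rw [← List.cons_append, ← alt_succ, h1]
          have h4 : ((y :: ω').map f).prod = ((y :: (alt x y m ++ ρ)).map f).prod := by
            refine same y ω' _ h' ?_ (hred.congr hw.symm (by rw [h, h'])) ?_
            · rw [List.length_cons, List.length_append, length_alt]; omega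
            · rw [← List.cons_append, ← alt_succ, ← hw, ← h1, wp_append, wp_append, hbraid']
          rw [h3, h4, ← List.cons_append, ← List.cons_append, ← alt_succ, ← alt_succ,
            List.map_append, List.map_append, List.prod_append, List.prod_append, hbraid]

end main

variable (σ) in
/-- The Coxeter matrix of a family of involutions. -/
noncomputable def coxMatrix (hsq : ∀ b, σ b * σ b = 1) (hinj : Function.Injective σ) :
    CoxeterMatrix B where
  M := Matrix.of fun x y => orderOf (σ x * σ y)
  isSymm := by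
    ext x y
    show orderOf (σ y * σ x) = orderOf (σ x * σ y)
    have hx : (σ x)⁻¹ = σ x := inv_eq_of_mul_eq_one_left (hsq x)
    have hy : (σ y)⁻¹ = σ y := inv_eq_of_mul_eq_one_left (hsq y)
    rw [← orderOf_inv (σ x * σ y), mul_inv_rev, hx, hy]
  diagonal := by
    intro x
    show orderOf (σ x * σ x) = 1
    rw [hsq, orderOf_one]
  off_diagonal := by
    intro x y hxy h
    have h1 : orderOf (σ x * σ y) = 1 := h
    rw [orderOf_eq_one_iff] at h1
    apply hxy
    apply hinj
    rw [← hsq x] at h1
    exact (mul_left_cancel h1).symm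

theorem coxMatrix_apply (hsq : ∀ b, σ b * σ b = 1) (hinj : Function.Injective σ) (x y : B) :
    coxMatrix σ hsq hinj x y = orderOf (σ x * σ y) := rfl

/-- A group generated by involutions with the exchange condition is a Coxeter group. -/
theorem exists_coxeterSystem (hsq : ∀ b, σ b * σ b = 1) (hinj : Function.Injective σ)
    (hex : Exchange σ) (hgen : ∀ w : W, ∃ ω : List B, wp σ ω = w) :
    ∃ cs : CoxeterSystem (coxMatrix σ hsq hinj) W, ∀ b, cs.simple b = σ b := by
  set M := coxMatrix σ hsq hinj with hM
  have hlift : CoxeterMatrix.IsLiftable M σ := by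
    intro x y
    rw [hM, coxMatrix_apply, pow_orderOf_eq_one]
  let cs := M.toCoxeterSystem
  let φ : M.Group →* W := cs.lift ⟨σ, hlift⟩
  have hφ : ∀ b, φ (cs.simple b) = σ b := fun b => cs.lift_apply_simple hlift b
  have hφw : ∀ ω : List B, φ (cs.wordProd ω) = wp σ ω := by
    intro ω
    induction ω with
    | nil => rw [CoxeterSystem.wordProd_nil, map_one, wp_nil]
    | cons b ω ih => rw [CoxeterSystem.wordProd_cons, map_mul, hφ, ih, wp_cons]
  have hwp : ∀ ω : List B, (ω.map cs.simple).prod = cs.wordProd ω := fun ω => rfl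
  have hcssq : ∀ b, cs.simple b * cs.simple b = 1 := cs.simple_mul_simple_self
  have hbraid : ∀ x y : B, x ≠ y → 0 < orderOf (σ x * σ y) →
      ((alt x y (orderOf (σ x * σ y))).map cs.simple).prod
        = ((alt y x (orderOf (σ x * σ y))).map cs.simple).prod := by
    intro x y _ _
    have h1 : (cs.simple x * cs.simple y) ^ orderOf (σ x * σ y) = 1 :=
      cs.simple_mul_simple_pow x y
    exact (pow_eq_one_iff (σ := cs.simple) hcssq _).1 h1
  have hmat := fun n => matsumoto hsq hinj hex cs.simple hbraid n
  -- every word has a reduced word with the same product in `M.Group`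
  have hkey : ∀ ω : List B, ∃ ω' : List B, IsRed σ ω' ∧ cs.wordProd ω' = cs.wordProd ω := by
    intro ω
    induction ω with
    | nil => exact ⟨[], isRed_nil, rfl⟩
    | cons b ω ih =>
      obtain ⟨ω', hred, hω'⟩ := ih
      by_cases hb : IsRed σ (b :: ω')
      · exact ⟨b :: ω', hb, by rw [CoxeterSystem.wordProd_cons, CoxeterSystem.wordProd_cons, hω']⟩
      · obtain ⟨ω₁, a, ω₂, h1, h2⟩ := hex b ω' hred hb
        -- `ω' = b ω₁ ω₂`
        have h3 : wp σ ω' = wp σ (b :: (ω₁ ++ ω₂)) := by
          rw [h1, wp_append, wp_cons, wp_cons, wp_append, ← mul_assoc, ← h2, mul_assoc]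
        have h4 : (b :: (ω₁ ++ ω₂)).length = ω'.length := by
          rw [h1, List.length_cons, List.length_append, List.length_append, List.length_cons]
          omega
        have h5 := hmat ω'.length ω' _ rfl h4 hred h3
        rw [hwp, hwp] at h5
        refine ⟨ω₁ ++ ω₂, (hred.congr h3.symm h4).tail, ?_⟩
        rw [CoxeterSystem.wordProd_cons, ← hω', h5, CoxeterSystem.wordProd_cons, ← mul_assoc,
          hcssq, one_mul]
  have hφinj : Function.Injective φ := by
    rw [injective_iff_map_eq_one]
    intro g hg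
    obtain ⟨ω, rfl⟩ := cs.wordProd_surjective g
    obtain ⟨ω', hred, hω'⟩ := hkey ω
    rw [← hω', hφw] at hg
    have h1 := hred [] (by rw [hg, wp_nil])
    rw [List.length_nil, Nat.le_zero, List.length_eq_zero_iff] at h1
    rw [← hω', h1, CoxeterSystem.wordProd_nil]
  have hφsurj : Function.Surjective φ := by
    intro w
    obtain ⟨ω, rfl⟩ := hgen w
    exact ⟨cs.wordProd ω, hφw ω⟩
  let e : M.Group ≃* W := MulEquiv.ofBijective φ ⟨hφinj, hφsurj⟩
  refine ⟨cs.map e, fun b => ?_⟩
  rw [CoxeterSystem.map_simple]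
  exact hφ b

end Cfsg.Agent.LieExceptional.CoxeterExchange
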