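import Mathlib
import Cfsg.Agent.LieExceptional.CITDefs
import Cfsg.Agent.SignalizersComponents.CoprimeBasic
set_option linter.all false

/-!
# CIT project: two basic facts used in part C1
* `omegaZ_ne_bot`: `Ω₁(Z(X)) ≠ 1` for a 2-group `X ≠ 1`;
* `mem_of_centralizes`: `C_M(Ω₁(Z(O₂(M)))) ≤ O₂(M)` in a CIT group;
* `quotient_isCIT`: the quotient of a CIT group by a normal 2-subgroup is CIT.
-/

set_option autoImplicit false

namespace Cfsg.Agent.LieExceptional.CITFFAux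

open Cfsg.Agent.LieExceptional.CITDefs

variable {G : Type*} [Group G]

theorem omegaZ_ne_bot [Finite G] {X : Subgroup G} (hX : IsPGroup 2 X) (hX1 : X ≠ ⊥) :
    omegaZ X ≠ ⊥ := by
  have _ : Fact (Nat.Prime 2) := ⟨Nat.prime_two⟩
  have _ : Nontrivial X := (Subgroup.nontrivial_iff_ne_bot X).2 hX1
  have h1 := hX.center_nontrivial
  obtain ⟨⟨z, hz⟩, hz1⟩ := exists_ne (1 : Subgroup.center X)
  have hz1' : z ≠ 1 := fun h => hz1 (Subtype.ext h)
  obtain ⟨k, hk⟩ := hX z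
  -- a power of `z` of order 2
  have h2 : orderOf z ∣ 2 ^ k := orderOf_dvd_of_pow_eq_one hk
  obtain ⟨j, hj, hj2⟩ := (Nat.dvd_prime_pow Nat.prime_two).1 h2
  have hj0 : j ≠ 0 := by
    rintro rfl
    rw [pow_zero] at hj2
    exact hz1' (orderOf_eq_one_iff.1 hj2)
  obtain ⟨i, rfl⟩ := Nat.exists_eq_succ_of_ne_zero hj0
  have h3 : z ^ 2 ^ i ≠ 1 := by
    intro h
    have h4 := orderOf_dvd_of_pow_eq_one h
    rw [hj2] at h4
    have h5 := Nat.le_of_dvd (by positivity) h4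
    have h6 : 2 ^ i < 2 ^ (i + 1) := Nat.pow_lt_pow_right (by norm_num) (Nat.lt_succ_self i)
    omega
  have h4 : z ^ 2 ^ i * z ^ 2 ^ i = 1 := by
    rw [← pow_add, ← two_mul, ← pow_succ', ← Nat.succ_eq_add_one, ← hj2, pow_orderOf_eq_one]
  intro h
  have h5 : ((z ^ 2 ^ i : X) : G) ∈ omegaZ X := by
    refine ⟨(z ^ 2 ^ i).2, congrArg Subtype.val h4, fun y hy => ?_⟩
    have h6 := (Subgroup.mem_center_iff.1 (pow_mem hz (2 ^ i))) ⟨y, hy⟩
    exact (congrArg Subtype.val h6).symm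
  rw [h, Subgroup.mem_bot] at h5
  exact h3 (Subtype.ext h5)

theorem omegaZ_conj {M X : Subgroup G} (hn : ∀ m ∈ M, ∀ x ∈ X, m * x * m⁻¹ ∈ X) :
    ∀ m ∈ M, ∀ v ∈ omegaZ X, m * v * m⁻¹ ∈ omegaZ X := by
  rintro m hm v ⟨hv, hv2, hvc⟩
  refine ⟨hn m hm v hv, ?_, fun y hy => ?_⟩
  · calc m * v * m⁻¹ * (m * v * m⁻¹) = m * (v * v) * m⁻¹ := by group
      _ = 1 := by rw [hv2]; group
  · have h1 : m⁻¹ * y * m ∈ X := by
      have := hn m⁻¹ (M.inv_mem hm) y hy
      simpa using this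
    have h2 := hvc _ h1
    calc m * v * m⁻¹ * y = m * (v * (m⁻¹ * y * m)) * m⁻¹ := by group
      _ = m * (m⁻¹ * y * m * v) * m⁻¹ := by rw [h2]
      _ = y * (m * v * m⁻¹) := by group

/-- the elements of `M` centralising `Ω₁(Z(X))` -/
def centOmega (M X : Subgroup G) : Subgroup G := M ⊓ Subgroup.centralizer (omegaZ X : Set G)

theorem mem_of_centralizes [Finite G] (hG : IsCIT G) {M X : Subgroup G} (hX : IsO2 M X)
    (hX1 : X ≠ ⊥) {m : G} (hm : m ∈ M) (hc : ∀ v ∈ omegaZ X, m * v = v * m) : m ∈ X := by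
  obtain ⟨z, hz, hz1⟩ : ∃ z ∈ omegaZ X, z ≠ 1 := by
    by_contra h
    push Not at h
    exact omegaZ_ne_bot hX.two hX1 (eq_bot_iff.2 fun x hx => Subgroup.mem_bot.2 (h x hx))
  have hz2 : orderOf z = 2 := orderOf_eq_prime (by rw [sq]; exact hz.2.1) hz1
  have h1 : centOmega M X ≤ X := by
    apply hX.max _ inf_le_left
    · rintro ⟨x, hx⟩
      obtain ⟨k, hk⟩ := hG z hz2 ⟨x, by
        rw [Subgroup.mem_centralizer_singleton_iff]
        exact ((Subgroup.mem_centralizer_iff.1 hx.2) z hz).symm⟩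
      have hk' : x ^ 2 ^ k = 1 := congrArg Subtype.val hk
      exact ⟨k, Subtype.ext hk'⟩
    · intro m hm y hy
      refine ⟨M.mul_mem (M.mul_mem hm hy.1) (M.inv_mem hm), ?_⟩
      show m * y * m⁻¹ ∈ Subgroup.centralizer (omegaZ X : Set G)
      rw [Subgroup.mem_centralizer_iff]
      intro v hv
      have h2 : m⁻¹ * v * m ∈ omegaZ X := by
        have := omegaZ_conj hX.normal m⁻¹ (M.inv_mem hm) v hv
        simpa using this
      have h3 := (Subgroup.mem_centralizer_iff.1 hy.2) _ h2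
      calc v * (m * y * m⁻¹) = m * (m⁻¹ * v * m * y) * m⁻¹ := by group
        _ = m * (y * (m⁻¹ * v * m)) * m⁻¹ := by rw [h3]
        _ = m * y * m⁻¹ * v := by group
  exact h1 ⟨hm, Subgroup.mem_centralizer_iff.2 fun v hv => (hc v hv).symm⟩

theorem quotient_isCIT [Finite G] (hG : IsCIT G) (X : Subgroup G) [X.Normal] (hX : IsPGroup 2 X) :
    IsCIT (G ⧸ X) := by
  intro t ht
  -- it suffices to exclude elements of odd prime order commuting with `t`
  have key : ∀ (p : ℕ), p.Prime → p ≠ 2 → ∀ x : G ⧸ X, x * t = t * x → orderOf x ≠ p := by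
    intro p hp hp2 x hxt hxp
    have _ : Fact p.Prime := ⟨hp⟩
    obtain ⟨y, rfl⟩ := QuotientGroup.mk_surjective x
    obtain ⟨s, rfl⟩ := QuotientGroup.mk_surjective t
    have h1 : y ^ p ∈ X := by
      rw [← QuotientGroup.eq_one_iff, QuotientGroup.mk_pow, ← hxp, pow_orderOf_eq_one]
    obtain ⟨l, hl⟩ := hX ⟨y ^ p, h1⟩
    have hl' : (y ^ p) ^ 2 ^ l = 1 := congrArg Subtype.val hl
    set a := y ^ 2 ^ l with ha
    have hap : a ^ p = 1 := by rw [ha, ← pow_mul, mul_comm, pow_mul, hl']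
    have hpodd : ¬ p ∣ Nat.card X := by
      intro h
      obtain ⟨z, hz⟩ := exists_prime_orderOf_dvd_card' (G := X) p h
      obtain ⟨k, hk⟩ := hX z
      have h2 : orderOf z ∣ 2 ^ k := orderOf_dvd_of_pow_eq_one hk
      rw [hz] at h2
      exact hp2 ((Nat.prime_dvd_prime_iff_eq hp Nat.prime_two).1 (hp.dvd_of_dvd_pow h2))
    have hcomm : (a : G ⧸ X) * (s : G ⧸ X) = s * a := by
      rw [ha, QuotientGroup.mk_pow]
      exact (Commute.pow_left hxt (2 ^ l)).eq
    obtain ⟨d, hd, hda⟩ := Cfsg.Agent.SignalizersComponents.CoprimeBasic.exists_fixed_in_coset_of_pow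
      (p := p) a 1 (by rw [pow_one]; exact hap) X hpodd
      (fun d hd => (inferInstance : X.Normal).conj_mem d hd a) s (by
        rw [← QuotientGroup.eq_one_iff, QuotientGroup.mk_mul, QuotientGroup.mk_mul,
          QuotientGroup.mk_mul, QuotientGroup.mk_inv, QuotientGroup.mk_inv, hcomm]
        group)
    -- `s d` has even order
    have h3 : ((s * d : G) : G ⧸ X) = s := by
      rw [QuotientGroup.mk_mul, (QuotientGroup.eq_one_iff d).2 hd, mul_one]
    have h4 : 2 ∣ orderOf (s * d) := by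
      rw [← ht, ← h3]
      exact orderOf_map_dvd (QuotientGroup.mk' X) (s * d)
    have h5 : orderOf ((s * d) ^ (orderOf (s * d) / 2)) = 2 :=
      orderOf_pow_orderOf_div (orderOf_pos _).ne' h4
    obtain ⟨k, hk⟩ := hG _ h5 ⟨a, by
      rw [Subgroup.mem_centralizer_singleton_iff]
      exact (Commute.pow_right (show Commute a (s * d) from hda) _).eq⟩
    have hk' : a ^ 2 ^ k = 1 := congrArg Subtype.val hk
    have h6 : orderOf a = 1 := by
      have h7 : orderOf a ∣ p := orderOf_dvd_of_pow_eq_one hap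
      have h8 : orderOf a ∣ 2 ^ k := orderOf_dvd_of_pow_eq_one hk'
      have h9 : Nat.Coprime p (2 ^ k) :=
        Nat.Coprime.pow_right k ((Nat.coprime_primes hp Nat.prime_two).2 hp2)
      exact Nat.eq_one_of_dvd_coprimes h9 h7 h8
    have h7 : a = 1 := orderOf_eq_one_iff.1 h6
    have h8 : (y : G ⧸ X) ^ 2 ^ l = 1 := by
      rw [← QuotientGroup.mk_pow, ← ha, h7, QuotientGroup.mk_one]
    have h9 : p ∣ 2 ^ l := by
      rw [← hxp]
      exact orderOf_dvd_of_pow_eq_one h8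
    exact hp2 ((Nat.prime_dvd_prime_iff_eq hp Nat.prime_two).1 (hp.dvd_of_dvd_pow h9))
  rintro ⟨x, hx⟩
  rw [Subgroup.mem_centralizer_singleton_iff] at hx
  obtain ⟨k, m, hm, hkm⟩ := Nat.exists_eq_two_pow_mul_odd (n := orderOf x) (orderOf_pos x).ne'
  refine ⟨k, ?_⟩
  have h1 : m = 1 := by
    by_contra hm1
    obtain ⟨p, hp, hpm⟩ := Nat.exists_prime_and_dvd hm1
    have hp2 : p ≠ 2 := by
      rintro rfl
      exact (Nat.not_even_iff_odd.2 hm) (even_iff_two_dvd.2 hpm)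
    have h2 : p ∣ orderOf x := hkm ▸ hpm.mul_left _
    exact key p hp hp2 _ (Commute.pow_left (show Commute x t from hx) _).eq
      (orderOf_pow_orderOf_div (orderOf_pos x).ne' h2)
  have h2 : x ^ 2 ^ k = 1 := by
    rw [h1, mul_one] at hkm
    rw [← hkm, pow_orderOf_eq_one]
  exact Subtype.ext h2

end Cfsg.Agent.LieExceptional.CITFFAux
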