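import Mathlib
import Cfsg.Agent.LieClassical.SLGen
set_option linter.all false

-- part: LieExceptional/PlaneGeom
section
/-!
# The projective plane of a pair of parabolic-like subgroups

`G` a group with subgroups `P1, P2` and `V1 ⊴ P1`, `V2 ⊴ P2` behaving like the two maximal parabolic subgroups
of `PSL₃(q)` and their unipotent radicals. Points: cosets of `P1`; lines: translates of the `P2`-orbit `L0` of the
base point.
-/

set_option autoImplicit false

namespace Cfsg.Agent.LieExceptional.PlaneGeom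

open scoped Pointwise

universe u

/-- group data of a projective plane of order `q` with all elations -/
structure PlaneData (G : Type u) [Group G] (P1 P2 V1 V2 : Subgroup G) (q : ℕ) : Prop where
  hq : 2 ≤ q
  V1_le_P1 : V1 ≤ P1
  V1_le_P2 : V1 ≤ P2
  V2_le_P1 : V2 ≤ P1
  V2_le_P2 : V2 ≤ P2
  V1_norm : ∀ g ∈ P1, ∀ v ∈ V1, g * v * g⁻¹ ∈ V1
  V2_norm : ∀ g ∈ P2, ∀ v ∈ V2, g * v * g⁻¹ ∈ V2
  index_G : P1.index = q ^ 2 + q + 1
  index_1 : P2.relIndex P1 = q + 1
  index_2 : P1.relIndex P2 = q + 1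
  card_V2 : Nat.card V2 = q ^ 2
  card_W : Nat.card (V1 ⊓ V2 : Subgroup G) = q
  H1 : ∀ g ∈ P1, g ∉ P2 → ∀ w ∈ V1 ⊓ V2, g * w * g⁻¹ ∈ V1 ⊓ V2 → w = 1
  H2 : ∀ g ∈ P2, g ∉ P1 → ∀ w ∈ V1 ⊓ V2, g * w * g⁻¹ ∈ V1 ⊓ V2 → w = 1
  H3 : ∀ g ∈ P2, g ∉ P1 → ∀ v ∈ V1, g⁻¹ * v * g ∈ P1 → v ∈ V2

variable {G : Type u} [Group G] {P1 P2 V1 V2 : Subgroup G} {q : ℕ}

/-- base point -/
def o (P1 : Subgroup G) : G ⧸ P1 := ((1 : G) : G ⧸ P1)

/-- base line -/
def L0 (P1 P2 : Subgroup G) : Set (G ⧸ P1) := {x | ∃ p ∈ P2, (p : G ⧸ P1) = x}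

theorem o_mem : o P1 ∈ L0 P1 P2 := ⟨1, P2.one_mem, rfl⟩

theorem smul_o (g : G) : g • o P1 = (g : G ⧸ P1) := by
  rw [o, MulAction.Quotient.smul_mk, smul_eq_mul, mul_one]

theorem mk_eq_o_iff (g : G) : (g : G ⧸ P1) = o P1 ↔ g ∈ P1 := by
  rw [o, eq_comm, QuotientGroup.eq, inv_one, one_mul]

theorem smul_o_eq_o_iff (g : G) : g • o P1 = o P1 ↔ g ∈ P1 := by
  rw [smul_o, mk_eq_o_iff]

theorem mem_L0_iff (x : G ⧸ P1) : x ∈ L0 P1 P2 ↔ ∃ p ∈ P2, p • o P1 = x := by
  constructor
  · rintro ⟨p, hp, rfl⟩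
    exact ⟨p, hp, smul_o p⟩
  · rintro ⟨p, hp, rfl⟩
    exact ⟨p, hp, (smul_o p).symm⟩

theorem smul_mem_L0 {p : G} (hp : p ∈ P2) {x : G ⧸ P1} (hx : x ∈ L0 P1 P2) : p • x ∈ L0 P1 P2 := by
  rw [mem_L0_iff] at hx ⊢
  obtain ⟨r, hr, rfl⟩ := hx
  exact ⟨p * r, P2.mul_mem hp hr, mul_smul _ _ _⟩

theorem smul_L0 {p : G} (hp : p ∈ P2) : p • L0 P1 P2 = L0 P1 P2 := by
  ext x
  rw [Set.mem_smul_set_iff_inv_smul_mem]
  constructor
  · intro h
    have := smul_mem_L0 hp h
    rwa [smul_inv_smul] at this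
  · intro h
    exact smul_mem_L0 (P2.inv_mem hp) h

theorem exists_smul_o (x : G ⧸ P1) : ∃ g : G, g • o P1 = x := by
  obtain ⟨g, rfl⟩ := QuotientGroup.mk_surjective x
  exact ⟨g, smul_o g⟩

variable (D : PlaneData G P1 P2 V1 V2 q)
include D

theorem V2_fix {v : G} (hv : v ∈ V2) {x : G ⧸ P1} (hx : x ∈ L0 P1 P2) : v • x = x := by
  obtain ⟨p, hp, rfl⟩ := (mem_L0_iff x).1 hx
  have h1 : p⁻¹ * v * p ∈ V2 := by
    have := D.V2_norm p⁻¹ (P2.inv_mem hp) v hv
    simpa using this
  have h2 : (p⁻¹ * v * p) • o P1 = o P1 := (smul_o_eq_o_iff _).2 (D.V2_le_P1 h1)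
  calc v • p • o P1 = p • ((p⁻¹ * v * p) • o P1) := by rw [smul_smul, smul_smul]; congr 1; group
    _ = p • o P1 := by rw [h2]

/-- `V1` fixes every line through the base point -/
theorem V1_smul_line {v p : G} (hv : v ∈ V1) (hp : p ∈ P1) : v • (p • L0 P1 P2) = p • L0 P1 P2 := by
  have h1 : p⁻¹ * v * p ∈ V1 := by
    have := D.V1_norm p⁻¹ (P1.inv_mem hp) v hv
    simpa using this
  rw [smul_smul, show v * p = p * (p⁻¹ * v * p) by group, ← smul_smul, smul_L0 (D.V1_le_P2 h1)]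

theorem V1_fix_iff {v x : G} (hv : v ∈ V1) (hx : x ∈ P2) (hx1 : x ∉ P1) : v • (x • o P1) = x • o P1 ↔ v ∈ V2 := by
  constructor
  · intro h
    apply D.H3 x hx hx1 v hv
    rw [← smul_o_eq_o_iff, mul_smul, mul_smul, h, inv_smul_smul]
  · intro h
    exact V2_fix D h ((mem_L0_iff _).2 ⟨x, hx, rfl⟩)

theorem exists_W_ne_one : ∃ w ∈ V1 ⊓ V2, w ≠ 1 := by
  by_contra h
  push Not at h
  have h1 : V1 ⊓ V2 = ⊥ := by
    rw [eq_bot_iff]
    intro w hw
    exact Subgroup.mem_bot.2 (h w hw)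
  have h2 := D.card_W
  rw [h1, Subgroup.card_bot] at h2
  have := D.hq
  omega

/-- two lines through the base point meet only there -/
theorem L0_inter {p : G} (hp : p ∈ P1) (hp2 : p ∉ P2) {x : G ⧸ P1} (hx : x ∈ L0 P1 P2) (hx' : x ∈ p • L0 P1 P2) :
    x = o P1 := by
  by_contra hne
  obtain ⟨r, hr, rfl⟩ := (mem_L0_iff x).1 hx
  have hr1 : r ∉ P1 := fun h => hne ((smul_o_eq_o_iff r).2 h)
  rw [Set.mem_smul_set_iff_inv_smul_mem] at hx'
  obtain ⟨s, hs, hsx⟩ := (mem_L0_iff _).1 hx'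
  have hs1 : s ∉ P1 := by
    intro h
    apply hne
    have h1 : s • o P1 = o P1 := (smul_o_eq_o_iff s).2 h
    rw [h1] at hsx
    have h2 : p • o P1 = r • o P1 := by
      calc p • o P1 = p • (p⁻¹ • r • o P1) := congrArg (fun y => p • y) hsx
        _ = r • o P1 := smul_inv_smul _ _
    rw [← h2]
    exact (smul_o_eq_o_iff p).2 hp
  obtain ⟨w, hw, hw1⟩ := exists_W_ne_one D
  have h1 : w • (r • o P1) = r • o P1 := (V1_fix_iff D hw.1 hr hr1).2 hw.2
  have h2 : p⁻¹ * w * p ∈ V1 := by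
    have := D.V1_norm p⁻¹ (P1.inv_mem hp) w hw.1
    simpa using this
  have h3 : (p⁻¹ * w * p) • (s • o P1) = s • o P1 := by
    rw [hsx, mul_smul, mul_smul, smul_inv_smul, h1]
  have h4 : p⁻¹ * w * p ∈ V2 := (V1_fix_iff D h2 hs hs1).1 h3
  apply hw1
  apply D.H1 p⁻¹ (P1.inv_mem hp) (fun h => hp2 (by simpa using P2.inv_mem h)) w hw
  rw [inv_inv]
  exact ⟨h2, h4⟩

theorem card_L0 : Nat.card (L0 P1 P2) = q + 1 := by
  rw [← D.index_2, Subgroup.relIndex, Subgroup.index]
  symm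
  refine Nat.card_congr (Equiv.ofBijective (fun c : P2 ⧸ P1.subgroupOf P2 =>
    (⟨Quotient.liftOn' c (fun p => ((p : G) : G ⧸ P1)) ?_, ?_⟩ : L0 P1 P2)) ⟨?_, ?_⟩)
  · intro a b hab
    rw [QuotientGroup.leftRel_apply] at hab
    exact QuotientGroup.eq.2 (by simpa [Subgroup.mem_subgroupOf] using hab)
  · induction c using Quotient.inductionOn' with
    | h a => exact ⟨a, a.2, rfl⟩
  · intro a b hab
    induction a using Quotient.inductionOn' with
    | h a =>
      induction b using Quotient.inductionOn' with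
      | h b =>
        have h1 : ((a : G) : G ⧸ P1) = ((b : G) : G ⧸ P1) := congrArg Subtype.val hab
        apply Quotient.sound'
        rw [QuotientGroup.leftRel_apply, Subgroup.mem_subgroupOf]
        simpa using QuotientGroup.eq.1 h1
  · rintro ⟨x, p, hp, rfl⟩
    exact ⟨((⟨p, hp⟩ : P2) : P2 ⧸ P1.subgroupOf P2), rfl⟩

theorem finite_quot : Finite (G ⧸ P1) := by
  have h := D.index_G
  have h1 : P1.index ≠ 0 := by omega
  have h2 : P1.FiniteIndex := ⟨h1⟩
  exact Subgroup.finite_quotient_of_finiteIndex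

theorem card_quot : Nat.card (G ⧸ P1) = q ^ 2 + q + 1 := D.index_G

/-- lines through the base point cover everything -/
theorem exists_line_o (x : G ⧸ P1) : ∃ p ∈ P1, x ∈ p • L0 P1 P2 := by
  classical
  have hfin := finite_quot D
  -- the lines through `o`, indexed by `P1 / (P1 ⊓ P2)`
  let I := P1 ⧸ P2.subgroupOf P1
  have hI : Nat.card I = q + 1 := D.index_1
  have hIfin : Finite I := (Nat.card_pos_iff.1 (by omega)).2
  let f : I × (↥(L0 P1 P2 \ {o P1})) → ↥(({o P1} : Set (G ⧸ P1))ᶜ) := fun c =>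
    ⟨((c.1.out : P1) : G) • (c.2 : G ⧸ P1), by
      intro h
      apply c.2.2.2
      have h1 : (((c.1.out : P1) : G)) • (c.2 : G ⧸ P1) = o P1 := h
      have h2 : (((c.1.out : P1) : G)) • o P1 = o P1 := (smul_o_eq_o_iff _).2 (c.1.out : P1).2
      exact MulAction.injective (((c.1.out : P1) : G)) (h1.trans h2.symm)⟩
  have hinj : Function.Injective f := by
    rintro ⟨a, x⟩ ⟨b, y⟩ hab
    have h1 : ((a.out : P1) : G) • (x : G ⧸ P1) = ((b.out : P1) : G) • (y : G ⧸ P1) := congrArg Subtype.val hab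
    have h2 : a = b := by
      by_contra hne
      have h3 : ((a.out : P1) : G)⁻¹ * ((b.out : P1) : G) ∉ P2 := by
        intro h
        apply hne
        rw [← Quotient.out_eq' a, ← Quotient.out_eq' b]
        apply Quotient.sound'
        rw [QuotientGroup.leftRel_apply, Subgroup.mem_subgroupOf]
        simpa using h
      apply x.2.2
      show (x : G ⧸ P1) = o P1
      refine L0_inter D (P1.mul_mem (P1.inv_mem (a.out : P1).2) (b.out : P1).2) h3 x.2.1 ?_
      rw [Set.mem_smul_set_iff_inv_smul_mem]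
      have h4 : (((a.out : P1) : G)⁻¹ * ((b.out : P1) : G))⁻¹ • (x : G ⧸ P1) = y := by
        rw [mul_inv_rev, inv_inv, mul_smul, h1, inv_smul_smul]
      rw [h4]
      exact y.2.1
    subst h2
    have h5 : x = y := Subtype.ext (MulAction.injective _ h1)
    rw [h5]
  have hcard : Nat.card (I × (↥(L0 P1 P2 \ {o P1}))) = Nat.card ↥(({o P1} : Set (G ⧸ P1))ᶜ) := by
    rw [Nat.card_prod, hI]
    have h1 : Nat.card ↥(L0 P1 P2 \ {o P1}) = q := by
      rw [Nat.card_coe_set_eq, Set.ncard_diff_singleton_of_mem o_mem, ← Nat.card_coe_set_eq, card_L0 D]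
      rfl
    have h2 : Nat.card ↥(({o P1} : Set (G ⧸ P1))ᶜ) = q ^ 2 + q := by
      rw [Nat.card_coe_set_eq, Set.ncard_compl, Set.ncard_singleton, card_quot D]
      rfl
    rw [h1, h2]
    ring
  have hsurj : Function.Surjective f := by
    have : Finite (I × (↥(L0 P1 P2 \ {o P1}))) := inferInstance
    exact ((Nat.bijective_iff_injective_and_card f).2 ⟨hinj, hcard⟩).2
  by_cases hx : x = o P1
  · exact ⟨1, P1.one_mem, by rw [one_smul, hx]; exact o_mem⟩
  · obtain ⟨⟨c, y⟩, hc⟩ := hsurj ⟨x, hx⟩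
    have h1 : ((c.out : P1) : G) • (y : G ⧸ P1) = x := congrArg Subtype.val hc
    refine ⟨(c.out : P1), (c.out : P1).2, ?_⟩
    rw [← h1]
    exact Set.smul_mem_smul_set y.2.1

/-- two points lie on a line -/
theorem exists_line (x y : G ⧸ P1) : ∃ g : G, x ∈ g • L0 P1 P2 ∧ y ∈ g • L0 P1 P2 := by
  obtain ⟨k, rfl⟩ := exists_smul_o x
  obtain ⟨p, hp, hy⟩ := exists_line_o D (k⁻¹ • y)
  refine ⟨k * p, ?_, ?_⟩
  · rw [mul_smul, Set.smul_mem_smul_set_iff, Set.mem_smul_set_iff_inv_smul_mem,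
      (smul_o_eq_o_iff _).2 (P1.inv_mem hp)]
    exact o_mem
  · rw [mul_smul, Set.mem_smul_set_iff_inv_smul_mem]
    exact hy

omit D in
/-- a line through the base point is a `P1`-translate of the base line -/
theorem line_through_o {g : G} (h : o P1 ∈ g • L0 P1 P2) : ∃ p ∈ P1, g • L0 P1 P2 = p • L0 P1 P2 := by
  rw [Set.mem_smul_set_iff_inv_smul_mem, mem_L0_iff] at h
  obtain ⟨r, hr, hro⟩ := h
  refine ⟨g * r, ?_, ?_⟩
  · rw [← smul_o_eq_o_iff, mul_smul, hro, smul_inv_smul]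
  · rw [mul_smul, smul_L0 hr]

theorem line_unique {g h : G} {x y : G ⧸ P1} (hxy : x ≠ y) (hxg : x ∈ g • L0 P1 P2) (hyg : y ∈ g • L0 P1 P2)
    (hxh : x ∈ h • L0 P1 P2) (hyh : y ∈ h • L0 P1 P2) : g • L0 P1 P2 = h • L0 P1 P2 := by
  obtain ⟨k, rfl⟩ := exists_smul_o x
  have key : ∀ a : G, k • o P1 ∈ a • L0 P1 P2 → y ∈ a • L0 P1 P2 →
      ∃ p ∈ P1, a • L0 P1 P2 = k • p • L0 P1 P2 ∧ k⁻¹ • y ∈ p • L0 P1 P2 := by
    intro a h1 h2
    have h3 : o P1 ∈ (k⁻¹ * a) • L0 P1 P2 := by
      rw [mul_smul, Set.mem_smul_set_iff_inv_smul_mem (a := k⁻¹), inv_inv]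
      exact h1
    obtain ⟨p, hp, hpa⟩ := line_through_o h3
    refine ⟨p, hp, ?_, ?_⟩
    · rw [← hpa, mul_smul, smul_inv_smul]
    · rw [← hpa, mul_smul, Set.smul_mem_smul_set_iff]
      exact h2
  obtain ⟨p, hp, hpg, hyp⟩ := key g hxg hyg
  obtain ⟨r, hr, hrh, hyr⟩ := key h hxh hyh
  have hne : k⁻¹ • y ≠ o P1 := by
    intro h
    apply hxy
    rw [← h, smul_inv_smul]
  have hmem : p⁻¹ * r ∈ P2 := by
    by_contra hn
    have h1 : p⁻¹ • (k⁻¹ • y) ∈ L0 P1 P2 := (Set.mem_smul_set_iff_inv_smul_mem).1 hyp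
    have h2 : p⁻¹ • (k⁻¹ • y) ∈ (p⁻¹ * r) • L0 P1 P2 := by
      rw [mul_smul, Set.smul_mem_smul_set_iff]
      exact hyr
    have h3 := L0_inter D (P1.mul_mem (P1.inv_mem hp) hr) hn h1 h2
    apply hne
    have h4 : p⁻¹ • (k⁻¹ • y) = p⁻¹ • o P1 := by rw [h3, (smul_o_eq_o_iff _).2 (P1.inv_mem hp)]
    exact MulAction.injective _ h4
  rw [hpg, hrh]
  have h5 : r • L0 P1 P2 = p • L0 P1 P2 := by
    have : r = p * (p⁻¹ * r) := by group
    rw [this, mul_smul, smul_L0 hmem]
  rw [h5]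

/-- every line meets the base line -/
theorem meet_L0 (g : G) : ∃ x ∈ L0 P1 P2, x ∈ g • L0 P1 P2 := by
  classical
  have hfin := finite_quot D
  by_contra hno
  push Not at hno
  obtain ⟨y0, hy0⟩ : ∃ y, y ∈ g • L0 P1 P2 := ⟨g • o P1, Set.smul_mem_smul_set o_mem⟩
  have hy0' : y0 ∉ L0 P1 P2 := fun h => hno y0 h hy0
  obtain ⟨k, rfl⟩ := exists_smul_o y0
  let I := P1 ⧸ P2.subgroupOf P1
  have hI : Nat.card I = q + 1 := D.index_1
  have hIfin : Finite I := (Nat.card_pos_iff.1 (by omega)).2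
  have hout : ∀ p : P1, ((p : G)) • L0 P1 P2 = (((Quotient.mk'' p : I).out : P1) : G) • L0 P1 P2 := by
    intro p
    have h1 : (Quotient.mk'' ((Quotient.mk'' p : I).out) : I) = Quotient.mk'' p := Quotient.out_eq' _
    have h2 := Quotient.exact' h1
    rw [QuotientGroup.leftRel_apply, Subgroup.mem_subgroupOf] at h2
    have h3 : (p : G) = (((Quotient.mk'' p : I).out : P1) : G) *
        ((((Quotient.mk'' p : I).out : P1)⁻¹ * p : P1) : G) := by
      push_cast
      group
    conv_lhs => rw [h3]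
    rw [mul_smul, smul_L0 h2]
  have hF : ∀ z : L0 P1 P2, ∃ c : I, k⁻¹ • (z : G ⧸ P1) ∈ ((c.out : P1) : G) • L0 P1 P2 := by
    intro z
    obtain ⟨p, hp, hz⟩ := exists_line_o D (k⁻¹ • (z : G ⧸ P1))
    refine ⟨Quotient.mk'' (⟨p, hp⟩ : P1), ?_⟩
    rw [← hout]
    exact hz
  choose F hF using hF
  have hinj : Function.Injective F := by
    intro z z' hzz
    by_contra hne
    have hne' : (z : G ⧸ P1) ≠ z' := fun h => hne (Subtype.ext h)
    have hc : ∀ z : L0 P1 P2, (z : G ⧸ P1) ∈ (k * (((F z).out : P1) : G)) • L0 P1 P2 := by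
      intro z
      rw [mul_smul, Set.mem_smul_set_iff_inv_smul_mem]
      exact hF z
    have h1 := hc z
    have h2 := hc z'
    rw [← hzz] at h2
    have h3 := line_unique D (g := 1) (h := k * (((F z).out : P1) : G)) hne' (by rw [one_smul]; exact z.2)
      (by rw [one_smul]; exact z'.2) h1 h2
    rw [one_smul] at h3
    apply hy0'
    rw [h3, mul_smul, Set.smul_mem_smul_set_iff, Set.mem_smul_set_iff_inv_smul_mem,
      (smul_o_eq_o_iff _).2 (P1.inv_mem ((F z).out : P1).2)]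
    exact o_mem
  have hLfin : Finite (L0 P1 P2) := inferInstance
  have hsurj : Function.Surjective F :=
    ((Nat.bijective_iff_injective_and_card F).2 ⟨hinj, by rw [card_L0 D, hI]⟩).2
  have h3 : o P1 ∈ (k⁻¹ * g) • L0 P1 P2 := by
    rw [mul_smul, Set.mem_smul_set_iff_inv_smul_mem (a := k⁻¹), inv_inv]
    exact hy0
  obtain ⟨p, hp, hpa⟩ := line_through_o h3
  obtain ⟨z, hz⟩ := hsurj (Quotient.mk'' (⟨p, hp⟩ : P1))
  apply hno z z.2
  have h4 := hF z
  rw [hz, ← hout] at h4
  have h5 : k⁻¹ • (z : G ⧸ P1) ∈ (k⁻¹ * g) • L0 P1 P2 := by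
    rw [hpa]
    exact h4
  rw [mul_smul, Set.smul_mem_smul_set_iff] at h5
  exact h5

/-- the conjugates of `W = V1 ⊓ V2` in `P2` cover `V2` -/
theorem exists_conj_mem_W {v : G} (hv : v ∈ V2) : ∃ p ∈ P2, p⁻¹ * v * p ∈ V1 ⊓ V2 := by
  classical
  by_cases hv1 : v = 1
  · exact ⟨1, P2.one_mem, by rw [hv1]; simp [Subgroup.one_mem]⟩
  let J := P2 ⧸ P1.subgroupOf P2
  have hJ : Nat.card J = q + 1 := D.index_2
  have hq := D.hq
  have hJfin : Finite J := (Nat.card_pos_iff.1 (by omega)).2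
  have hVfin : Finite V2 := (Nat.card_pos_iff.1 (by rw [D.card_V2]; positivity)).2
  have hWfin : Finite (V1 ⊓ V2 : Subgroup G) := (Nat.card_pos_iff.1 (by rw [D.card_W]; omega)).2
  let f : J × {w : (V1 ⊓ V2 : Subgroup G) // w ≠ 1} → {v : V2 // v ≠ 1} := fun c =>
    ⟨⟨((c.1.out : P2) : G) * (c.2.1 : G) * ((c.1.out : P2) : G)⁻¹,
      D.V2_norm _ (c.1.out : P2).2 _ c.2.1.2.2⟩, by
      intro h
      apply c.2.2
      have h1 : ((c.1.out : P2) : G) * (c.2.1 : G) * ((c.1.out : P2) : G)⁻¹ = 1 := congrArg Subtype.val h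
      apply Subtype.ext
      exact conj_eq_one_iff.1 h1⟩
  have hinj : Function.Injective f := by
    rintro ⟨a, x⟩ ⟨b, y⟩ hab
    have h1 : ((a.out : P2) : G) * (x.1 : G) * ((a.out : P2) : G)⁻¹ =
        ((b.out : P2) : G) * (y.1 : G) * ((b.out : P2) : G)⁻¹ :=
      congrArg (fun t : {v : V2 // v ≠ 1} => ((t : V2) : G)) hab
    have h2 : a = b := by
      by_contra hne
      have h3 : ((b.out : P2) : G)⁻¹ * ((a.out : P2) : G) ∉ P1 := by
        intro h
        apply hne
        rw [← Quotient.out_eq' a, ← Quotient.out_eq' b]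
        symm
        apply Quotient.sound'
        rw [QuotientGroup.leftRel_apply, Subgroup.mem_subgroupOf]
        simpa using h
      apply x.2
      apply Subtype.ext
      refine D.H2 _ (P2.mul_mem (P2.inv_mem (b.out : P2).2) (a.out : P2).2) h3 x.1 x.1.2 ?_
      have h4 : ((b.out : P2) : G)⁻¹ * ((a.out : P2) : G) * (x.1 : G) * (((b.out : P2) : G)⁻¹ * ((a.out : P2) : G))⁻¹ =
          y.1 := by
        calc ((b.out : P2) : G)⁻¹ * ((a.out : P2) : G) * (x.1 : G) * (((b.out : P2) : G)⁻¹ * ((a.out : P2) : G))⁻¹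
            = ((b.out : P2) : G)⁻¹ * (((a.out : P2) : G) * (x.1 : G) * ((a.out : P2) : G)⁻¹) * ((b.out : P2) : G) := by
              group
          _ = y.1 := by rw [h1]; group
      rw [h4]
      exact y.1.2
    subst h2
    have h5 : (x.1 : G) = y.1 := by
      have h6 := mul_right_cancel h1
      exact mul_left_cancel h6
    have h7 : x = y := Subtype.ext (Subtype.ext h5)
    rw [h7]
  have hcardne : ∀ (H : Subgroup G) [Finite H], Nat.card {u : H // u ≠ 1} = Nat.card H - 1 := by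
    intro H _
    let _ : Fintype H := Fintype.ofFinite H
    rw [Nat.card_eq_fintype_card, Nat.card_eq_fintype_card, Fintype.card_subtype_compl, Fintype.card_subtype_eq]
  have hcard : Nat.card (J × {w : (V1 ⊓ V2 : Subgroup G) // w ≠ 1}) = Nat.card {v : V2 // v ≠ 1} := by
    rw [Nat.card_prod, hJ, hcardne, hcardne, D.card_V2, D.card_W]
    obtain ⟨j, rfl⟩ : ∃ j, q = j + 1 := ⟨q - 1, by omega⟩
    simp only [Nat.add_sub_cancel]
    have : (j + 1) ^ 2 = (j + 1 + 1) * j + 1 := by ring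
    omega
  have hsurj : Function.Surjective f := by
    exact ((Nat.bijective_iff_injective_and_card f).2 ⟨hinj, hcard⟩).2
  obtain ⟨⟨c, w⟩, hc⟩ := hsurj ⟨⟨v, hv⟩, fun h => hv1 (congrArg Subtype.val h)⟩
  have h1 : ((c.out : P2) : G) * (w.1 : G) * ((c.out : P2) : G)⁻¹ = v :=
    congrArg (fun t : {v : V2 // v ≠ 1} => ((t : V2) : G)) hc
  refine ⟨(c.out : P2), (c.out : P2).2, ?_⟩
  have h2 : ((c.out : P2) : G)⁻¹ * v * ((c.out : P2) : G) = w.1 := by
    rw [← h1]
    group
  rw [h2]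
  exact w.1.2

/-- `V2` acts semiregularly off the base line -/
theorem V2_semiregular {v : G} (hv : v ∈ V2) {x : G ⧸ P1} (hx : x ∉ L0 P1 P2) (h : v • x = x) : v = 1 := by
  obtain ⟨p, hp, hw⟩ := exists_conj_mem_W D hv
  set w := p⁻¹ * v * p with hwdef
  have hy : p⁻¹ • x ∉ L0 P1 P2 := by
    intro h1
    apply hx
    have := smul_mem_L0 hp h1
    rwa [smul_inv_smul] at this
  have hwy : w • (p⁻¹ • x) = p⁻¹ • x := by
    rw [hwdef, mul_smul, mul_smul, smul_inv_smul, h]
  obtain ⟨r, hr, hyr⟩ := exists_line_o D (p⁻¹ • x)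
  have hr2 : r ∉ P2 := by
    intro h1
    rw [smul_L0 h1] at hyr
    exact hy hyr
  rw [Set.mem_smul_set_iff_inv_smul_mem, mem_L0_iff] at hyr
  obtain ⟨s, hs, hsy⟩ := hyr
  have hs1 : s ∉ P1 := by
    intro h1
    apply hy
    have h2 : p⁻¹ • x = r • s • o P1 := by rw [hsy, smul_inv_smul]
    rw [h2, (smul_o_eq_o_iff s).2 h1, (smul_o_eq_o_iff r).2 hr]
    exact o_mem
  have h2 : r⁻¹ * w * r ∈ V1 := by
    have := D.V1_norm r⁻¹ (P1.inv_mem hr) w hw.1
    simpa using this
  have h3 : (r⁻¹ * w * r) • (s • o P1) = s • o P1 := by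
    rw [hsy, mul_smul, mul_smul, smul_inv_smul, hwy]
  have h4 : r⁻¹ * w * r ∈ V2 := (V1_fix_iff D h2 hs hs1).1 h3
  have h5 : w = 1 := by
    apply D.H1 r⁻¹ (P1.inv_mem hr) (fun h => hr2 (by simpa using P2.inv_mem h)) w hw
    rw [inv_inv]
    exact ⟨h2, h4⟩
  have h6 : v = p * w * p⁻¹ := by rw [hwdef]; group
  rw [h6, h5]
  group

/-- `V2` acts regularly off the base line -/
theorem V2_regular {x y : G ⧸ P1} (hx : x ∉ L0 P1 P2) (hy : y ∉ L0 P1 P2) : ∃ v ∈ V2, v • x = y := by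
  classical
  have hfin := finite_quot D
  have hq := D.hq
  have hVfin : Finite V2 := (Nat.card_pos_iff.1 (by rw [D.card_V2]; positivity)).2
  have hmem : ∀ v : V2, (v : G) • x ∈ (L0 P1 P2)ᶜ := by
    intro v h
    apply hx
    have h1 := smul_mem_L0 (D.V2_le_P2 (V2.inv_mem v.2)) h
    rwa [inv_smul_smul] at h1
  let f : V2 → ↥((L0 P1 P2)ᶜ) := fun v => ⟨(v : G) • x, hmem v⟩
  have hinj : Function.Injective f := by
    intro a b hab
    have h1 : (a : G) • x = (b : G) • x := congrArg Subtype.val hab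
    have h2 : ((a : G)⁻¹ * b) = 1 := by
      apply V2_semiregular D (V2.mul_mem (V2.inv_mem a.2) b.2) hx
      rw [mul_smul, ← h1, inv_smul_smul]
    exact Subtype.ext (inv_mul_eq_one.1 h2)
  have hcard : Nat.card V2 = Nat.card ↥((L0 P1 P2)ᶜ) := by
    rw [Nat.card_coe_set_eq, Set.ncard_compl, ← Nat.card_coe_set_eq, card_L0 D, card_quot D, D.card_V2]
    omega
  have hsurj : Function.Surjective f :=
    ((Nat.bijective_iff_injective_and_card f).2 ⟨hinj, hcard⟩).2
  obtain ⟨v, hv⟩ := hsurj ⟨y, hy⟩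
  exact ⟨v, v.2, congrArg Subtype.val hv⟩

/-- elements of a conjugate of `V1` move every point on a line with the centre -/
theorem center_V1 {v p : G} (hv : p⁻¹ * v * p ∈ V1) (x : G ⧸ P1) :
    ∃ g : G, x ∈ g • L0 P1 P2 ∧ v • x ∈ g • L0 P1 P2 ∧ p • o P1 ∈ g • L0 P1 P2 := by
  obtain ⟨r, hr, hxr⟩ := exists_line_o D (p⁻¹ • x)
  have h1 := V1_smul_line D hv hr
  refine ⟨p * r, ?_, ?_, ?_⟩
  · rw [mul_smul, Set.mem_smul_set_iff_inv_smul_mem]
    exact hxr
  · rw [mul_smul, Set.mem_smul_set_iff_inv_smul_mem]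
    have h2 : p⁻¹ • v • x = (p⁻¹ * v * p) • (p⁻¹ • x) := by
      rw [mul_smul, mul_smul, smul_inv_smul]
    rw [h2, ← h1]
    exact Set.smul_mem_smul_set hxr
  · rw [mul_smul, Set.smul_mem_smul_set_iff, Set.mem_smul_set_iff_inv_smul_mem,
      (smul_o_eq_o_iff _).2 (P1.inv_mem hr)]
    exact o_mem

end Cfsg.Agent.LieExceptional.PlaneGeom
end

-- part: LieExceptional/PlaneElation
section
/-!
# Elations of the projective plane over a field

A permutation of the points of the projective plane over a field `F` which preserves collinearity, fixes every point of a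
line `f = 0` and has a centre `c` on this line (`p`, `α p`, `c` collinear for all `p`) is induced by a transvection
`x ↦ x + b f(x) c`.
-/

set_option autoImplicit false

namespace Cfsg.Agent.LieExceptional.PlaneElation

open Projectivization
open scoped LinearAlgebra.Projectivization

universe u

variable {F : Type u} [Field F]

/-- determinant of three vectors -/
def D3 (x y z : Fin 3 → F) : F :=
  x 0 * (y 1 * z 2 - y 2 * z 1) - x 1 * (y 0 * z 2 - y 2 * z 0) + x 2 * (y 0 * z 1 - y 1 * z 0)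

theorem D3_def (x y z : Fin 3 → F) : D3 x y z =
  x 0 * (y 1 * z 2 - y 2 * z 1) - x 1 * (y 0 * z 2 - y 2 * z 0) + x 2 * (y 0 * z 1 - y 1 * z 0) := rfl

/-- scalar product -/
def dot (f x : Fin 3 → F) : F := f 0 * x 0 + f 1 * x 1 + f 2 * x 2

theorem dot_def (f x : Fin 3 → F) : dot f x = f 0 * x 0 + f 1 * x 1 + f 2 * x 2 := rfl

theorem D3_smul (a b c : F) (x y z : Fin 3 → F) : D3 (a • x) (b • y) (c • z) = a * b * c * D3 x y z := by
  simp only [D3_def, Pi.smul_apply, smul_eq_mul]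
  ring

/-- three points are collinear -/
def CollP (p q r : ℙ F (Fin 3 → F)) : Prop := D3 p.rep q.rep r.rep = 0

theorem collP_mk {x y z : Fin 3 → F} (hx : x ≠ 0) (hy : y ≠ 0) (hz : z ≠ 0) :
    CollP (mk F x hx) (mk F y hy) (mk F z hz) ↔ D3 x y z = 0 := by
  obtain ⟨a, ha⟩ := exists_smul_eq_mk_rep F x hx
  obtain ⟨b, hb⟩ := exists_smul_eq_mk_rep F y hy
  obtain ⟨c, hc⟩ := exists_smul_eq_mk_rep F z hz
  rw [CollP, ← ha, ← hb, ← hc, Units.smul_def, Units.smul_def, Units.smul_def, D3_smul]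
  constructor
  · intro h
    rcases mul_eq_zero.1 h with h | h
    · exact absurd h (mul_ne_zero (mul_ne_zero a.ne_zero b.ne_zero) c.ne_zero)
    · exact h
  · intro h
    rw [h, mul_zero]

theorem exists_ne_zero {c : Fin 3 → F} (hc : c ≠ 0) : ∃ i, c i ≠ 0 := by
  by_contra h
  push Not at h
  exact hc (funext h)

theorem parallel {w c : Fin 3 → F} (hc : c ≠ 0) (h01 : w 0 * c 1 = w 1 * c 0) (h02 : w 0 * c 2 = w 2 * c 0)
    (h12 : w 1 * c 2 = w 2 * c 1) : ∃ μ : F, w = μ • c := by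
  obtain ⟨i, hi⟩ := exists_ne_zero hc
  refine ⟨w i / c i, ?_⟩
  funext j
  rw [Pi.smul_apply, smul_eq_mul, div_mul_eq_mul_div, eq_div_iff hi]
  fin_cases i <;> fin_cases j <;> simp_all

/-- solve `D3 z w c = 0` for `w` when `f z = 1`, `f c = 0` -/
theorem exists_comb {f z w c : Fin 3 → F} (hc : c ≠ 0) (hfz : dot f z = 1) (hfc : dot f c = 0)
    (hD : D3 z w c = 0) : ∃ μ : F, w = dot f w • z + μ • c := by
  simp only [D3_def, dot_def] at hfz hfc hD
  have key : ∃ μ : F, w - dot f w • z = μ • c := by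
    apply parallel hc
    · simp only [dot_def, Pi.sub_apply, Pi.smul_apply, smul_eq_mul]
      linear_combination
        (-(w 0 * c 1 - w 1 * c 0)) * hfz +
        f 2 * hD + (w 0 * z 1 - w 1 * z 0) * hfc
    · simp only [dot_def, Pi.sub_apply, Pi.smul_apply, smul_eq_mul]
      linear_combination
        (-(w 0 * c 2 - w 2 * c 0)) * hfz -
        f 1 * hD + (w 0 * z 2 - w 2 * z 0) * hfc
    · simp only [dot_def, Pi.sub_apply, Pi.smul_apply, smul_eq_mul]
      linear_combination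
        (-(w 1 * c 2 - w 2 * c 1)) * hfz +
        f 0 * hD + (w 1 * z 2 - w 2 * z 1) * hfc
  obtain ⟨μ, hμ⟩ := key
  exact ⟨μ, by rw [← hμ]; abel⟩

theorem ne_zero_of_dot {f z : Fin 3 → F} (h : dot f z = 1) : z ≠ 0 := by
  rintro rfl
  rw [dot_def] at h
  simp at h

theorem dot_add (f x y : Fin 3 → F) : dot f (x + y) = dot f x + dot f y := by
  simp only [dot_def, Pi.add_apply]
  ring

theorem dot_smul (a : F) (f x : Fin 3 → F) : dot f (a • x) = a * dot f x := by
  simp only [dot_def, Pi.smul_apply, smul_eq_mul]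
  ring

theorem dot_sub (f x y : Fin 3 → F) : dot f (x - y) = dot f x - dot f y := by
  simp only [dot_def, Pi.sub_apply]
  ring

section elation

variable (α : Equiv.Perm (ℙ F (Fin 3 → F)))
  (hcoll : ∀ p q r, CollP p q r → CollP (α p) (α q) (α r))
  {f c : Fin 3 → F} (hc : c ≠ 0) (hfc : dot f c = 0)
  (haxis : ∀ (x : Fin 3 → F) (hx : x ≠ 0), dot f x = 0 → α (mk F x hx) = mk F x hx)
  (hcenter : ∀ p, CollP p (α p) (mk F c hc))

include hfc haxis hcenter in
/-- the image of a point off the axis -/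
theorem image_form {z : Fin 3 → F} (hz : dot f z = 1) :
    ∃ b : F, ∃ h : z + b • c ≠ 0, α (mk F z (ne_zero_of_dot hz)) = mk F (z + b • c) h := by
  obtain ⟨w, hw, hαw⟩ : ∃ (w : Fin 3 → F) (hw : w ≠ 0), α (mk F z (ne_zero_of_dot hz)) = mk F w hw :=
    ⟨(α (mk F z (ne_zero_of_dot hz))).rep, rep_nonzero _, (mk_rep _).symm⟩
  have h1 := hcenter (mk F z (ne_zero_of_dot hz))
  rw [hαw, collP_mk] at h1
  have hfw : dot f w ≠ 0 := by
    intro h
    have h2 := haxis w hw h
    rw [← h2] at hαw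
    have h3 := α.injective hαw
    rw [mk_eq_mk_iff'] at h3
    obtain ⟨a, ha⟩ := h3
    rw [← ha, dot_smul, h, mul_zero] at hz
    exact zero_ne_one hz
  obtain ⟨μ, hμ⟩ := exists_comb hc hz hfc h1
  have h2 : z + (μ / dot f w) • c = (dot f w)⁻¹ • w := by
    symm
    calc (dot f w)⁻¹ • w = (dot f w)⁻¹ • (dot f w • z + μ • c) := congrArg (fun t => (dot f w)⁻¹ • t) hμ
      _ = z + (μ / dot f w) • c := by
        rw [smul_add, smul_smul, smul_smul, inv_mul_cancel₀ hfw, one_smul, div_eq_inv_mul]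
  have h3 : z + (μ / dot f w) • c ≠ 0 := by
    rw [h2]
    exact smul_ne_zero (inv_ne_zero hfw) hw
  refine ⟨μ / dot f w, h3, ?_⟩
  rw [hαw, mk_eq_mk_iff']
  refine ⟨dot f w, ?_⟩
  rw [h2, smul_smul, mul_inv_cancel₀ hfw, one_smul]

include hcoll hfc haxis hcenter in
/-- propagation -/
theorem step {x z : Fin 3 → F} (hx : dot f x = 1) (hz : dot f z = 1) (hD : D3 c x z ≠ 0) {b : F}
    (hb : x + b • c ≠ 0) (hαx : α (mk F x (ne_zero_of_dot hx)) = mk F (x + b • c) hb) :
    ∃ h : z + b • c ≠ 0, α (mk F z (ne_zero_of_dot hz)) = mk F (z + b • c) h := by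
  obtain ⟨b', h', hαz⟩ := image_form α hc hfc haxis hcenter hz
  have hd0 : x - z ≠ 0 := by
    intro h
    have : x = z := sub_eq_zero.1 h
    apply hD
    rw [this, D3_def]
    ring
  have hfd : dot f (x - z) = 0 := by rw [dot_sub, hx, hz, sub_self]
  have hαd := haxis (x - z) hd0 hfd
  have h1 : CollP (mk F z (ne_zero_of_dot hz)) (mk F x (ne_zero_of_dot hx)) (mk F (x - z) hd0) := by
    rw [collP_mk]
    simp only [D3_def, Pi.sub_apply]
    ring
  have h2 := hcoll _ _ _ h1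
  rw [hαz, hαx, hαd, collP_mk] at h2
  have h3 : (b - b') * D3 c x z = 0 := by
    rw [← h2]
    simp only [D3_def, Pi.sub_apply, Pi.add_apply, Pi.smul_apply, smul_eq_mul]
    ring
  have h4 : b = b' := by
    rcases mul_eq_zero.1 h3 with h | h
    · exact sub_eq_zero.1 h
    · exact absurd h hD
  subst h4
  exact ⟨h', hαz⟩

theorem exists_dot_one {f : Fin 3 → F} (hf : f ≠ 0) : ∃ x, dot f x = 1 := by
  obtain ⟨i, hi⟩ := exists_ne_zero hf
  refine ⟨Pi.single i (f i)⁻¹, ?_⟩
  fin_cases i <;> simp_all [dot_def, Pi.single_apply]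

omit hcoll in
/-- a vector `e` with `f e = 0` and `c, x, e` independent -/
theorem exists_indep {f c x : Fin 3 → F} (hc : c ≠ 0) (hfc : dot f c = 0) (hx : dot f x = 1) :
    ∃ e, dot f e = 0 ∧ D3 c x e ≠ 0 := by
  by_contra hno
  push Not at hno
  have h1 : ∀ z, D3 c x z = 0 := by
    intro z
    have h2 := hno (z - dot f z • x) (by rw [dot_sub, dot_smul, hx, mul_one, sub_self])
    have h3 : D3 c x (z - dot f z • x) = D3 c x z := by
      simp only [D3_def, Pi.sub_apply, Pi.smul_apply, smul_eq_mul]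
      ring
    rwa [h3] at h2
  have e0 := h1 ![1, 0, 0]
  have e1 := h1 ![0, 1, 0]
  have e2 := h1 ![0, 0, 1]
  simp only [D3_def, Matrix.cons_val_zero, Matrix.cons_val_one, Matrix.cons_val] at e0 e1 e2
  -- `c` is a multiple of `x`
  have hx0 : x ≠ 0 := ne_zero_of_dot hx
  obtain ⟨μ, hμ⟩ := parallel (w := c) hx0 (by linear_combination e2) (by linear_combination -e1) (by linear_combination e0)
  rw [hμ, dot_smul, hx, mul_one] at hfc
  rw [hfc, zero_smul] at hμ
  exact hc hμ

include hcoll hfc haxis hcenter in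
/-- a central collineation with centre on its axis is a transvection -/
theorem elation (hf : f ≠ 0) : ∃ b : F, ∀ (x : Fin 3 → F) (hx : x ≠ 0), ∃ h : x + (b * dot f x) • c ≠ 0,
    α (mk F x hx) = mk F (x + (b * dot f x) • c) h := by
  obtain ⟨x, hx⟩ := exists_dot_one hf
  obtain ⟨b, hb, hαx⟩ := image_form α hc hfc haxis hcenter hx
  refine ⟨b, ?_⟩
  -- points with `f z = 1`
  have h1 : ∀ z (hz : dot f z = 1), ∃ h : z + b • c ≠ 0, α (mk F z (ne_zero_of_dot hz)) = mk F (z + b • c) h := by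
    intro z hz
    by_cases hD : D3 c x z = 0
    · obtain ⟨e, he, hDe⟩ := exists_indep hc hfc hx
      have hz' : dot f (x + e) = 1 := by rw [dot_add, hx, he, add_zero]
      have hD' : D3 c x (x + e) ≠ 0 := by
        have : D3 c x (x + e) = D3 c x e := by
          simp only [D3_def, Pi.add_apply]
          ring
        rwa [this]
      obtain ⟨h2, h3⟩ := step α hcoll hc hfc haxis hcenter hx hz' hD' hb hαx
      -- `z = x + ν c`
      have h4 : D3 x z c = 0 := by
        rw [← hD]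
        simp only [D3_def]
        ring
      obtain ⟨ν, hν⟩ := exists_comb hc hx hfc h4
      rw [hz, one_smul] at hν
      have hD'' : D3 c (x + e) z ≠ 0 := by
        have : D3 c (x + e) z = - D3 c x e := by
          rw [hν]
          simp only [D3_def, Pi.add_apply, Pi.smul_apply, smul_eq_mul]
          ring
        rw [this]
        exact neg_ne_zero.2 hDe
      exact step α hcoll hc hfc haxis hcenter hz' hz hD'' h2 h3
    · exact step α hcoll hc hfc haxis hcenter hx hz hD hb hαx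
  intro z hz
  by_cases hfz : dot f z = 0
  · have h2 : z + (b * dot f z) • c = z := by rw [hfz, mul_zero, zero_smul, add_zero]
    refine ⟨by rwa [h2], ?_⟩
    rw [haxis z hz hfz]
    congr 1
    exact h2.symm
  · have hz1 : dot f ((dot f z)⁻¹ • z) = 1 := by rw [dot_smul, inv_mul_cancel₀ hfz]
    obtain ⟨h2, h3⟩ := h1 _ hz1
    have h4 : z + (b * dot f z) • c = dot f z • ((dot f z)⁻¹ • z + b • c) := by
      rw [smul_add, smul_smul, mul_inv_cancel₀ hfz, one_smul, smul_smul, mul_comm b]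
    have h5 : z + (b * dot f z) • c ≠ 0 := by
      rw [h4]
      exact smul_ne_zero hfz h2
    refine ⟨h5, ?_⟩
    have h6 : mk F z hz = mk F ((dot f z)⁻¹ • z) (ne_zero_of_dot hz1) := by
      rw [mk_eq_mk_iff']
      exact ⟨dot f z, by rw [smul_smul, mul_inv_cancel₀ hfz, one_smul]⟩
    rw [h6, h3, mk_eq_mk_iff']
    refine ⟨(dot f z)⁻¹, ?_⟩
    rw [h4, smul_smul, inv_mul_cancel₀ hfz, one_smul]

end elation

end Cfsg.Agent.LieExceptional.PlaneElation
end

-- part: LieExceptional/PlaneCoord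
section
/-!
# Coordinates for the projective plane of `PlaneData`

Given an additive bijection `φ : V2 → F × F` mapping the spread `{V2 ∩ pV1p⁻¹}` to the lines through `0`, the plane is
identified with the projective plane over `F`.
-/

set_option autoImplicit false

namespace Cfsg.Agent.LieExceptional.PlaneCoord

open scoped Pointwise LinearAlgebra.Projectivization
open Projectivization Cfsg.Agent.LieExceptional.PlaneGeom Cfsg.Agent.LieExceptional.PlaneElation

universe u w

variable {G : Type u} [Group G] {P1 P2 V1 V2 : Subgroup G} {q : ℕ} {F : Type w} [Field F]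

/-- collinear points -/
def Coll (P1 P2 : Subgroup G) (x y z : G ⧸ P1) : Prop :=
  ∃ g : G, x ∈ g • L0 P1 P2 ∧ y ∈ g • L0 P1 P2 ∧ z ∈ g • L0 P1 P2

theorem Coll.smul {x y z : G ⧸ P1} (h : Coll P1 P2 x y z) (k : G) : Coll P1 P2 (k • x) (k • y) (k • z) := by
  obtain ⟨g, h1, h2, h3⟩ := h
  refine ⟨k * g, ?_, ?_, ?_⟩ <;> rw [mul_smul, Set.smul_mem_smul_set_iff] <;> assumption

theorem Coll.rot {x y z : G ⧸ P1} (h : Coll P1 P2 x y z) : Coll P1 P2 y z x := by
  obtain ⟨g, h1, h2, h3⟩ := h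
  exact ⟨g, h2, h3, h1⟩

theorem collP_rot {x y z : ℙ F (Fin 3 → F)} (h : CollP x y z) : CollP y z x := by
  rw [CollP] at h ⊢
  rw [← h]
  simp only [D3_def]
  ring

/-- coordinates -/
structure Coord (P1 P2 V1 V2 : Subgroup G) (φ : V2 → F × F) : Prop where
  bij : Function.Bijective φ
  map_mul : ∀ u v, φ (u * v) = φ u + φ v
  dir : ∀ p ∈ P2, ∃ d : F × F, d ≠ 0 ∧ ∀ v : V2, (p⁻¹ * (v : G) * p ∈ V1 ↔ ∃ a : F, φ v = (a * d.1, a * d.2))

section coord

variable {φ : V2 → F × F} (C : Coord P1 P2 V1 V2 φ)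
include C

theorem map_one : φ 1 = 0 := by
  have h := C.map_mul 1 1
  rw [mul_one] at h
  simpa using h

theorem map_inv (v : V2) : φ v⁻¹ = - φ v := by
  have h := C.map_mul v v⁻¹
  rw [mul_inv_cancel, map_one C] at h
  exact (neg_eq_of_add_eq_zero_right h.symm).symm

theorem map_div (u v : V2) : φ (u * v⁻¹) = φ u - φ v := by
  rw [C.map_mul, map_inv C, sub_eq_add_neg]

end coord

/-- affine vector -/
def av (t : F × F) : Fin 3 → F := ![t.1, t.2, 1]
/-- vector at infinity -/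
def iv (t : F × F) : Fin 3 → F := ![t.1, t.2, 0]

theorem av_ne (t : F × F) : av t ≠ 0 := by
  intro h
  have := congrFun h 2
  simp [av] at this

theorem iv_ne {t : F × F} (ht : t ≠ 0) : iv t ≠ 0 := by
  intro h
  apply ht
  have h0 := congrFun h 0
  have h1 := congrFun h 1
  simp only [iv, Matrix.cons_val_zero, Matrix.cons_val_one, Pi.zero_apply] at h0 h1
  exact Prod.ext h0 h1

theorem D3_aff_aff_aff (a b c : F × F) : D3 (av a) (av b) (av c) =
    (a.1 - c.1) * (b.2 - c.2) - (a.2 - c.2) * (b.1 - c.1) := by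
  simp only [D3_def, av, Matrix.cons_val_zero, Matrix.cons_val_one, Matrix.cons_val]
  ring

theorem D3_inf_aff_aff (a b c : F × F) : D3 (iv a) (av b) (av c) =
    a.1 * (b.2 - c.2) - a.2 * (b.1 - c.1) := by
  simp only [D3_def, av, iv, Matrix.cons_val_zero, Matrix.cons_val_one, Matrix.cons_val]
  ring

theorem D3_inf_inf_aff (a b c : F × F) : D3 (iv a) (iv b) (av c) = a.1 * b.2 - a.2 * b.1 := by
  simp only [D3_def, av, iv, Matrix.cons_val_zero, Matrix.cons_val_one, Matrix.cons_val]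
  ring

theorem D3_inf_inf_inf (a b c : F × F) : D3 (iv a) (iv b) (iv c) = 0 := by
  simp only [D3_def, iv, Matrix.cons_val_zero, Matrix.cons_val_one, Matrix.cons_val]
  ring

/-- two-dimensional parallelism -/
theorem exists_mul_of_det {d e : F × F} (hd : d ≠ 0) (h : d.1 * e.2 - d.2 * e.1 = 0) :
    ∃ a : F, e = (a * d.1, a * d.2) := by
  by_cases h1 : d.1 = 0
  · have h2 : d.2 ≠ 0 := fun h2 => hd (Prod.ext h1 h2)
    refine ⟨e.2 / d.2, ?_⟩
    have h3 : e.1 = 0 := by
      rw [h1, zero_mul, zero_sub, neg_eq_zero] at h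
      rcases mul_eq_zero.1 h with h | h
      · exact absurd h h2
      · exact h
    ext
    · show e.1 = _
      rw [h3, h1, mul_zero]
    · show e.2 = _
      field_simp
  · refine ⟨e.1 / d.1, ?_⟩
    ext
    · show e.1 = _
      field_simp
    · show e.2 = _
      field_simp
      linear_combination h

theorem det_of_mul {d e : F × F} (h : ∃ a : F, e = (a * d.1, a * d.2)) : d.1 * e.2 - d.2 * e.1 = 0 := by
  obtain ⟨a, rfl⟩ := h
  show d.1 * (a * d.2) - d.2 * (a * d.1) = 0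
  ring

variable (D : PlaneData G P1 P2 V1 V2 q)

include D in
/-- the spread member only depends on the point -/
theorem conj_mem_iff {p r : G} (hpr : p • o P1 = r • o P1) (v : G) : p⁻¹ * v * p ∈ V1 ↔ r⁻¹ * v * r ∈ V1 := by
  have h1 : p⁻¹ * r ∈ P1 := by
    rw [← smul_o_eq_o_iff, mul_smul, ← hpr, inv_smul_smul]
  have h2 : r⁻¹ * p ∈ P1 := by
    have := P1.inv_mem h1
    simpa [mul_inv_rev] using this
  constructor
  · intro h
    have := D.V1_norm _ h2 _ h
    have e : r⁻¹ * p * (p⁻¹ * v * p) * (r⁻¹ * p)⁻¹ = r⁻¹ * v * r := by group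
    rwa [e] at this
  · intro h
    have := D.V1_norm _ h1 _ h
    have e : p⁻¹ * r * (r⁻¹ * v * r) * (p⁻¹ * r)⁻¹ = p⁻¹ * v * p := by group
    rwa [e] at this

include D in
/-- different points of the base line have spread members meeting trivially -/
theorem eq_of_conj_mem {p r : G} (hp : p ∈ P2) (hr : r ∈ P2) {v : G} (hv : v ∈ V2) (hv1 : v ≠ 1)
    (h1 : p⁻¹ * v * p ∈ V1) (h2 : r⁻¹ * v * r ∈ V1) : p • o P1 = r • o P1 := by
  by_contra hne
  have h3 : r⁻¹ * p ∉ P1 := by
    intro h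
    apply hne
    have : (r⁻¹ * p) • o P1 = o P1 := (smul_o_eq_o_iff _).2 h
    rw [mul_smul] at this
    rw [← this, smul_inv_smul, this]
  have hV : ∀ s ∈ P2, s⁻¹ * v * s ∈ V2 := by
    intro s hs
    have := D.V2_norm s⁻¹ (P2.inv_mem hs) v hv
    simpa using this
  have h4 := D.H2 (r⁻¹ * p) (P2.mul_mem (P2.inv_mem hr) hp) h3 (p⁻¹ * v * p) ⟨h1, hV p hp⟩ (by
    have e : r⁻¹ * p * (p⁻¹ * v * p) * (r⁻¹ * p)⁻¹ = r⁻¹ * v * r := by group
    rw [e]
    exact ⟨h2, hV r hr⟩)
  apply hv1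
  have : v = p * (p⁻¹ * v * p) * p⁻¹ := by group
  rw [this, h4]
  group

include D in
/-- collinearity of two affine points and one point at infinity -/
theorem coll_inf_aff_aff {x0 : G ⧸ P1} (hx0 : x0 ∉ L0 P1 P2) {p : G} (hp : p ∈ P2) (u v : V2) :
    Coll P1 P2 (p • o P1) ((u : G) • x0) ((v : G) • x0) ↔ p⁻¹ * ((u * v⁻¹ : V2) : G) * p ∈ V1 := by
  constructor
  · rintro ⟨g, h1, h2, h3⟩
    by_cases huv : u = v
    · rw [huv, mul_inv_cancel]
      simp [V1.one_mem]
    · have ht1 : ((u * v⁻¹ : V2) : G) ≠ 1 := by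
        intro h
        apply huv
        have : u * v⁻¹ = 1 := Subtype.ext h
        exact mul_inv_eq_one.1 this
      obtain ⟨r, hr, hrW⟩ := exists_conj_mem_W D (u * v⁻¹ : V2).2
      obtain ⟨k, hk1, hk2, hk3⟩ := center_V1 D hrW.1 ((v : G) • x0)
      have hk2' : (u : G) • x0 ∈ k • L0 P1 P2 := by
        have e : ((u * v⁻¹ : V2) : G) • ((v : G) • x0) = (u : G) • x0 := by
          rw [smul_smul]
          congr 1
          push_cast
          group
        rwa [e] at hk2
      have hne : (u : G) • x0 ≠ (v : G) • x0 := by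
        intro h
        apply ht1
        apply V2_semiregular D (u * v⁻¹ : V2).2 (x := (v : G) • x0)
        · intro h'
          apply hx0
          have := smul_mem_L0 (D.V2_le_P2 (V2.inv_mem v.2)) h'
          rwa [inv_smul_smul] at this
        · rw [smul_smul]
          have e : ((u * v⁻¹ : V2) : G) * (v : G) = u := by push_cast; group
          rw [e, h]
      have hline := line_unique D hne h2 h3 hk2' hk1
      -- both `p • o` and `r • o` lie on the base line and on this line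
      have hpr : p • o P1 = r • o P1 := by
        by_contra hne'
        have hrg : r • o P1 ∈ g • L0 P1 P2 := by rw [hline]; exact hk3
        have h4 := line_unique D (g := 1) hne' (by rw [one_smul]; exact (mem_L0_iff _).2 ⟨p, hp, rfl⟩)
          (by rw [one_smul]; exact (mem_L0_iff _).2 ⟨r, hr, rfl⟩) h1 hrg
        rw [one_smul] at h4
        rw [← h4] at h2
        apply hx0
        have := smul_mem_L0 (D.V2_le_P2 (V2.inv_mem u.2)) h2
        rwa [inv_smul_smul] at this
      exact (conj_mem_iff D hpr _).2 hrW.1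
  · intro h
    obtain ⟨k, hk1, hk2, hk3⟩ := center_V1 D h ((v : G) • x0)
    refine ⟨k, hk3, ?_, hk1⟩
    have e : ((u * v⁻¹ : V2) : G) • ((v : G) • x0) = (u : G) • x0 := by
      rw [smul_smul]
      congr 1
      push_cast
      group
    rwa [e] at hk2

include D in
theorem coll_inf_inf {x y z : G ⧸ P1} (hx : x ∈ L0 P1 P2) (hy : y ∈ L0 P1 P2) (hz : z ∉ L0 P1 P2) :
    Coll P1 P2 x y z ↔ x = y := by
  constructor
  · rintro ⟨g, h1, h2, h3⟩
    by_contra hne
    have h4 := line_unique D (g := 1) hne (by rw [one_smul]; exact hx) (by rw [one_smul]; exact hy) h1 h2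
    rw [one_smul] at h4
    rw [← h4] at h3
    exact hz h3
  · rintro rfl
    obtain ⟨g, h1, h2⟩ := exists_line D x z
    exact ⟨g, h1, h1, h2⟩

section beta

variable {φ : V2 → F × F} (C : Coord P1 P2 V1 V2 φ) (x0 : G ⧸ P1) (hx0 : x0 ∉ L0 P1 P2)

/-- relation between points of the plane and points of the projective plane over `F` -/
def Rel (φ : V2 → F × F) (x0 : G ⧸ P1) (P2 V1 : Subgroup G) (x : G ⧸ P1) (y : ℙ F (Fin 3 → F)) : Prop :=
  (∃ v : V2, (v : G) • x0 = x ∧ y = mk F (av (φ v)) (av_ne _)) ∨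
  (∃ p ∈ P2, p • o P1 = x ∧ ∃ (d : F × F) (hd : d ≠ 0),
    (∀ v : V2, (p⁻¹ * (v : G) * p ∈ V1 ↔ ∃ a : F, φ v = (a * d.1, a * d.2))) ∧ y = mk F (iv d) (iv_ne hd))

include C D in
theorem exists_rel (x : G ⧸ P1) (hx0 : x0 ∉ L0 P1 P2) : ∃ y, Rel φ x0 P2 V1 x y := by
  by_cases hx : x ∈ L0 P1 P2
  · obtain ⟨p, hp, rfl⟩ := (mem_L0_iff x).1 hx
    obtain ⟨d, hd, hdir⟩ := C.dir p hp
    exact ⟨_, Or.inr ⟨p, hp, rfl, d, hd, hdir, rfl⟩⟩
  · obtain ⟨v, hv, hvx⟩ := V2_regular D hx0 hx
    exact ⟨_, Or.inl ⟨⟨v, hv⟩, hvx, rfl⟩⟩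

include D in
theorem not_mem_of_smul {x0 : G ⧸ P1} (hx0 : x0 ∉ L0 P1 P2) (v : V2) : (v : G) • x0 ∉ L0 P1 P2 := by
  intro h
  apply hx0
  have := smul_mem_L0 (D.V2_le_P2 (V2.inv_mem v.2)) h
  rwa [inv_smul_smul] at this

include C D in
/-- directions of spread members: same point iff parallel -/
theorem dir_iff {p r : G} (hp : p ∈ P2) (hr : r ∈ P2) {d e : F × F} (hd : d ≠ 0) (he : e ≠ 0)
    (hdir : ∀ v : V2, (p⁻¹ * (v : G) * p ∈ V1 ↔ ∃ a : F, φ v = (a * d.1, a * d.2)))
    (hdir' : ∀ v : V2, (r⁻¹ * (v : G) * r ∈ V1 ↔ ∃ a : F, φ v = (a * e.1, a * e.2))) :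
    p • o P1 = r • o P1 ↔ d.1 * e.2 - d.2 * e.1 = 0 := by
  constructor
  · intro h
    obtain ⟨v, hv⟩ := C.bij.2 e
    have h1 : r⁻¹ * (v : G) * r ∈ V1 := (hdir' v).2 ⟨1, by rw [hv, one_mul, one_mul]⟩
    have h2 := (hdir v).1 ((conj_mem_iff D h _).2 h1)
    rw [hv] at h2
    exact det_of_mul h2
  · intro h
    obtain ⟨v, hv⟩ := C.bij.2 e
    have h1 : r⁻¹ * (v : G) * r ∈ V1 := (hdir' v).2 ⟨1, by rw [hv, one_mul, one_mul]⟩
    have h2 : p⁻¹ * (v : G) * p ∈ V1 := (hdir v).2 (by rw [hv]; exact exists_mul_of_det hd h)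
    refine eq_of_conj_mem D hp hr v.2 ?_ h2 h1
    intro h3
    have : v = 1 := Subtype.ext h3
    rw [this, map_one C] at hv
    exact he hv.symm

include C D hx0 in
/-- collinearity is preserved and reflected -/
theorem coll_iff {x y z : G ⧸ P1} {x' y' z' : ℙ F (Fin 3 → F)} (hx : Rel φ x0 P2 V1 x x')
    (hy : Rel φ x0 P2 V1 y y') (hz : Rel φ x0 P2 V1 z z') : Coll P1 P2 x y z ↔ CollP x' y' z' := by
  -- the mixed cases
  have AAI : ∀ {x y z : G ⧸ P1} {x' y' z' : ℙ F (Fin 3 → F)},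
      (∃ p ∈ P2, p • o P1 = x ∧ ∃ (d : F × F) (hd : d ≠ 0),
        (∀ v : V2, (p⁻¹ * (v : G) * p ∈ V1 ↔ ∃ a : F, φ v = (a * d.1, a * d.2))) ∧ x' = mk F (iv d) (iv_ne hd)) →
      (∃ v : V2, (v : G) • x0 = y ∧ y' = mk F (av (φ v)) (av_ne _)) →
      (∃ v : V2, (v : G) • x0 = z ∧ z' = mk F (av (φ v)) (av_ne _)) →
      (Coll P1 P2 x y z ↔ CollP x' y' z') := by
    rintro _ _ _ _ _ _ ⟨p, hp, rfl, d, hd, hdir, rfl⟩ ⟨u, rfl, rfl⟩ ⟨v, rfl, rfl⟩
    rw [coll_inf_aff_aff D hx0 hp, collP_mk, D3_inf_aff_aff, hdir, map_div C]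
    constructor
    · intro h
      have := det_of_mul h
      simpa using this
    · intro h
      apply exists_mul_of_det hd
      simpa using h
  have AII : ∀ {x y z : G ⧸ P1} {x' y' z' : ℙ F (Fin 3 → F)},
      (∃ p ∈ P2, p • o P1 = x ∧ ∃ (d : F × F) (hd : d ≠ 0),
        (∀ v : V2, (p⁻¹ * (v : G) * p ∈ V1 ↔ ∃ a : F, φ v = (a * d.1, a * d.2))) ∧ x' = mk F (iv d) (iv_ne hd)) →
      (∃ p ∈ P2, p • o P1 = y ∧ ∃ (d : F × F) (hd : d ≠ 0),
        (∀ v : V2, (p⁻¹ * (v : G) * p ∈ V1 ↔ ∃ a : F, φ v = (a * d.1, a * d.2))) ∧ y' = mk F (iv d) (iv_ne hd)) →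
      (∃ v : V2, (v : G) • x0 = z ∧ z' = mk F (av (φ v)) (av_ne _)) →
      (Coll P1 P2 x y z ↔ CollP x' y' z') := by
    rintro _ _ _ _ _ _ ⟨p, hp, rfl, d, hd, hdir, rfl⟩ ⟨r, hr, rfl, e, he, hdir', rfl⟩ ⟨v, rfl, rfl⟩
    rw [coll_inf_inf D ((mem_L0_iff _).2 ⟨p, hp, rfl⟩) ((mem_L0_iff _).2 ⟨r, hr, rfl⟩) (not_mem_of_smul D hx0 v),
      collP_mk, D3_inf_inf_aff]
    exact dir_iff D C hp hr hd he hdir hdir'
  have rot : ∀ {x y z : G ⧸ P1} {x' y' z' : ℙ F (Fin 3 → F)}, (Coll P1 P2 x y z ↔ CollP x' y' z') →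
      (Coll P1 P2 y z x ↔ CollP y' z' x') := by
    intro x y z x' y' z' h
    exact ⟨fun h1 => collP_rot (h.1 h1.rot.rot), fun h1 => (h.2 (collP_rot (collP_rot h1))).rot⟩
  rcases hx with hx | hx
  · rcases hy with hy | hy
    · rcases hz with hz | hz
      · -- three affine points
        obtain ⟨u, rfl, rfl⟩ := hx
        obtain ⟨v, rfl, rfl⟩ := hy
        obtain ⟨w, rfl, rfl⟩ := hz
        rw [collP_mk, D3_aff_aff_aff]
        by_cases huw : u = w
        · subst huw
          rw [sub_self, sub_self, zero_mul, zero_mul, sub_self]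
          simp only [iff_true]
          obtain ⟨g, h1, h2⟩ := exists_line D ((u : G) • x0) ((v : G) • x0)
          exact ⟨g, h1, h2, h1⟩
        · have ht1 : ((u * w⁻¹ : V2) : G) ≠ 1 := by
            intro h
            apply huw
            have : u * w⁻¹ = 1 := Subtype.ext h
            exact mul_inv_eq_one.1 this
          obtain ⟨p, hp, hpW⟩ := exists_conj_mem_W D (u * w⁻¹ : V2).2
          obtain ⟨d, hd, hdir⟩ := C.dir p hp
          obtain ⟨a, ha⟩ := (hdir _).1 hpW.1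
          rw [map_div C] at ha
          have ha0 : a ≠ 0 := by
            rintro rfl
            rw [zero_mul, zero_mul] at ha
            apply huw
            apply C.bij.1
            exact sub_eq_zero.1 ha
          have hcol : Coll P1 P2 (p • o P1) ((u : G) • x0) ((w : G) • x0) := (coll_inf_aff_aff D hx0 hp u w).2 hpW.1
          have hne : (u : G) • x0 ≠ (w : G) • x0 := by
            intro h
            apply ht1
            apply V2_semiregular D (u * w⁻¹ : V2).2 (x := (w : G) • x0) (not_mem_of_smul D hx0 w)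
            rw [smul_smul]
            have e : ((u * w⁻¹ : V2) : G) * (w : G) = u := by push_cast; group
            rw [e, h]
          -- collinear iff `v w⁻¹` in the same spread member
          have h1 : Coll P1 P2 ((u : G) • x0) ((v : G) • x0) ((w : G) • x0) ↔
              Coll P1 P2 (p • o P1) ((v : G) • x0) ((w : G) • x0) := by
            obtain ⟨k, k1, k2, k3⟩ := hcol
            constructor
            · rintro ⟨g, g1, g2, g3⟩
              have := line_unique D hne g1 g3 k2 k3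
              exact ⟨k, k1, this ▸ g2, k3⟩
            · rintro ⟨g, g1, g2, g3⟩
              have hne2 : p • o P1 ≠ (w : G) • x0 := by
                intro h
                exact not_mem_of_smul D hx0 w (h ▸ (mem_L0_iff _).2 ⟨p, hp, rfl⟩)
              have := line_unique D hne2 g1 g3 k1 k3
              exact ⟨k, k2, this ▸ g2, k3⟩
          rw [h1, coll_inf_aff_aff D hx0 hp, hdir, map_div C]
          have e1 : (φ u).1 - (φ w).1 = a * d.1 := congrArg Prod.fst ha
          have e2 : (φ u).2 - (φ w).2 = a * d.2 := congrArg Prod.snd ha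
          rw [e1, e2]
          constructor
          · intro h
            have := det_of_mul h
            simp only [Prod.fst_sub, Prod.snd_sub] at this
            linear_combination a * this
          · intro h
            apply exists_mul_of_det hd
            simp only [Prod.fst_sub, Prod.snd_sub]
            have : a * (d.1 * ((φ v).2 - (φ w).2) - d.2 * ((φ v).1 - (φ w).1)) = 0 := by linear_combination h
            rcases mul_eq_zero.1 this with h | h
            · exact absurd h ha0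
            · exact h
      · exact rot (AAI hz hx hy)
    · rcases hz with hz | hz
      · exact rot (rot (AAI hy hz hx))
      · exact rot (rot (AII hy hz hx))
  · rcases hy with hy | hy
    · rcases hz with hz | hz
      · exact AAI hx hy hz
      · exact rot (AII hz hx hy)
    · rcases hz with hz | hz
      · exact AII hx hy hz
      · obtain ⟨p, hp, rfl, d, hd, hdir, rfl⟩ := hx
        obtain ⟨r, hr, rfl, e, he, hdir', rfl⟩ := hy
        obtain ⟨s, hs, rfl, g, hg, hdir'', rfl⟩ := hz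
        rw [collP_mk, D3_inf_inf_inf]
        simp only [iff_true]
        refine ⟨1, ?_, ?_, ?_⟩ <;> rw [one_smul, mem_L0_iff]
        · exact ⟨p, hp, rfl⟩
        · exact ⟨r, hr, rfl⟩
        · exact ⟨s, hs, rfl⟩

end beta

end Cfsg.Agent.LieExceptional.PlaneCoord
end

-- part: LieExceptional/PlaneMap
section
/-!
# The group of a coordinatised projective plane is `PSL₃`

`G` simple with `PlaneData` whose spread is coordinatised by a field `F`: then `G ≃* PSL₃(F)`.
-/

set_option autoImplicit false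

namespace Cfsg.Agent.LieExceptional.PlaneMap

open scoped Pointwise LinearAlgebra.Projectivization
open Projectivization Cfsg.Agent.LieExceptional.PlaneGeom Cfsg.Agent.LieExceptional.PlaneElation
  Cfsg.Agent.LieExceptional.PlaneCoord

universe u w

variable {G : Type u} [Group G] {P1 P2 V1 V2 : Subgroup G} {q : ℕ} {F : Type w} [Field F]

theorem iv_parallel_iff {d e : F × F} (hd : d ≠ 0) (he : e ≠ 0) :
    mk F (iv d) (iv_ne hd) = mk F (iv e) (iv_ne he) ↔ d.1 * e.2 - d.2 * e.1 = 0 := by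
  rw [mk_eq_mk_iff']
  constructor
  · rintro ⟨a, ha⟩
    have h0 := congrFun ha 0
    have h1 := congrFun ha 1
    simp only [iv, Pi.smul_apply, Matrix.cons_val_zero, Matrix.cons_val_one, smul_eq_mul] at h0 h1
    rw [← h0, ← h1]
    ring
  · intro h
    obtain ⟨a, ha⟩ := exists_mul_of_det he (e := d) (by linear_combination -h)
    refine ⟨a, ?_⟩
    rw [ha]
    funext i
    fin_cases i <;> simp [iv]

theorem av_eq_iff (a b : F × F) : mk F (av a) (av_ne a) = mk F (av b) (av_ne b) ↔ a = b := by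
  rw [mk_eq_mk_iff']
  constructor
  · rintro ⟨c, hc⟩
    have h0 := congrFun hc 0
    have h1 := congrFun hc 1
    have h2 := congrFun hc 2
    simp only [av, Pi.smul_apply, Matrix.cons_val_zero, Matrix.cons_val_one, Matrix.cons_val, smul_eq_mul] at h0 h1 h2
    rw [mul_one] at h2
    rw [h2, one_mul] at h0 h1
    exact Prod.ext h0.symm h1.symm
  · rintro rfl
    exact ⟨1, one_smul _ _⟩

theorem av_ne_iv (a : F × F) {d : F × F} (hd : d ≠ 0) : mk F (av a) (av_ne a) ≠ mk F (iv d) (iv_ne hd) := by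
  intro h
  rw [mk_eq_mk_iff'] at h
  obtain ⟨c, hc⟩ := h
  have h2 := congrFun hc 2
  simp [av, iv] at h2

variable (D : PlaneData G P1 P2 V1 V2 q) {φ : V2 → F × F} (C : Coord P1 P2 V1 V2 φ)

include D C in
theorem rel_eq_iff {x0 : G ⧸ P1} (hx0 : x0 ∉ L0 P1 P2) {x y : G ⧸ P1} {x' y' : ℙ F (Fin 3 → F)}
    (hx : Rel φ x0 P2 V1 x x') (hy : Rel φ x0 P2 V1 y y') : x = y ↔ x' = y' := by
  rcases hx with ⟨u, rfl, rfl⟩ | ⟨p, hp, rfl, d, hd, hdir, rfl⟩
  · rcases hy with ⟨v, rfl, rfl⟩ | ⟨r, hr, rfl, e, he, hdir', rfl⟩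
    · rw [av_eq_iff]
      constructor
      · intro h
        have h1 : ((v : G)⁻¹ * (u : G)) = 1 := by
          apply V2_semiregular D (V2.mul_mem (V2.inv_mem v.2) u.2) hx0
          rw [mul_smul, h, inv_smul_smul]
        have h2 : u = v := Subtype.ext (inv_mul_eq_one.1 h1).symm
        rw [h2]
      · intro h
        rw [C.bij.1 h]
    · constructor
      · intro h
        exact absurd (h ▸ (mem_L0_iff _).2 ⟨r, hr, rfl⟩) (not_mem_of_smul D hx0 u)
      · intro h
        exact absurd h (av_ne_iv _ he)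
  · rcases hy with ⟨v, rfl, rfl⟩ | ⟨r, hr, rfl, e, he, hdir', rfl⟩
    · constructor
      · intro h
        exact absurd (h ▸ (mem_L0_iff _).2 ⟨p, hp, rfl⟩) (not_mem_of_smul D hx0 v)
      · intro h
        exact absurd h.symm (av_ne_iv _ hd)
    · rw [dir_iff D C hp hr hd he hdir hdir', iv_parallel_iff hd he]

include D C in
theorem rel_surj {x0 : G ⧸ P1} (y : ℙ F (Fin 3 → F)) : ∃ x, Rel φ x0 P2 V1 x y := by
  induction y using Projectivization.ind with
  | h z hz =>
    by_cases h2 : z 2 = 0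
    · have hd : ((z 0, z 1) : F × F) ≠ 0 := by
        intro h
        apply hz
        have h0 : z 0 = 0 := congrArg Prod.fst h
        have h1 : z 1 = 0 := congrArg Prod.snd h
        funext i
        fin_cases i
        · exact h0
        · exact h1
        · exact h2
      obtain ⟨v, hv⟩ := C.bij.2 (z 0, z 1)
      obtain ⟨p, hp, hpW⟩ := exists_conj_mem_W D v.2
      obtain ⟨e, he, hdir⟩ := C.dir p hp
      obtain ⟨a, ha⟩ := (hdir v).1 hpW.1
      refine ⟨p • o P1, Or.inr ⟨p, hp, rfl, e, he, hdir, ?_⟩⟩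
      rw [hv] at ha
      rw [mk_eq_mk_iff']
      refine ⟨a, ?_⟩
      funext i
      have ha1 : z 0 = a * e.1 := congrArg Prod.fst ha
      have ha2 : z 1 = a * e.2 := congrArg Prod.snd ha
      fin_cases i
      · simp [iv, ha1]
      · simp [iv, ha2]
      · simp [iv, h2]
    · obtain ⟨v, hv⟩ := C.bij.2 (z 0 / z 2, z 1 / z 2)
      refine ⟨(v : G) • x0, Or.inl ⟨v, rfl, ?_⟩⟩
      rw [mk_eq_mk_iff']
      refine ⟨z 2, ?_⟩
      rw [hv]
      funext i
      fin_cases i
      · show z 2 * (z 0 / z 2) = z 0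
        field_simp
      · show z 2 * (z 1 / z 2) = z 1
        field_simp
      · simp [av]

include D in
theorem exists_not_mem_L0 : ∃ x0 : G ⧸ P1, x0 ∉ L0 P1 P2 := by
  by_contra h
  push Not at h
  have h1 : L0 P1 P2 = Set.univ := Set.eq_univ_of_forall h
  have h2 := card_L0 D
  rw [h1] at h2
  have h3 : Nat.card (Set.univ : Set (G ⧸ P1)) = q ^ 2 + q + 1 := by
    rw [← card_quot D]
    exact Nat.card_congr (Equiv.Set.univ _)
  rw [h3] at h2
  have := D.hq
  have : 0 < q ^ 2 := by positivity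
  omega

include D C in
/-- the identification of the plane with the projective plane over `F` -/
theorem exists_beta : ∃ β : (G ⧸ P1) ≃ ℙ F (Fin 3 → F), ∀ x y z,
    Coll P1 P2 x y z ↔ CollP (β x) (β y) (β z) := by
  obtain ⟨x0, hx0⟩ := exists_not_mem_L0 D
  choose b hb using fun x : G ⧸ P1 => exists_rel D C x0 x hx0
  have hbij : Function.Bijective b := by
    constructor
    · intro x y hxy
      exact (rel_eq_iff D C hx0 (hb x) (hb y)).2 hxy
    · intro y
      obtain ⟨x, hx⟩ := rel_surj D C (x0 := x0) y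
      exact ⟨x, (rel_eq_iff D C hx0 (hb x) hx).1 rfl⟩
  refine ⟨Equiv.ofBijective b hbij, fun x y z => ?_⟩
  exact coll_iff D C x0 hx0 (hb x) (hb y) (hb z)

section group

variable (β : (G ⧸ P1) ≃ ℙ F (Fin 3 → F))
  (hβ : ∀ x y z, Coll P1 P2 x y z ↔ CollP (β x) (β y) (β z))

/-- the permutation representation on the projective plane over `F` -/
def rho : G →* Equiv.Perm (ℙ F (Fin 3 → F)) :=
  β.permCongrHom.toMonoidHom.comp (MulAction.toPermHom G (G ⧸ P1))

theorem rho_apply (g : G) (y : ℙ F (Fin 3 → F)) : rho β g y = β (g • β.symm y) := rfl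

include hβ in
theorem rho_coll (g : G) (x y z : ℙ F (Fin 3 → F)) (h : CollP x y z) :
    CollP (rho β g x) (rho β g y) (rho β g z) := by
  rw [rho_apply, rho_apply, rho_apply, ← hβ]
  apply Coll.smul
  rw [hβ, β.apply_symm_apply, β.apply_symm_apply, β.apply_symm_apply]
  exact h

/-- cross product -/
def cr (a b : Fin 3 → F) : Fin 3 → F := ![a 1 * b 2 - a 2 * b 1, a 2 * b 0 - a 0 * b 2, a 0 * b 1 - a 1 * b 0]

theorem dot_cr (a b z : Fin 3 → F) : dot (cr a b) z = D3 a b z := by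
  simp only [dot_def, cr, D3_def, Matrix.cons_val_zero, Matrix.cons_val_one, Matrix.cons_val]
  ring

theorem cr_ne {a b : Fin 3 → F} (ha : a ≠ 0) (hb : b ≠ 0) (h : mk F a ha ≠ mk F b hb) : cr a b ≠ 0 := by
  intro h0
  apply h
  have e0 := congrFun h0 0
  have e1 := congrFun h0 1
  have e2 := congrFun h0 2
  simp only [cr, Matrix.cons_val_zero, Matrix.cons_val_one, Matrix.cons_val, Pi.zero_apply] at e0 e1 e2
  obtain ⟨μ, hμ⟩ := parallel (w := a) hb (by linear_combination e2) (by linear_combination -e1)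
    (by linear_combination e0)
  rw [mk_eq_mk_iff']
  exact ⟨μ, hμ.symm⟩

/-- the matrix of a transvection -/
def tv (f c : Fin 3 → F) (h : dot f c = 0) : Matrix.SpecialLinearGroup (Fin 3) F :=
  ⟨1 + Matrix.vecMulVec c f, by
    rw [Matrix.det_fin_three]
    simp only [Matrix.add_apply, Matrix.vecMulVec_apply, Matrix.one_apply_eq]
    rw [Matrix.one_apply_ne (by decide), Matrix.one_apply_ne (by decide), Matrix.one_apply_ne (by decide),
      Matrix.one_apply_ne (by decide), Matrix.one_apply_ne (by decide), Matrix.one_apply_ne (by decide)]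
    rw [dot_def] at h
    linear_combination h⟩

theorem tv_smul (f c : Fin 3 → F) (h : dot f c = 0) (x : Fin 3 → F) : tv f c h • x = x + dot f x • c := by
  rw [Matrix.SpecialLinearGroup.smul_def]
  change ((1 : Matrix (Fin 3) (Fin 3) F) + Matrix.vecMulVec c f).mulVec x = _
  rw [Matrix.add_mulVec, Matrix.one_mulVec]
  congr 1
  funext i
  simp only [Matrix.mulVec, dotProduct, Matrix.vecMulVec_apply, Fin.sum_univ_three, dot_def, Pi.smul_apply,
    smul_eq_mul]
  ring

include D in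
theorem exists_two : ∃ x ∈ L0 P1 P2, ∃ y ∈ L0 P1 P2, x ≠ y := by
  have h1 := card_L0 D
  have hq := D.hq
  have h2 : 1 < (L0 P1 P2).ncard := by
    rw [← Nat.card_coe_set_eq, h1]
    omega
  obtain ⟨x, hx, y, hy, hxy⟩ := (Set.one_lt_ncard (Set.finite_of_ncard_pos (by omega))).1 h2
  exact ⟨x, hx, y, hy, hxy⟩

include D hβ in
/-- the equation of a line -/
theorem exists_axis (g : G) : ∃ f : Fin 3 → F, f ≠ 0 ∧ ∀ (x : Fin 3 → F) (hx : x ≠ 0),
    dot f x = 0 ↔ β.symm (mk F x hx) ∈ g • L0 P1 P2 := by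
  obtain ⟨z1, hz1, z2, hz2, hne⟩ := exists_two D
  have hg1 : g • z1 ∈ g • L0 P1 P2 := Set.smul_mem_smul_set hz1
  have hg2 : g • z2 ∈ g • L0 P1 P2 := Set.smul_mem_smul_set hz2
  have hne' : g • z1 ≠ g • z2 := fun h => hne (MulAction.injective g h)
  obtain ⟨a, ha, hza⟩ : ∃ (a : Fin 3 → F) (ha : a ≠ 0), β (g • z1) = mk F a ha :=
    ⟨(β (g • z1)).rep, rep_nonzero _, (mk_rep _).symm⟩
  obtain ⟨b, hb, hzb⟩ : ∃ (b : Fin 3 → F) (hb : b ≠ 0), β (g • z2) = mk F b hb :=
    ⟨(β (g • z2)).rep, rep_nonzero _, (mk_rep _).symm⟩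
  refine ⟨cr a b, cr_ne ha hb ?_, fun x hx => ?_⟩
  · rw [← hza, ← hzb]
    exact fun h => hne' (β.injective h)
  · rw [dot_cr, ← collP_mk ha hb hx, ← hza, ← hzb]
    have h1 : CollP (β (g • z1)) (β (g • z2)) (mk F x hx) ↔
        Coll P1 P2 (g • z1) (g • z2) (β.symm (mk F x hx)) := by
      rw [hβ, β.apply_symm_apply]
    rw [h1]
    constructor
    · rintro ⟨k, k1, k2, k3⟩
      rw [line_unique D hne' hg1 hg2 k1 k2]
      exact k3
    · intro h
      exact ⟨g, hg1, hg2, h⟩

include D hβ in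
/-- conjugates of elements of `V2` are transvections -/
theorem rho_conj {g p v : G} (hv : v ∈ V2) (hvp : p⁻¹ * v * p ∈ V1) {f c : Fin 3 → F}
    (hf : f ≠ 0) (hc : c ≠ 0) (hfc : dot f c = 0)
    (hax : ∀ (x : Fin 3 → F) (hx : x ≠ 0), dot f x = 0 → β.symm (mk F x hx) ∈ g • L0 P1 P2)
    (hcen : β (g • p • o P1) = mk F c hc) :
    ∃ b : F, ∀ (x : Fin 3 → F) (hx : x ≠ 0), ∃ h : x + (b * dot f x) • c ≠ 0,
      rho β (g * v * g⁻¹) (mk F x hx) = mk F (x + (b * dot f x) • c) h := by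
  refine elation (rho β (g * v * g⁻¹)) (rho_coll β hβ _) hc hfc ?_ ?_ hf
  · intro x hx h
    rw [rho_apply]
    have h1 := hax x hx h
    have h2 : (g * v * g⁻¹) • (β.symm (mk F x hx)) = β.symm (mk F x hx) := by
      rw [Set.mem_smul_set_iff_inv_smul_mem] at h1
      rw [mul_smul, mul_smul, V2_fix D hv h1, smul_inv_smul]
    rw [h2, β.apply_symm_apply]
  · intro y
    rw [rho_apply, ← hcen]
    have h1 : Coll P1 P2 (β.symm y) ((g * v * g⁻¹) • β.symm y) (g • p • o P1) := by
      obtain ⟨k, k1, k2, k3⟩ := center_V1 D hvp (g⁻¹ • β.symm y)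
      have h2 := Coll.smul (P1 := P1) (P2 := P2) ⟨k, k1, k2, k3⟩ g
      rw [smul_inv_smul] at h2
      have h3 : g • v • g⁻¹ • β.symm y = (g * v * g⁻¹) • β.symm y := by
        rw [mul_smul, mul_smul]
      rwa [h3] at h2
    rw [hβ, β.apply_symm_apply] at h1
    exact h1

include D hβ in
theorem rho_conj_mem {g v : G} (hv : v ∈ V2) :
    rho β (g * v * g⁻¹) ∈ (MulAction.toPermHom (Matrix.SpecialLinearGroup (Fin 3) F) (ℙ F (Fin 3 → F))).range := by
  obtain ⟨p, hp, hpW⟩ := exists_conj_mem_W D hv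
  obtain ⟨f, hf, hax⟩ := exists_axis D β hβ g
  obtain ⟨c, hc, hcen⟩ : ∃ (c : Fin 3 → F) (hc : c ≠ 0), β (g • p • o P1) = mk F c hc :=
    ⟨(β (g • p • o P1)).rep, rep_nonzero _, (mk_rep _).symm⟩
  have hfc : dot f c = 0 := by
    rw [hax c hc, ← hcen, β.symm_apply_apply]
    exact Set.smul_mem_smul_set ((mem_L0_iff _).2 ⟨p, hp, rfl⟩)
  obtain ⟨b, hb⟩ := rho_conj D β hβ hv hpW.1 hf hc hfc (fun x hx h => (hax x hx).1 h) hcen
  have hfbc : dot f (b • c) = 0 := by rw [dot_smul, hfc, mul_zero]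
  refine ⟨tv f (b • c) hfbc, ?_⟩
  ext y
  induction y using Projectivization.ind with
  | h x hx =>
    obtain ⟨h, hx'⟩ := hb x hx
    rw [MulAction.toPermHom_apply, MulAction.toPerm_apply, smul_mk, hx']
    congr 1
    rw [tv_smul, smul_smul, mul_comm]

include D hβ in
theorem rho_mem [IsSimpleGroup G] (g : G) :
    rho β g ∈ (MulAction.toPermHom (Matrix.SpecialLinearGroup (Fin 3) F) (ℙ F (Fin 3 → F))).range := by
  have hN : Subgroup.normalClosure (V2 : Set G) = ⊤ := by
    rcases Subgroup.Normal.eq_bot_or_eq_top (Subgroup.normalClosure_normal (s := (V2 : Set G))) with h | h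
    · exfalso
      have h1 : V2 = ⊥ := by
        rw [eq_bot_iff, ← h]
        exact Subgroup.subset_normalClosure
      have h2 := D.card_V2
      rw [h1, Subgroup.card_bot] at h2
      have := D.hq
      nlinarith
    · exact h
  have h1 : (⊤ : Subgroup G) ≤
      (MulAction.toPermHom (Matrix.SpecialLinearGroup (Fin 3) F) (ℙ F (Fin 3 → F))).range.comap (rho β) := by
    rw [← hN, Subgroup.normalClosure, Subgroup.closure_le]
    intro x hx
    rw [Group.mem_conjugatesOfSet_iff] at hx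
    obtain ⟨v, hv, hvx⟩ := hx
    obtain ⟨k, rfl⟩ := isConj_iff.1 hvx
    exact rho_conj_mem D β hβ hv
  exact h1 (Subgroup.mem_top g)

include D in
theorem rho_injective [IsSimpleGroup G] : Function.Injective (rho β) := by
  rw [← MonoidHom.ker_eq_bot_iff]
  rcases Subgroup.Normal.eq_bot_or_eq_top (MonoidHom.normal_ker (rho β)) with h | h
  · exact h
  · exfalso
    have h1 : P1 = ⊤ := by
      rw [eq_top_iff]
      intro g _
      have h2 : g ∈ (rho β).ker := by rw [h]; trivial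
      rw [MonoidHom.mem_ker] at h2
      have h3 := rho_apply β g (β (o P1))
      rw [h2, β.symm_apply_apply] at h3
      have h4 : g • o P1 = o P1 := β.injective h3.symm
      exact (smul_o_eq_o_iff g).1 h4
    have h2 := D.index_G
    rw [h1, Subgroup.index_top] at h2
    have := D.hq
    nlinarith

include D C in
theorem card_F : Finite F ∧ Nat.card F = q := by
  have hq := D.hq
  have hVfin : Finite V2 := (Nat.card_pos_iff.1 (by rw [D.card_V2]; positivity)).2
  have h1 : Nat.card (F × F) = q ^ 2 := by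
    rw [← D.card_V2]
    exact (Nat.card_congr (Equiv.ofBijective φ C.bij)).symm
  have hF2 : Finite (F × F) := Finite.of_surjective φ C.bij.2
  have hF : Finite F := Finite.of_injective (fun x : F => ((x, 0) : F × F)) (fun x y h => congrArg Prod.fst h)
  refine ⟨hF, ?_⟩
  rw [Nat.card_prod, ← sq] at h1
  exact Nat.pow_left_injective (n := 2) (by norm_num) h1

include D C hβ in
/-- the elementary transvections lie in the image -/
theorem transvection_mem [IsSimpleGroup G] {i j : Fin 3} (hij : i ≠ j) (b : F) :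
    MulAction.toPermHom (Matrix.SpecialLinearGroup (Fin 3) F) (ℙ F (Fin 3 → F))
      (Matrix.SpecialLinearGroup.transvection hij b) ∈ (rho β).range := by
  obtain ⟨hFfin, hFcard⟩ := card_F D C
  obtain ⟨k, hki, hkj⟩ : ∃ k : Fin 3, k ≠ i ∧ k ≠ j := by
    revert i j
    decide
  -- the coordinate vectors
  let e : Fin 3 → (Fin 3 → F) := fun l => Pi.single l 1
  have he : ∀ l, e l ≠ 0 := fun l h => by
    have := congrFun h l
    simp [e] at this
  have hdot : ∀ x : Fin 3 → F, dot (e j) x = x j := by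
    intro x
    fin_cases j <;> simp [e, dot_def, Pi.single_apply]
  have hcoll : ∀ (x : Fin 3 → F), x j = 0 → D3 (e i) (e k) x = 0 := by
    intro x hx
    fin_cases i <;> fin_cases j <;> fin_cases k <;> simp_all [e, D3_def, Pi.single_apply]
  have hne : mk F (e i) (he i) ≠ mk F (e k) (he k) := by
    intro h
    rw [mk_eq_mk_iff'] at h
    obtain ⟨a, ha⟩ := h
    have := congrFun ha i
    simp [e, Pi.single_apply, hki.symm] at this
  have hne' : β.symm (mk F (e i) (he i)) ≠ β.symm (mk F (e k) (he k)) := fun h => hne (β.symm.injective h)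
  obtain ⟨g, hg1, hg2⟩ := exists_line D (β.symm (mk F (e i) (he i))) (β.symm (mk F (e k) (he k)))
  have hax : ∀ (x : Fin 3 → F) (hx : x ≠ 0), dot (e j) x = 0 → β.symm (mk F x hx) ∈ g • L0 P1 P2 := by
    intro x hx h
    rw [hdot] at h
    have h1 : CollP (mk F (e i) (he i)) (mk F (e k) (he k)) (mk F x hx) := by
      rw [collP_mk]
      exact hcoll x h
    rw [← β.apply_symm_apply (mk F (e i) (he i)), ← β.apply_symm_apply (mk F (e k) (he k)),
      ← β.apply_symm_apply (mk F x hx), ← hβ] at h1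
    obtain ⟨l, l1, l2, l3⟩ := h1
    rw [line_unique D hne' hg1 hg2 l1 l2]
    exact l3
  obtain ⟨p, hp, hpe⟩ := (mem_L0_iff _).1 (Set.mem_smul_set_iff_inv_smul_mem.1 hg1)
  have hcen : β (g • p • o P1) = mk F (e i) (he i) := by
    rw [hpe, smul_inv_smul, β.apply_symm_apply]
  have hfc : dot (e j) (e i) = 0 := by
    rw [hdot]
    simp [e, Pi.single_apply, hij.symm]
  -- the group of elations with this axis and centre
  let S := {v : G // v ∈ V2 ∧ p⁻¹ * v * p ∈ V1}
  have hS : Nat.card S = q := by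
    rw [← D.card_W]
    refine Nat.card_congr ⟨fun v => ⟨p⁻¹ * v.1 * p, v.2.2, ?_⟩, fun w => ⟨p * w.1 * p⁻¹, ?_, ?_⟩, ?_, ?_⟩
    · have := D.V2_norm p⁻¹ (P2.inv_mem hp) v.1 v.2.1
      simpa using this
    · exact D.V2_norm p hp w.1 w.2.2
    · have : p⁻¹ * (p * (w : G) * p⁻¹) * p = w := by group
      rw [this]
      exact w.2.1
    · intro v
      apply Subtype.ext
      show p * (p⁻¹ * v.1 * p) * p⁻¹ = v.1
      group
    · intro w
      apply Subtype.ext
      show p⁻¹ * (p * (w : G) * p⁻¹) * p = w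
      group
  choose t ht using fun v : S => rho_conj D β hβ v.2.1 v.2.2 (he j) (he i) hfc hax hcen
  have hinj : Function.Injective t := by
    intro u v huv
    have h1 : rho β (g * u.1 * g⁻¹) = rho β (g * v.1 * g⁻¹) := by
      ext y
      induction y using Projectivization.ind with
      | h x hx =>
        obtain ⟨h2, h3⟩ := ht u x hx
        obtain ⟨h4, h5⟩ := ht v x hx
        rw [h3, h5]
        congr 1
        rw [huv]
    have h2 := rho_injective D β h1
    exact Subtype.ext (mul_left_cancel (mul_right_cancel h2))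
  have hSfin : Finite S := (Nat.card_pos_iff.1 (by rw [hS]; have := D.hq; omega)).2
  have hsurj : Function.Surjective t :=
    ((Nat.bijective_iff_injective_and_card t).2 ⟨hinj, by rw [hS, hFcard]⟩).2
  obtain ⟨v, hv⟩ := hsurj b
  refine ⟨g * v.1 * g⁻¹, ?_⟩
  ext y
  induction y using Projectivization.ind with
  | h x hx =>
    obtain ⟨h2, h3⟩ := ht v x hx
    rw [MulAction.toPermHom_apply, MulAction.toPerm_apply, smul_mk, h3]
    congr 1
    rw [Cfsg.Agent.LieClassical.SLGen.transvection_smul, hv, hdot]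

end group

include D C in
/-- the identification theorem -/
theorem psl_of_coord [IsSimpleGroup G] : Nonempty (G ≃* Matrix.ProjectiveSpecialLinearGroup (Fin 3) F) := by
  obtain ⟨β, hβ⟩ := exists_beta D C
  have hrange : (rho β).range = (PSLAction.toPermHom (K := F) (ι := Fin 3)).range := by
    have h1 : (PSLAction.toPermHom (K := F) (ι := Fin 3)).range =
        (MulAction.toPermHom (Matrix.SpecialLinearGroup (Fin 3) F) (ℙ F (Fin 3 → F))).range := by
      ext y
      constructor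
      · rintro ⟨x, rfl⟩
        obtain ⟨x, rfl⟩ := QuotientGroup.mk_surjective x
        exact ⟨x, rfl⟩
      · rintro ⟨x, rfl⟩
        exact ⟨(x : Matrix.ProjectiveSpecialLinearGroup (Fin 3) F), rfl⟩
    rw [h1]
    apply le_antisymm
    · rintro _ ⟨g, rfl⟩
      exact rho_mem D β hβ g
    · rintro _ ⟨A, rfl⟩
      have h2 : (⊤ : Subgroup (Matrix.SpecialLinearGroup (Fin 3) F)) ≤ (rho β).range.comap
          (MulAction.toPermHom (Matrix.SpecialLinearGroup (Fin 3) F) (ℙ F (Fin 3 → F))) := by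
        rw [← Cfsg.Agent.LieClassical.SLGen.closure_transvections, Subgroup.closure_le]
        rintro _ ⟨i, j, hij, b, rfl⟩
        exact transvection_mem D C β hβ hij b
      exact h2 (Subgroup.mem_top A)
  refine ⟨(MonoidHom.ofInjective (rho_injective D β)).trans ((MulEquiv.subgroupCongr hrange).trans
    (MonoidHom.ofInjective Matrix.ProjectiveSpecialLinearGroup.toPermHom_injective).symm)⟩

end Cfsg.Agent.LieExceptional.PlaneMap
end
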