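import Mathlib
import Cfsg.Prelude.Def_LieExceptional
import Cfsg.Prelude.Def_Solvable
import Cfsg.Agent.S0035
set_option linter.all false

/-!
# TI-subgroups of even order containing the centralisers of their non-identity elements

`H` is a subgroup of even order of a finite simple group `G`, `C_G(h) ≤ H` for `1 ≠ h ∈ H`, and `H` is a
TI-subgroup.  Then `G` is a Zassenhaus group on the cosets of `N_G(H)`, of degree `|H| + 1`.
-/

set_option autoImplicit false

namespace Cfsg.Agent.LieExceptional.CCEven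

open Subgroup

/-- the configuration -/
structure Conf {G : Type*} [Group G] (H : Subgroup G) : Prop where
  cent : ∀ h ∈ H, h ≠ 1 → ∀ g : G, g * h = h * g → g ∈ H
  ti : ∀ h ∈ H, h ≠ 1 → ∀ g : G, g * h * g⁻¹ ∈ H → g ∈ normalizer (H : Set G)
  even : 2 ∣ Nat.card H

variable {G : Type*} [Group G] [Finite G] {H : Subgroup G}

omit [Finite G] in
theorem mem_norm {g : G} : g ∈ normalizer (H : Set G) ↔ ∀ h, h ∈ H ↔ g * h * g⁻¹ ∈ H :=
  mem_normalizer_iff

/-- elements of prime order `p` of the normaliser lie in `H` if `p` divides `|H|` -/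
theorem mem_of_prime (hc : Conf H) {p : ℕ} (hp : p.Prime) (hpH : p ∣ Nat.card H) {u : G}
    (hu : u ∈ normalizer (H : Set G)) (hup : orderOf u = p) : u ∈ H := by
  have := Fact.mk hp
  have hle : zpowers u ≤ normalizer (H : Set G) := by
    rw [zpowers_le]; exact hu
  let act : MulAction (zpowers u) H :=
    { smul := fun a h => ⟨(a : G) * h * (a : G)⁻¹, (mem_norm.1 (hle a.2) h).1 h.2⟩
      one_smul := fun h => Subtype.ext (by show (1 : G) * h * (1 : G)⁻¹ = h; simp)
      mul_smul := fun a b h => Subtype.ext (by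
        show ((a * b : zpowers u) : G) * h * ((a * b : zpowers u) : G)⁻¹ =
          (a : G) * ((b : G) * h * (b : G)⁻¹) * (a : G)⁻¹
        rw [Subgroup.coe_mul]; group) }
  have hsmul : ∀ (a : zpowers u) (h : H), ((a • h : H) : G) = (a : G) * h * (a : G)⁻¹ := fun _ _ => rfl
  have hpg : IsPGroup p (zpowers u) := by
    apply IsPGroup.of_card (n := 1)
    rw [Nat.card_zpowers, hup, pow_one]
  have h1 : (1 : H) ∈ MulAction.fixedPoints (zpowers u) H := by
    intro a
    apply Subtype.ext
    rw [hsmul]; simp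
  obtain ⟨b, hb, hb1⟩ := hpg.exists_fixed_point_of_prime_dvd_card_of_fixed_point H hpH h1
  have hb' : (b : G) ≠ 1 := by
    intro h; exact hb1 (Subtype.ext h.symm)
  refine hc.cent b b.2 hb' u ?_
  have := hb ⟨u, mem_zpowers u⟩
  have h2 := congrArg Subtype.val this
  rw [hsmul] at h2
  exact mul_inv_eq_iff_eq_mul.1 h2

/-- non-identity elements of `H` are conjugate into the normaliser only by elements of the normaliser -/
theorem mem_norm_of_conj (hc : Conf H) {h : G} (hh : h ∈ H) (h1 : h ≠ 1) {g : G}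
    (hg : g * h * g⁻¹ ∈ normalizer (H : Set G)) : g ∈ normalizer (H : Set G) := by
  obtain ⟨p, hp, hpd⟩ := Nat.exists_prime_and_dvd (mt orderOf_eq_one_iff.1 h1)
  obtain ⟨k, hk⟩ := hpd
  have hpos : 0 < orderOf h := orderOf_pos h
  have hk0 : k ≠ 0 := by rintro rfl; omega
  have hord : orderOf (h ^ k) = p := by
    rw [orderOf_pow_of_dvd hk0 ⟨p, by rw [hk, mul_comm]⟩, hk, Nat.mul_div_cancel _ (Nat.pos_of_ne_zero hk0)]
  have hpH : p ∣ Nat.card H := by
    have h3 : orderOf (⟨h ^ k, pow_mem hh k⟩ : H) = p := by rw [Subgroup.orderOf_mk, hord]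
    rw [← h3]; exact orderOf_dvd_natCard _
  have h4 : g * h ^ k * g⁻¹ ∈ normalizer (H : Set G) := by
    rw [← conj_pow]; exact pow_mem hg k
  have h5 : g * h ^ k * g⁻¹ ∈ H := by
    apply mem_of_prime hc hp hpH h4
    have : orderOf (g * h ^ k * g⁻¹) = orderOf (MulAut.conj g (h ^ k)) := rfl
    rw [this, MulEquiv.orderOf_eq, hord]
  refine hc.ti (h ^ k) (pow_mem hh k) ?_ g h5
  intro h6
  rw [h6, orderOf_one] at hord
  exact hp.one_lt.ne hord

/-- the intersection of the normaliser with a conjugate by an outside element meets `H` trivially -/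
theorem inter_trivial (hc : Conf H) {x : G} (hx : x ∉ normalizer (H : Set G)) {h : G} (hh : h ∈ H)
    (hxh : x⁻¹ * h * x ∈ normalizer (H : Set G)) : h = 1 := by
  by_contra h1
  apply hx
  have := mem_norm_of_conj hc hh h1 (g := x⁻¹) (by simpa using hxh)
  simpa using inv_mem this

theorem involution_mem (hc : Conf H) {u : G} (hu : u ∈ normalizer (H : Set G)) (h2 : orderOf u = 2) :
    u ∈ H := mem_of_prime hc Nat.prime_two hc.even hu h2

theorem exists_involution (hc : Conf H) : ∃ u ∈ H, orderOf u = 2 := by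
  have : Fact (Nat.Prime 2) := ⟨Nat.prime_two⟩
  obtain ⟨u, hu⟩ := exists_prime_orderOf_dvd_card' (G := H) 2 hc.even
  exact ⟨u, u.2, by rw [Subgroup.orderOf_coe]; exact hu⟩

/-- every involution of `G` is conjugate into `H` -/
theorem exists_conj_mem (hc : Conf H) {u : G} (hu : orderOf u = 2) : ∃ g : G, g * u * g⁻¹ ∈ H := by
  have : Fact (Nat.Prime 2) := ⟨Nat.prime_two⟩
  obtain ⟨h0, hh0, ho⟩ := exists_involution hc
  have hp0 : IsPGroup 2 (zpowers h0) := by
    apply IsPGroup.of_card (n := 1)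
    rw [Nat.card_zpowers, ho, pow_one]
  obtain ⟨P, hP⟩ := hp0.exists_le_sylow
  have h0P : h0 ∈ P := hP (mem_zpowers h0)
  have h01 : h0 ≠ 1 := by rintro rfl; rw [orderOf_one] at ho; omega
  have : Nontrivial P := ⟨⟨⟨h0, h0P⟩, 1, fun h => h01 (congrArg Subtype.val h)⟩⟩
  have hnt : Nontrivial (center P) := P.isPGroup'.center_nontrivial
  obtain ⟨w, hw⟩ := exists_ne (1 : center P)
  have hw1 : ((w : P) : G) ≠ 1 := by
    intro h
    apply hw
    apply Subtype.ext
    apply Subtype.ext
    exact h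
  have hwc : ∀ g ∈ P, g * ((w : P) : G) = ((w : P) : G) * g := by
    intro g hg
    have := mem_center_iff.1 w.2 ⟨g, hg⟩
    exact congrArg Subtype.val this
  have hwH : ((w : P) : G) ∈ H := hc.cent h0 hh0 h01 _ (hwc h0 h0P).symm
  have hPH : ∀ g ∈ P, g ∈ H := fun g hg => hc.cent _ hwH hw1 g (hwc g hg)
  have hpu : IsPGroup 2 (zpowers u) := by
    apply IsPGroup.of_card (n := 1)
    rw [Nat.card_zpowers, hu, pow_one]
  obtain ⟨Q, hQ⟩ := hpu.exists_le_sylow
  obtain ⟨g, hg⟩ := MulAction.exists_smul_eq G Q P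
  refine ⟨g, hPH _ ?_⟩
  have : g * u * g⁻¹ ∈ (g • Q : Sylow 2 G) := by
    show g * u * g⁻¹ ∈ ((g • Q : Sylow 2 G) : Subgroup G)
    rw [Sylow.coe_subgroup_smul, Subgroup.mem_pointwise_smul_iff_inv_smul_mem]
    have e : (MulAut.conj g)⁻¹ • (g * u * g⁻¹) = u := by
      rw [← map_inv, MulAut.smul_def, MulAut.conj_apply]; group
    rw [e]
    exact hQ (mem_zpowers u)
  rwa [hg] at this

/-- the two-point stabiliser `N ∩ x N x⁻¹` -/
def D (H : Subgroup G) (x : G) : Subgroup G :=
  normalizer (H : Set G) ⊓ (normalizer (H : Set G)).comap (MulAut.conj x⁻¹).toMonoidHom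

omit [Finite G] in
theorem mem_D {x d : G} : d ∈ D H x ↔
    d ∈ normalizer (H : Set G) ∧ x⁻¹ * d * x ∈ normalizer (H : Set G) := by
  rw [D, mem_inf, mem_comap]
  simp

theorem D_inf (hc : Conf H) {x : G} (hx : x ∉ normalizer (H : Set G)) {d : G} (hd : d ∈ D H x)
    (hdH : d ∈ H) : d = 1 :=
  inter_trivial hc hx hdH (mem_D.1 hd).2

/-- a subgroup `L` of the normaliser meeting `H` trivially has order at most `|N : H|` -/
theorem card_mul_le {L : Subgroup G} (hL : L ≤ normalizer (H : Set G))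
    (h1 : ∀ d ∈ L, d ∈ H → d = 1) :
    Nat.card H * Nat.card L ≤ Nat.card (normalizer (H : Set G)) := by
  rw [← Nat.card_prod]
  apply Nat.card_le_card_of_injective
    (fun p : H × L => (⟨(p.1 : G) * p.2, mul_mem (le_normalizer p.1.2) (hL p.2.2)⟩ :
      normalizer (H : Set G)))
  rintro ⟨h, d⟩ ⟨h', d'⟩ hh
  have hh' : (h : G) * d = h' * d' := congrArg Subtype.val hh
  have e : (h' : G)⁻¹ * h = d' * (d : G)⁻¹ := by
    rw [eq_mul_inv_iff_mul_eq, mul_assoc, hh']; group
  have e1 : (d' : G) * (d : G)⁻¹ = 1 := by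
    apply h1 _ (mul_mem d'.2 (inv_mem d.2))
    rw [← e]; exact mul_mem (inv_mem h'.2) h.2
  rw [e1] at e
  ext
  · exact (inv_mul_eq_one.1 e).symm
  · exact (mul_inv_eq_one.1 e1).symm

omit [Finite G] in
/-- the order of `N` is `|H|` times the index `ℓ` -/
theorem card_norm : Nat.card H * (H.relIndex (normalizer (H : Set G))) =
    Nat.card (normalizer (H : Set G)) := by
  have h1 := Subgroup.card_mul_index (H.subgroupOf (normalizer (H : Set G)))
  rw [Nat.card_congr (Subgroup.subgroupOfEquivOfLe (le_normalizer (H := H))).toEquiv] at h1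
  exact h1

theorem card_L_le (L : Subgroup G) (hL : L ≤ normalizer (H : Set G))
    (h1 : ∀ d ∈ L, d ∈ H → d = 1) : Nat.card L ≤ H.relIndex (normalizer (H : Set G)) := by
  have h2 := card_mul_le hL h1
  rw [← card_norm] at h2
  exact Nat.le_of_mul_le_mul_left h2 Nat.card_pos

theorem card_D_le (hc : Conf H) {x : G} (hx : x ∉ normalizer (H : Set G)) :
    Nat.card (D H x) ≤ H.relIndex (normalizer (H : Set G)) :=
  card_L_le _ inf_le_left (fun _ hd hdH => D_inf hc hx hd hdH)

/-- number of involutions of `G` -/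
theorem card_inv (hc : Conf H) : Nat.card {u : G // orderOf u = 2} =
    (normalizer (H : Set G)).index * Nat.card {u : G // u ∈ H ∧ orderOf u = 2} := by
  have hord : ∀ g u : G, orderOf (g * u * g⁻¹) = orderOf u := fun g u =>
    MulEquiv.orderOf_eq (MulAut.conj g) u
  rw [Subgroup.index, ← Nat.card_prod]
  symm
  apply Nat.card_eq_of_bijective
    (fun p : (G ⧸ normalizer (H : Set G)) × {u : G // u ∈ H ∧ orderOf u = 2} =>
      (⟨p.1.out * p.2.1 * (p.1.out)⁻¹, by rw [hord]; exact p.2.2.2⟩ : {u : G // orderOf u = 2}))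
  constructor
  · rintro ⟨q, i⟩ ⟨q', i'⟩ h
    have h' : q.out * i.1 * (q.out)⁻¹ = q'.out * i'.1 * (q'.out)⁻¹ := congrArg Subtype.val h
    have hi1 : i.1 ≠ 1 := by
      intro h1
      have := i.2.2
      rw [h1, orderOf_one] at this
      omega
    have hq : (q'.out)⁻¹ * q.out ∈ normalizer (H : Set G) := by
      apply hc.ti i.1 i.2.1 hi1
      have : (q'.out)⁻¹ * q.out * i.1 * ((q'.out)⁻¹ * q.out)⁻¹ = i'.1 := by
        calc (q'.out)⁻¹ * q.out * i.1 * ((q'.out)⁻¹ * q.out)⁻¹
            = (q'.out)⁻¹ * (q.out * i.1 * (q.out)⁻¹) * q'.out := by group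
          _ = i'.1 := by rw [h']; group
      rw [this]; exact i'.2.1
    have hqq : q = q' := by
      rw [← QuotientGroup.out_eq' q, ← QuotientGroup.out_eq' q']
      exact (QuotientGroup.eq.2 hq).symm
    subst hqq
    have : i.1 = i'.1 := by simpa using h'
    exact Prod.ext rfl (Subtype.ext this)
  · rintro ⟨u, hu⟩
    obtain ⟨g, hg⟩ := exists_conj_mem hc hu
    set q : G ⧸ normalizer (H : Set G) := ((g⁻¹ : G) : G ⧸ normalizer (H : Set G)) with hq
    have h1 : g * q.out ∈ normalizer (H : Set G) := by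
      have := QuotientGroup.out_eq' q
      rw [hq] at this
      have h2 := QuotientGroup.eq.1 this.symm
      simpa using h2
    have h3 : (q.out)⁻¹ * u * q.out ∈ H := by
      have h4 := (mem_norm.1 (inv_mem h1) (g * u * g⁻¹)).1 hg
      have e : (g * q.out)⁻¹ * (g * u * g⁻¹) * (g * q.out)⁻¹⁻¹ = (q.out)⁻¹ * u * q.out := by group
      rwa [e] at h4
    have h5 : orderOf ((q.out)⁻¹ * u * q.out) = 2 := by
      have := hord (q.out)⁻¹ u
      rw [inv_inv] at this
      rw [this, hu]
    refine ⟨⟨q, ⟨(q.out)⁻¹ * u * q.out, h3, h5⟩⟩, ?_⟩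
    apply Subtype.ext
    show q.out * ((q.out)⁻¹ * u * q.out) * (q.out)⁻¹ = u
    group

/-- there are at least `ℓ` involutions in `H` -/
theorem le_card_invH (hc : Conf H) : H.relIndex (normalizer (H : Set G)) ≤
    Nat.card {u : G // u ∈ H ∧ orderOf u = 2} := by
  obtain ⟨h0, hh0, ho⟩ := exists_involution hc
  have h01 : h0 ≠ 1 := by rintro rfl; rw [orderOf_one] at ho; omega
  have hord : ∀ g u : G, orderOf (g * u * g⁻¹) = orderOf u := fun g u =>
    MulEquiv.orderOf_eq (MulAut.conj g) u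
  let f : normalizer (H : Set G) → {u : G // u ∈ H ∧ orderOf u = 2} := fun n =>
    ⟨n * h0 * (n : G)⁻¹, (mem_norm.1 n.2 h0).1 hh0, by rw [hord, ho]⟩
  have hf : ∀ n n' : normalizer (H : Set G), f n = f n' → (n : G)⁻¹ * n' ∈ H := by
    intro n n' h
    have h' : (n : G) * h0 * (n : G)⁻¹ = n' * h0 * (n' : G)⁻¹ := congrArg Subtype.val h
    apply hc.cent h0 hh0 h01
    calc (n : G)⁻¹ * n' * h0 = (n : G)⁻¹ * (n' * h0 * (n' : G)⁻¹) * n' := by group
      _ = h0 * ((n : G)⁻¹ * n') := by rw [← h']; group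
  have hle : Nat.card (normalizer (H : Set G)) ≤
      Nat.card {u : G // u ∈ H ∧ orderOf u = 2} * Nat.card H := by
    rw [← Nat.card_prod]
    have hne : Nonempty (normalizer (H : Set G)) := ⟨1⟩
    apply Nat.card_le_card_of_injective
      (fun n => ((f n, ⟨((Function.invFun f (f n) : normalizer (H : Set G)) : G)⁻¹ * n, hf _ _ (Function.invFun_eq ⟨n, rfl⟩)⟩) :
        {u : G // u ∈ H ∧ orderOf u = 2} × H))
    intro n n' h
    have h1 : f n = f n' := congrArg Prod.fst h
    have h2 := congrArg (fun p : {u : G // u ∈ H ∧ orderOf u = 2} × H => (p.2 : G)) h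
    simp only [h1] at h2
    exact Subtype.ext (mul_left_cancel h2)
  rw [← card_norm, mul_comm] at hle
  exact Nat.le_of_mul_le_mul_right hle Nat.card_pos

/-- the involutions in a coset -/
abbrev Fib (H : Subgroup G) (q : G ⧸ normalizer (H : Set G)) : Type _ :=
  {u : G // orderOf u = 2 ∧ (u : G ⧸ normalizer (H : Set G)) = q}

omit [Finite G] in
theorem sq_of_order {u : G} (h : orderOf u = 2) : u * u = 1 := by
  rw [← sq, ← h, pow_orderOf_eq_one]

omit [Finite G] in
theorem inv_of_order {u : G} (h : orderOf u = 2) : u⁻¹ = u :=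
  inv_eq_of_mul_eq_one_left (sq_of_order h)

omit [Finite G] in
/-- two involutions in the same coset -/
theorem fib_diff {u v : G} (hu : orderOf u = 2) (hv : orderOf v = 2)
    (h : (u : G ⧸ normalizer (H : Set G)) = v) :
    u⁻¹ * v ∈ D H u ∧ u * (u⁻¹ * v) * u⁻¹ = (u⁻¹ * v)⁻¹ := by
  have h1 : u⁻¹ * v ∈ normalizer (H : Set G) := QuotientGroup.eq.1 h
  have h2 : u * (u⁻¹ * v) * u⁻¹ = (u⁻¹ * v)⁻¹ := by
    rw [mul_inv_rev, inv_inv, inv_of_order hv, inv_of_order hu]
    rw [← mul_assoc, sq_of_order hu, one_mul]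
  refine ⟨mem_D.2 ⟨h1, ?_⟩, h2⟩
  have h3 : u⁻¹ * (u⁻¹ * v) * u = (u⁻¹ * v)⁻¹ := by
    rw [← h2, inv_of_order hu]
  rw [h3]
  exact inv_mem h1

theorem card_fib_le (hc : Conf H) {q : G ⧸ normalizer (H : Set G)}
    (hq : q ≠ ((1 : G) : G ⧸ normalizer (H : Set G))) :
    Nat.card (Fib H q) ≤ H.relIndex (normalizer (H : Set G)) := by
  by_cases hne : Nonempty (Fib H q)
  · obtain ⟨u0, hu0, hq0⟩ := hne
    have hx : u0 ∉ normalizer (H : Set G) := by
      intro h
      apply hq
      rw [← hq0]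
      exact (QuotientGroup.eq.2 (by simpa using h)).symm
    refine le_trans ?_ (card_D_le hc hx)
    apply Nat.card_le_card_of_injective
      (fun u : Fib H q => (⟨u0⁻¹ * u.1, (fib_diff hu0 u.2.1 (hq0.trans u.2.2.symm)).1⟩ : D H u0))
    intro u v h
    have := congrArg Subtype.val h
    exact Subtype.ext (mul_left_cancel this)
  · rw [not_nonempty_iff] at hne
    rw [Nat.card_of_isEmpty]
    exact Nat.zero_le _

theorem card_fib_one (hc : Conf H) :
    Nat.card (Fib H ((1 : G) : G ⧸ normalizer (H : Set G))) =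
      Nat.card {u : G // u ∈ H ∧ orderOf u = 2} := by
  apply Nat.card_congr
  refine Equiv.subtypeEquivRight ?_
  intro u
  constructor
  · rintro ⟨h1, h2⟩
    have h3 : u ∈ normalizer (H : Set G) := by
      have := QuotientGroup.eq.1 h2.symm
      simpa using this
    exact ⟨involution_mem hc h3 h1, h1⟩
  · rintro ⟨h1, h2⟩
    refine ⟨h2, (QuotientGroup.eq.2 ?_).symm⟩
    simpa using le_normalizer h1

/-- the number of involutions in `H` is `ℓ`, and each coset of `N` other than `N` contains exactly `ℓ` involutions -/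
theorem card_eq (hc : Conf H) (hN : normalizer (H : Set G) ≠ ⊤) :
    Nat.card {u : G // u ∈ H ∧ orderOf u = 2} = H.relIndex (normalizer (H : Set G)) ∧
    ∀ q : G ⧸ normalizer (H : Set G), q ≠ ((1 : G) : G ⧸ normalizer (H : Set G)) →
      Nat.card (Fib H q) = H.relIndex (normalizer (H : Set G)) := by
  classical
  have : Fintype (G ⧸ normalizer (H : Set G)) := Fintype.ofFinite _
  set l := H.relIndex (normalizer (H : Set G)) with hl
  set m0 := Nat.card {u : G // u ∈ H ∧ orderOf u = 2} with hm0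
  set o : G ⧸ normalizer (H : Set G) := ((1 : G) : G ⧸ normalizer (H : Set G)) with ho
  have hsum : Nat.card {u : G // orderOf u = 2} = ∑ q : G ⧸ normalizer (H : Set G), Nat.card (Fib H q) := by
    rw [← Nat.card_sigma]
    apply Nat.card_congr
    exact
      { toFun := fun u => ⟨(u.1 : G ⧸ normalizer (H : Set G)), ⟨u.1, u.2, rfl⟩⟩
        invFun := fun p => ⟨p.2.1, p.2.2.1⟩
        left_inv := fun u => rfl
        right_inv := by
          rintro ⟨q, ⟨u, hu, rfl⟩⟩
          rfl }
  rw [card_inv hc, Subgroup.index, Nat.card_eq_fintype_card, ← Finset.card_univ] at hsum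
  rw [← Finset.add_sum_erase Finset.univ _ (Finset.mem_univ o), card_fib_one hc, ← hm0] at hsum
  rw [← Finset.card_erase_add_one (Finset.mem_univ o)] at hsum
  have hle : ∑ q ∈ Finset.univ.erase o, Nat.card (Fib H q) ≤ ∑ q ∈ Finset.univ.erase o, l := by
    apply Finset.sum_le_sum
    intro q hq
    exact card_fib_le hc (Finset.ne_of_mem_erase hq)
  have hlm : l ≤ m0 := le_card_invH hc
  rw [Finset.sum_const, smul_eq_mul] at hle
  have hcpos : 0 < (Finset.univ.erase o).card := by
    rw [Finset.card_pos]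
    by_contra hemp
    rw [Finset.not_nonempty_iff_eq_empty] at hemp
    apply hN
    rw [eq_top_iff]
    intro g _
    have : ((g : G) : G ⧸ normalizer (H : Set G)) = o := by
      by_contra hgo
      have : ((g : G) : G ⧸ normalizer (H : Set G)) ∈ Finset.univ.erase o :=
        Finset.mem_erase.2 ⟨hgo, Finset.mem_univ _⟩
      rw [hemp] at this
      exact absurd this (Finset.notMem_empty _)
    have := QuotientGroup.eq.1 this.symm
    simpa using this
  have hml : m0 = l := by
    apply le_antisymm _ hlm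
    have h1 : (Finset.univ.erase o).card * m0 ≤ (Finset.univ.erase o).card * l := by
      nlinarith
    exact Nat.le_of_mul_le_mul_left h1 hcpos
  refine ⟨hml, ?_⟩
  have hs2 : ∑ q ∈ Finset.univ.erase o, Nat.card (Fib H q) = ∑ q ∈ Finset.univ.erase o, l := by
    rw [Finset.sum_const, smul_eq_mul, ← hml]
    nlinarith
  intro q hq
  exact (Finset.sum_eq_sum_iff_of_le (fun q hq => card_fib_le hc (Finset.ne_of_mem_erase hq))).1 hs2 q
    (Finset.mem_erase.2 ⟨hq, Finset.mem_univ _⟩)

/-- an involution outside `N` inverting `N ∩ N^x`, which has order `ℓ = |N : H|` -/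
structure Inv (H : Subgroup G) (x : G) : Prop where
  notin : x ∉ normalizer (H : Set G)
  ord : orderOf x = 2
  card : Nat.card (D H x) = H.relIndex (normalizer (H : Set G))
  inv : ∀ d ∈ D H x, x * d * x⁻¹ = d⁻¹

omit [Finite G] in
theorem mem_D_congr {x y : G} (h : (x : G ⧸ normalizer (H : Set G)) = y) {d : G} (hd : d ∈ D H x) :
    d ∈ D H y := by
  have hn := QuotientGroup.eq.1 h
  rw [mem_D] at hd ⊢
  refine ⟨hd.1, ?_⟩
  have e : y⁻¹ * d * y = (x⁻¹ * y)⁻¹ * (x⁻¹ * d * x) * (x⁻¹ * y) := by group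
  rw [e]
  exact mul_mem (mul_mem (inv_mem hn) hd.2) hn

omit [Finite G] in
theorem mk_ne_one {g : G} (hg : g ∉ normalizer (H : Set G)) :
    (g : G ⧸ normalizer (H : Set G)) ≠ ((1 : G) : G ⧸ normalizer (H : Set G)) := by
  intro h
  apply hg
  have := QuotientGroup.eq.1 h.symm
  simpa using this

theorem exists_inv (hc : Conf H) (hN : normalizer (H : Set G) ≠ ⊤) {g : G}
    (hg : g ∉ normalizer (H : Set G)) : ∃ x : G, Inv H x ∧ (x : G ⧸ normalizer (H : Set G)) = g := by
  have hcard := (card_eq hc hN).2 _ (mk_ne_one hg)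
  have hpos : 0 < H.relIndex (normalizer (H : Set G)) := by
    have := card_norm (H := H)
    have h1 : 0 < Nat.card (normalizer (H : Set G)) := Nat.card_pos
    rw [← this] at h1
    exact Nat.pos_of_mul_pos_left h1
  rw [← hcard] at hpos
  have hne : Nonempty (Fib H (g : G ⧸ normalizer (H : Set G))) := (Nat.card_pos_iff.1 hpos).1
  obtain ⟨x, hx, hq⟩ := hne
  have hxN : x ∉ normalizer (H : Set G) := by
    intro h
    apply mk_ne_one hg
    rw [← hq]
    exact (QuotientGroup.eq.2 (by simpa using h)).symm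
  let f : Fib H (g : G ⧸ normalizer (H : Set G)) → D H x :=
    fun u => ⟨x⁻¹ * u.1, (fib_diff hx u.2.1 (hq.trans u.2.2.symm)).1⟩
  have hf : Function.Injective f := by
    intro u v h
    have := congrArg Subtype.val h
    exact Subtype.ext (mul_left_cancel this)
  have h1 : Nat.card (Fib H (g : G ⧸ normalizer (H : Set G))) ≤ Nat.card (D H x) :=
    Nat.card_le_card_of_injective f hf
  have h2 := card_D_le hc hxN
  have h3 : Nat.card (D H x) ≤ Nat.card (Fib H (g : G ⧸ normalizer (H : Set G))) := by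
    rw [hcard]; exact h2
  have hbij := hf.bijective_of_nat_card_le h3
  refine ⟨x, ⟨hxN, hx, le_antisymm h2 (by rw [← hcard]; exact h1), ?_⟩, hq⟩
  intro d hd
  obtain ⟨u, hu⟩ := hbij.2 ⟨d, hd⟩
  have hu' : x⁻¹ * u.1 = d := congrArg Subtype.val hu
  rw [← hu']
  exact (fib_diff hx u.2.1 (hq.trans u.2.2.symm)).2

omit [Finite G] in
theorem order_two_of_sq {u : G} (h : u * u = 1) (h1 : u ≠ 1) : orderOf u = 2 :=
  orderOf_eq_prime (by rw [sq]; exact h) h1

/-- uniqueness: a non-identity element of `N` fixes at most one further point -/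
theorem unique (hc : Conf H) (hN : normalizer (H : Set G) ≠ ⊤) {x y l : G} (hx : Inv H x)
    (hy : Inv H y) (hl : l ∈ D H x) (hl' : l ∈ D H y) (hl1 : l ≠ 1) :
    (x : G ⧸ normalizer (H : Set G)) = y := by
  by_contra hne
  have hlH : l ∉ H := fun h => hl1 (D_inf hc hx.notin hl h)
  have hlN : l ∈ normalizer (H : Set G) := (mem_D.1 hl).1
  -- `L = C_N(l)`
  let L : Subgroup G := normalizer (H : Set G) ⊓ centralizer {l}
  have hLH : ∀ d ∈ L, d ∈ H → d = 1 := by
    intro d hd hdH
    by_contra hd1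
    apply hlH
    exact hc.cent d hdH hd1 l (mem_centralizer_singleton_iff.1 hd.2).symm
  have hLc : Nat.card L ≤ H.relIndex (normalizer (H : Set G)) := card_L_le L inf_le_left hLH
  have key : ∀ z : G, Inv H z → l ∈ D H z → D H z = L := by
    intro z hz hlz
    apply Subgroup.eq_of_le_of_card_ge
    · intro d hd
      refine ⟨(mem_D.1 hd).1, mem_centralizer_singleton_iff.2 ?_⟩
      have h1 := hz.inv _ (mul_mem hd hlz)
      have h2 := hz.inv _ hd
      have h3 := hz.inv _ hlz
      have h4 : z * (d * l) * z⁻¹ = (z * d * z⁻¹) * (z * l * z⁻¹) := by group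
      rw [h4, h2, h3] at h1
      have h5 := congrArg (fun g => g⁻¹) h1
      simp only [mul_inv_rev, inv_inv] at h5
      exact h5.symm
    · rw [hz.card]; exact hLc
  have hDx := key x hx hl
  have hDy := key y hy hl'
  have hxi : x⁻¹ = x := inv_of_order hx.ord
  have hyi : y⁻¹ = y := inv_of_order hy.ord
  set w := x * y with hw
  have hwN : w ∉ normalizer (H : Set G) := by
    intro h
    apply hne
    apply QuotientGroup.eq.2
    rw [hxi]; exact h
  obtain ⟨v, hv, hvw⟩ := exists_inv hc hN hwN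
  have hn : w⁻¹ * v ∈ normalizer (H : Set G) := QuotientGroup.eq.1 hvw.symm
  set n := w⁻¹ * v with hndef
  have hwd : ∀ d ∈ L, w⁻¹ * d * w = d := by
    intro d hd
    have h1 := hx.inv d (by rw [hDx]; exact hd)
    have h2 := hy.inv (d⁻¹) (by rw [hDy]; exact inv_mem hd)
    have e : w⁻¹ * d * w = y⁻¹ * (x⁻¹ * d * x) * y := by rw [hw]; group
    rw [e, hxi]
    rw [hxi] at h1
    rw [h1, hyi]
    rw [hyi, inv_inv] at h2
    exact h2
  have hnd : ∀ d ∈ L, n * d * n⁻¹ = d⁻¹ := by
    intro d hd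
    have hdN : d ∈ normalizer (H : Set G) := hd.1
    have hdv : d ∈ D H v := by
      rw [mem_D]
      refine ⟨hdN, ?_⟩
      have e : v⁻¹ * d * v = n⁻¹ * (w⁻¹ * d * w) * n := by rw [hndef]; group
      rw [e, hwd d hd]
      exact mul_mem (mul_mem (inv_mem hn) hdN) hn
    have h1 := hv.inv d hdv
    have e : n * d * n⁻¹ = w⁻¹ * (v * d * v⁻¹) * w := by rw [hndef]; group
    rw [e, h1]
    exact hwd _ (inv_mem hd)
  have hlL : l ∈ L := by rw [← hDx]; exact hl
  -- `n ^ 2 ∈ L`
  have hn2 : n * n ∈ L := by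
    refine ⟨mul_mem hn hn, mem_centralizer_singleton_iff.2 ?_⟩
    have h1 := hnd l hlL
    have h2 := hnd l⁻¹ (inv_mem hlL)
    rw [← h1] at h2
    have e : n * (n * l * n⁻¹) * n⁻¹ = n * n * l * (n * n)⁻¹ := by group
    rw [e] at h2
    have h3 : n * n * l * (n * n)⁻¹ = l := by
      rw [h2, h1, inv_inv]
    exact mul_inv_eq_iff_eq_mul.1 h3
  have hn4 : (n * n) * (n * n) = 1 := by
    have h1 := hnd _ hn2
    have e : n * (n * n) * n⁻¹ = n * n := by group
    rw [e] at h1
    nth_rewrite 2 [h1]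
    group
  have hn2' : n * n = 1 := by
    by_contra h
    apply h
    apply hLH _ hn2
    exact involution_mem hc (mul_mem hn hn) (order_two_of_sq hn4 h)
  have hl2 : l * l ≠ 1 := fun h => hlH (involution_mem hc hlN (order_two_of_sq h hl1))
  have hn1 : n ≠ 1 := by
    intro h
    have h1 := hnd l hlL
    rw [h] at h1
    apply hl2
    have h2 : l = l⁻¹ := by simpa using h1
    nth_rewrite 2 [h2]
    group
  have hnH : n ∈ H := involution_mem hc hn (order_two_of_sq hn2' hn1)
  have h1 := hnd l hlL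
  have h2 : l * n * l⁻¹ ∈ H := (mem_norm.1 hlN n).1 hnH
  have h3 : n⁻¹ * (l * n * l⁻¹) = (l * l)⁻¹ := by
    have h4 : n * l = l⁻¹ * n := mul_inv_eq_iff_eq_mul.1 h1
    have h5 : l * n = n * l⁻¹ := by
      have h6 : l * (n * l) = n := by rw [h4]; group
      calc l * n = l * (n * l) * l⁻¹ := by group
        _ = n * l⁻¹ := by rw [h6]
    rw [h5]; group
  have h4 : l * l ∈ H := by
    have := mul_mem (inv_mem hnH) h2
    rw [h3] at this
    simpa using inv_mem this
  exact hl2 (hLH _ (mul_mem hlL hlL) h4)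

/-- elements of `N ∖ H` are `H`-conjugate into `D` -/
theorem exists_conj_D (hc : Conf H) {x : G} (hx : Inv H x) {l' : G}
    (hl' : l' ∈ normalizer (H : Set G)) (hH : l' ∉ H) : ∃ k ∈ H, k⁻¹ * l' * k ∈ D H x := by
  have hinj : Function.Injective (fun p : H × D H x =>
      (⟨(p.1 : G) * p.2, mul_mem (le_normalizer p.1.2) (mem_D.1 p.2.2).1⟩ :
      normalizer (H : Set G))) := by
    rintro ⟨h, d⟩ ⟨h', d'⟩ hh
    have hh' : (h : G) * d = h' * d' := congrArg Subtype.val hh
    have e : (h' : G)⁻¹ * h = d' * (d : G)⁻¹ := by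
      rw [eq_mul_inv_iff_mul_eq, mul_assoc, hh']; group
    have e1 : (d' : G) * (d : G)⁻¹ = 1 := by
      apply D_inf hc hx.notin (mul_mem d'.2 (inv_mem d.2))
      rw [← e]; exact mul_mem (inv_mem h'.2) h.2
    rw [e1] at e
    ext
    · exact (inv_mul_eq_one.1 e).symm
    · exact (mul_inv_eq_one.1 e1).symm
  have hbij := hinj.bijective_of_nat_card_le (by rw [Nat.card_prod, hx.card, card_norm])
  obtain ⟨⟨h, l⟩, hhl⟩ := hbij.2 ⟨l', hl'⟩
  have hhl' : (h : G) * l = l' := congrArg Subtype.val hhl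
  have hlH : (l : G) ∉ H := by
    intro h1
    apply hH
    rw [← hhl']
    exact mul_mem h.2 h1
  have hlN : (l : G) ∈ normalizer (H : Set G) := (mem_D.1 l.2).1
  let φ : H → H := fun k => ⟨(k : G) * ((l : G) * (k : G)⁻¹ * (l : G)⁻¹),
    mul_mem k.2 ((mem_norm.1 hlN _).1 (inv_mem k.2))⟩
  have hφ : Function.Injective φ := by
    intro k1 k2 hk
    have hk' : (k1 : G) * ((l : G) * (k1 : G)⁻¹ * (l : G)⁻¹) =
        (k2 : G) * ((l : G) * (k2 : G)⁻¹ * (l : G)⁻¹) := congrArg Subtype.val hk
    have h1 : (l : G) * ((k2 : G)⁻¹ * k1) = (k2 : G)⁻¹ * k1 * l := by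
      calc (l : G) * ((k2 : G)⁻¹ * k1)
          = (k2 : G)⁻¹ * ((k2 : G) * ((l : G) * (k2 : G)⁻¹ * (l : G)⁻¹)) * l * k1 := by group
        _ = (k2 : G)⁻¹ * k1 * l := by rw [← hk']; group
    by_contra hne
    apply hlH
    refine hc.cent _ (mul_mem (inv_mem k2.2) k1.2) ?_ _ h1
    intro h2
    apply hne
    apply Subtype.ext
    exact (inv_mul_eq_one.1 h2).symm
  obtain ⟨k, hk⟩ := (Finite.injective_iff_surjective.1 hφ) h
  have hk' : (k : G) * ((l : G) * (k : G)⁻¹ * (l : G)⁻¹) = h := congrArg Subtype.val hk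
  refine ⟨k, k.2, ?_⟩
  have : (k : G)⁻¹ * l' * k = l := by
    rw [← hhl', ← hk']; group
  rw [this]
  exact l.2

/-- `H` is transitive on the points different from `N` -/
theorem trans (hc : Conf H) (hN : normalizer (H : Set G) ≠ ⊤)
    (hl : 2 ≤ H.relIndex (normalizer (H : Set G))) {x y : G} (hx : Inv H x)
    (hy : y ∉ normalizer (H : Set G)) :
    ∃ k ∈ H, ((k * x : G) : G ⧸ normalizer (H : Set G)) = (y : G ⧸ normalizer (H : Set G)) := by
  obtain ⟨y0, hy0, hyy⟩ := exists_inv hc hN hy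
  have : Nontrivial (D H y0) := by
    rw [← Finite.one_lt_card_iff_nontrivial, hy0.card]; omega
  obtain ⟨l', hl'⟩ := exists_ne (1 : D H y0)
  have hl'1 : (l' : G) ≠ 1 := fun h => hl' (Subtype.ext h)
  have hl'H : (l' : G) ∉ H := fun h => hl'1 (D_inf hc hy0.notin l'.2 h)
  obtain ⟨k, hk, hkD⟩ := exists_conj_D hc hx (mem_D.1 l'.2).1 hl'H
  have hkN : k ∈ normalizer (H : Set G) := le_normalizer hk
  have hky : k⁻¹ * y0 ∉ normalizer (H : Set G) := by
    intro h
    apply hy0.notin
    have := mul_mem hkN h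
    simpa using this
  obtain ⟨y1, hy1, hyy1⟩ := exists_inv hc hN hky
  have hl1 : k⁻¹ * (l' : G) * k ∈ D H y1 := by
    apply mem_D_congr hyy1.symm
    rw [mem_D]
    refine ⟨(mem_D.1 hkD).1, ?_⟩
    have e : (k⁻¹ * y0)⁻¹ * (k⁻¹ * (l' : G) * k) * (k⁻¹ * y0) = y0⁻¹ * l' * y0 := by group
    rw [e]
    exact (mem_D.1 l'.2).2
  have hne : k⁻¹ * (l' : G) * k ≠ 1 := by
    intro h
    apply hl'1
    have : (l' : G) = k * (k⁻¹ * (l' : G) * k) * k⁻¹ := by group
    rw [this, h]; group
  have h1 := unique hc hN hx hy1 hkD hl1 hne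
  refine ⟨k, hk, ?_⟩
  rw [← hyy]
  have h2 : (x : G ⧸ normalizer (H : Set G)) = ((k⁻¹ * y0 : G) : G ⧸ normalizer (H : Set G)) := h1.trans hyy1
  have h3 := QuotientGroup.eq.1 h2
  apply QuotientGroup.eq.2
  have e : (k * x)⁻¹ * y0 = x⁻¹ * (k⁻¹ * y0) := by group
  rw [e]; exact h3

/-- a non-identity element fixes at most two points -/
theorem three_points (hc : Conf H) (hN : normalizer (H : Set G) ≠ ⊤) {g : G} (a b c : G ⧸ normalizer (H : Set G))
    (hab : a ≠ b) (hbc : b ≠ c) (hac : a ≠ c) (ha : g • a = a) (hb : g • b = b) (hcc : g • c = c) :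
    g = 1 := by
  induction a using QuotientGroup.induction_on with | _ a => ?_
  induction b using QuotientGroup.induction_on with | _ b => ?_
  induction c using QuotientGroup.induction_on with | _ c => ?_
  have fix : ∀ z : G, g • (z : G ⧸ normalizer (H : Set G)) = z →
      z⁻¹ * g * z ∈ normalizer (H : Set G) := by
    intro z hz
    have h1 : ((g * z : G) : G ⧸ normalizer (H : Set G)) = z := hz
    have := QuotientGroup.eq.1 h1.symm
    rwa [← mul_assoc] at this
  have fa := fix a ha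
  have fb := fix b hb
  have fc := fix c hcc
  -- move `a` to the base point
  have hb' : a⁻¹ * b ∉ normalizer (H : Set G) := fun h => hab (QuotientGroup.eq.2 h)
  have hc' : a⁻¹ * c ∉ normalizer (H : Set G) := fun h => hac (QuotientGroup.eq.2 h)
  obtain ⟨x, hx, hxb⟩ := exists_inv hc hN hb'
  obtain ⟨y, hy, hyc⟩ := exists_inv hc hN hc'
  by_contra hg
  have h1 : a⁻¹ * g * a ∈ D H x := by
    apply mem_D_congr hxb.symm
    rw [mem_D]
    refine ⟨fa, ?_⟩
    have e : (a⁻¹ * b)⁻¹ * (a⁻¹ * g * a) * (a⁻¹ * b) = b⁻¹ * g * b := by group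
    rw [e]; exact fb
  have h2 : a⁻¹ * g * a ∈ D H y := by
    apply mem_D_congr hyc.symm
    rw [mem_D]
    refine ⟨fa, ?_⟩
    have e : (a⁻¹ * c)⁻¹ * (a⁻¹ * g * a) * (a⁻¹ * c) = c⁻¹ * g * c := by group
    rw [e]; exact fc
  have h3 : a⁻¹ * g * a ≠ 1 := by
    intro h
    apply hg
    have e : g = a * (a⁻¹ * g * a) * a⁻¹ := by group
    rw [e, h]; group
  have h4 := unique hc hN hx hy h1 h2 h3
  apply hbc
  have h5 : ((a⁻¹ * b : G) : G ⧸ normalizer (H : Set G)) = ((a⁻¹ * c : G) : G ⧸ normalizer (H : Set G)) :=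
    hxb.symm.trans (h4.trans hyc)
  have h6 := QuotientGroup.eq.1 h5
  apply QuotientGroup.eq.2
  have e : (a⁻¹ * b)⁻¹ * (a⁻¹ * c) = b⁻¹ * c := by group
  rwa [e] at h6

/-- the number of points -/
theorem card_points (hc : Conf H) (hN : normalizer (H : Set G) ≠ ⊤)
    (hl : 2 ≤ H.relIndex (normalizer (H : Set G))) :
    Nat.card (G ⧸ normalizer (H : Set G)) = Nat.card H + 1 := by
  obtain ⟨g, hg⟩ : ∃ g, g ∉ normalizer (H : Set G) := by
    by_contra h
    push Not at h
    exact hN (eq_top_iff.2 fun g _ => h g)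
  obtain ⟨x, hx, -⟩ := exists_inv hc hN hg
  have h1 : Nat.card H = Nat.card {q : G ⧸ normalizer (H : Set G) //
      q ≠ ((1 : G) : G ⧸ normalizer (H : Set G))} := by
    apply Nat.card_eq_of_bijective (fun h : H => ⟨((h * x : G) : G ⧸ normalizer (H : Set G)), by
      apply mk_ne_one
      intro h1
      apply hx.notin
      have := mul_mem (inv_mem (le_normalizer h.2)) h1
      simpa using this⟩)
    constructor
    · intro h h' hh
      have hh' : ((h * x : G) : G ⧸ normalizer (H : Set G)) = ((h' * x : G) : G ⧸ normalizer (H : Set G)) :=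
        congrArg Subtype.val hh
      have h2 := QuotientGroup.eq.1 hh'
      have h3 : x⁻¹ * ((h : G)⁻¹ * h') * x ∈ normalizer (H : Set G) := by
        have e : (h * x : G)⁻¹ * (h' * x) = x⁻¹ * ((h : G)⁻¹ * h') * x := by group
        rwa [e] at h2
      have h4 := inter_trivial hc hx.notin (mul_mem (inv_mem h.2) h'.2) h3
      exact Subtype.ext (inv_mul_eq_one.1 h4)
    · rintro ⟨q, hq⟩
      induction q using QuotientGroup.induction_on with | _ y => ?_
      have hy : y ∉ normalizer (H : Set G) := by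
        intro h
        apply hq
        exact (QuotientGroup.eq.2 (by simpa using h)).symm
      obtain ⟨k, hk, hky⟩ := trans hc hN hl hx hy
      exact ⟨⟨k, hk⟩, Subtype.ext hky⟩
  classical
  have : Fintype (G ⧸ normalizer (H : Set G)) := Fintype.ofFinite _
  rw [h1, Nat.card_eq_fintype_card, Nat.card_eq_fintype_card, Fintype.card_subtype_compl,
    Fintype.card_subtype_eq]
  have : 0 < Fintype.card (G ⧸ normalizer (H : Set G)) :=
    Fintype.card_pos_iff.2 ⟨((1 : G) : G ⧸ normalizer (H : Set G))⟩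
  omega

/-- double transitivity -/
theorem two_trans (hc : Conf H) (hN : normalizer (H : Set G) ≠ ⊤)
    (hl : 2 ≤ H.relIndex (normalizer (H : Set G))) :
    MulAction.IsMultiplyPretransitive G (G ⧸ normalizer (H : Set G)) 2 := by
  obtain ⟨g, hg⟩ : ∃ g, g ∉ normalizer (H : Set G) := by
    by_contra h
    push Not at h
    exact hN (eq_top_iff.2 fun g _ => h g)
  obtain ⟨x, hx, -⟩ := exists_inv hc hN hg
  have key : ∀ a b : G ⧸ normalizer (H : Set G), a ≠ b → ∃ g : G,
      g • a = ((1 : G) : G ⧸ normalizer (H : Set G)) ∧ g • b = (x : G ⧸ normalizer (H : Set G)) := by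
    intro a b hab
    induction a using QuotientGroup.induction_on with | _ a => ?_
    induction b using QuotientGroup.induction_on with | _ b => ?_
    have hb' : a⁻¹ * b ∉ normalizer (H : Set G) := fun h => hab (QuotientGroup.eq.2 h)
    obtain ⟨k, hk, hkb⟩ := trans hc hN hl hx hb'
    refine ⟨k⁻¹ * a⁻¹, ?_, ?_⟩
    · show ((k⁻¹ * a⁻¹ * a : G) : G ⧸ normalizer (H : Set G)) = _
      apply (QuotientGroup.eq.2 _)
      simpa using le_normalizer hk
    · show ((k⁻¹ * a⁻¹ * b : G) : G ⧸ normalizer (H : Set G)) = _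
      have h2 := QuotientGroup.eq.1 hkb
      apply (QuotientGroup.eq.2 _)
      have h3 := inv_mem h2
      have e : (k⁻¹ * a⁻¹ * b)⁻¹ * x = ((k * x)⁻¹ * (a⁻¹ * b))⁻¹ := by group
      rw [e]; exact h3
  rw [MulAction.is_two_pretransitive_iff]
  intro a b c d hab hcd
  obtain ⟨g1, h1, h1'⟩ := key a b hab
  obtain ⟨g2, h2, h2'⟩ := key c d hcd
  refine ⟨g2⁻¹ * g1, ?_, ?_⟩
  · rw [mul_smul, h1, ← h2, inv_smul_smul]
  · rw [mul_smul, h1', ← h2', inv_smul_smul]

/-- if `G` is simple then `ℓ ≥ 2` (Frobenius' theorem) -/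
theorem two_le (hc : Conf H) [IsSimpleGroup G] (hH : H ≠ ⊤) :
    2 ≤ H.relIndex (normalizer (H : Set G)) := by
  have hH1 : H ≠ ⊥ := by
    rintro rfl
    have := hc.even
    rw [Subgroup.card_bot] at this
    omega
  by_contra hlt
  have hpos : 0 < H.relIndex (normalizer (H : Set G)) := by
    have := card_norm (H := H)
    have h1 : 0 < Nat.card (normalizer (H : Set G)) := Nat.card_pos
    rw [← this] at h1
    exact Nat.pos_of_mul_pos_left h1
  have h1 : H.relIndex (normalizer (H : Set G)) = 1 := by omega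
  have h2 : normalizer (H : Set G) ≤ H := Subgroup.relIndex_eq_one.1 h1
  have hfrob : Cfsg.IsFrobeniusComplement H := by
    refine ⟨hH1, hH, ?_⟩
    intro g hg
    rw [eq_bot_iff]
    rintro y ⟨hy1, hy2⟩
    rw [mem_bot]
    by_contra hy
    apply hg
    apply h2
    have h3 : g⁻¹ * y * g ∈ H := by
      have h4 := Subgroup.mem_pointwise_smul_iff_inv_smul_mem.1 hy2
      rw [← map_inv, MulAut.smul_def, MulAut.conj_apply, inv_inv] at h4
      exact h4
    have h5 := hc.ti y hy1 hy g⁻¹ (by simpa using h3)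
    simpa using inv_mem h5
  obtain ⟨K, -, hK, hcomp⟩ := Cfsg.Agent.S0035.result H hfrob
  rcases hK.eq_bot_or_eq_top with h | h
  · subst h
    apply hH
    exact Subgroup.isComplement'_bot_left.1 hcomp
  · subst h
    apply hH1
    exact Subgroup.isComplement'_top_left.1 hcomp

omit [Finite G] in
theorem norm_ne_top (hc : Conf H) [IsSimpleGroup G] (hH : H ≠ ⊤) :
    normalizer (H : Set G) ≠ ⊤ := by
  intro h
  have hn : H.Normal := Subgroup.normalizer_eq_top_iff.1 h
  rcases hn.eq_bot_or_eq_top with h | h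
  · subst h
    have := hc.even
    rw [Subgroup.card_bot] at this
    omega
  · exact hH h

/-- the main result: `G` is a Zassenhaus group on the cosets of `N_G(H)`, of degree `|H| + 1` -/
theorem isZassenhausGroup (hc : Conf H) [IsSimpleGroup G] (hH : H ≠ ⊤) :
    Cfsg.IsZassenhausGroup G (G ⧸ normalizer (H : Set G)) ∧
    Nat.card (G ⧸ normalizer (H : Set G)) = Nat.card H + 1 := by
  have hN := norm_ne_top hc hH
  have hl := two_le hc hH
  refine ⟨⟨?_, two_trans hc hN hl, ?_, ?_, ?_⟩, card_points hc hN hl⟩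
  · -- faithful
    rw [faithfulSMul_iff]
    intro g hg
    have hker : (MulAction.toPermHom G (G ⧸ normalizer (H : Set G))).ker.Normal := inferInstance
    rcases hker.eq_bot_or_eq_top with h | h
    · have : g ∈ (MulAction.toPermHom G (G ⧸ normalizer (H : Set G))).ker := by
        rw [MonoidHom.mem_ker]
        ext q
        exact hg q
      rw [h, mem_bot] at this
      exact this
    · exfalso
      apply hN
      rw [eq_top_iff]
      intro z _
      have h1 : z ∈ (MulAction.toPermHom G (G ⧸ normalizer (H : Set G))).ker := by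
        rw [h]; exact mem_top z
      rw [MonoidHom.mem_ker] at h1
      have h2 := congrFun (congrArg DFunLike.coe h1) ((1 : G) : G ⧸ normalizer (H : Set G))
      have h3 : ((z * 1 : G) : G ⧸ normalizer (H : Set G)) = ((1 : G) : G ⧸ normalizer (H : Set G)) := h2
      have := QuotientGroup.eq.1 h3.symm
      simpa using this
  · intro g a b c hab hbc hac ha hb hcc
    exact three_points hc hN a b c hab hbc hac ha hb hcc
  · obtain ⟨g, hg⟩ : ∃ g, g ∉ normalizer (H : Set G) := by
      by_contra h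
      push Not at h
      exact hN (eq_top_iff.2 fun g _ => h g)
    obtain ⟨x, hx, -⟩ := exists_inv hc hN hg
    have : Nontrivial (D H x) := by
      rw [← Finite.one_lt_card_iff_nontrivial, hx.card]; omega
    obtain ⟨d, hd⟩ := exists_ne (1 : D H x)
    refine ⟨d, fun h => hd (Subtype.ext h), ((1 : G) : G ⧸ normalizer (H : Set G)),
      (x : G ⧸ normalizer (H : Set G)), (mk_ne_one hx.notin).symm, ?_, ?_⟩
    · show (((d : G) * 1 : G) : G ⧸ normalizer (H : Set G)) = _
      apply (QuotientGroup.eq.2 _)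
      simpa using (mem_D.1 d.2).1
    · show (((d : G) * x : G) : G ⧸ normalizer (H : Set G)) = _
      apply (QuotientGroup.eq.2 _)
      have := inv_mem (mem_D.1 d.2).2
      have e : ((d : G) * x)⁻¹ * x = (x⁻¹ * d * x)⁻¹ := by group
      rw [e]; exact this
  · intro M hM hMt
    have hcard := card_points hc hN hl
    rcases hM.eq_bot_or_eq_top with h | h
    · exfalso
      subst h
      apply hN
      rw [eq_top_iff]
      intro z _
      obtain ⟨m, hm⟩ := hMt.exists_smul_eq
        ((1 : G) : G ⧸ normalizer (H : Set G)) (z : G ⧸ normalizer (H : Set G))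
      have hm1 : (m : G) = 1 := mem_bot.1 m.2
      have h3 : (((m : G) * 1 : G) : G ⧸ normalizer (H : Set G)) = (z : G ⧸ normalizer (H : Set G)) := hm
      rw [hm1] at h3
      have := QuotientGroup.eq.1 h3
      simpa using this
    · subst h
      obtain ⟨u, hu, hou⟩ := exists_involution hc
      refine ⟨((1 : G) : G ⧸ normalizer (H : Set G)), ?_⟩
      intro hbot
      have h1 : (⟨u, mem_top u⟩ : (⊤ : Subgroup G)) ∈ (⊥ : Subgroup (⊤ : Subgroup G)) := by
        rw [← hbot, MulAction.mem_stabilizer_iff]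
        show ((u * 1 : G) : G ⧸ normalizer (H : Set G)) = _
        apply (QuotientGroup.eq.2 _)
        simpa using le_normalizer hu
      rw [mem_bot] at h1
      have h2 : u = 1 := congrArg Subtype.val h1
      rw [h2, orderOf_one] at hou
      omega

end Cfsg.Agent.LieExceptional.CCEven
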