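import Mathlib
import Cfsg.Prelude.Def_Involutions
import Cfsg.Prelude.Def_LieExceptional
import Cfsg.Agent.TwoFusion.StronglyEmbeddedBasic
import Cfsg.Agent.Characters.CNBasic
import Cfsg.Agent.S1224
import Cfsg.Agent.S1225
import Cfsg.Agent.S0563
import Cfsg.Agent.S0071
import Cfsg.Agent.LieExceptional.CITSylow
import Cfsg.Agent.LieExceptional.CCEven
import Cfsg.Prelude.Def_Exceptional
import Cfsg.Agent.LieExceptional.CITAmal
import Cfsg.Agent.LieExceptional.CITTwo
import Cfsg.Agent.LieExceptional.CITPsl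
import Cfsg.Agent.S0340
set_option linter.all false

-- part: LieExceptional/CITStrong
section
set_option autoImplicit false

/-!
A non-abelian finite simple CIT-group (all centralisers of involutions are 2-groups) with a strongly embedded subgroup
has a TI Sylow 2-subgroup, hence is a Zassenhaus group of odd degree.
-/

namespace Cfsg.Agent.LieExceptional.CITStrong

open Cfsg Subgroup
open Cfsg.Agent.TwoFusion.StronglyEmbeddedBasic
open Cfsg.Agent.LieExceptional.CITSylow

variable {G : Type*} [Group G] [Finite G]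

/-- In a CIT-group an element of odd order commuting with an involution is trivial. -/
theorem eq_one_of_odd (hCIT : ∀ t : G, orderOf t = 2 → IsPGroup 2 (centralizer ({t} : Set G)))
    {s d : G} (hs : orderOf s = 2) (hd : Odd (orderOf d)) (h : s * d = d * s) : d = 1 := by
  have hdC : d ∈ centralizer ({s} : Set G) := by
    rw [mem_centralizer_singleton_iff]; exact h.symm
  obtain ⟨k, hk⟩ := hCIT s hs ⟨d, hdC⟩
  have hk' : d ^ 2 ^ k = 1 := congrArg Subtype.val hk
  exact eq_one_of_coprime_pow (Nat.Coprime.pow_left k ((Nat.coprime_two_left).2 hd)) hk'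
    (pow_orderOf_eq_one d)

/-- A group with a Sylow 2-subgroup containing a unique involution which is CIT has a normal 2-complement;
so it is not non-abelian simple. -/
theorem false_of_unique [IsSimpleGroup G] (hna : ∃ a b : G, a * b ≠ b * a)
    (hCIT : ∀ t : G, orderOf t = 2 → IsPGroup 2 (centralizer ({t} : Set G)))
    (P : Sylow 2 G) {z : G} (hzP : z ∈ P) (hz : orderOf z = 2)
    (huniq : ∀ j ∈ P, orderOf j = 2 → j = z) : False := by
  have : Fact (Nat.Prime 2) := ⟨Nat.prime_two⟩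
  obtain ⟨N, hN, hc⟩ := (Cfsg.Agent.S0071.result P).2 (by
    intro Q hQ g hg hcop
    by_cases hQ1 : Q = ⊥
    · rw [hQ1]
      rw [mem_centralizer_iff]
      intro x hx
      rw [SetLike.mem_coe, mem_bot] at hx
      rw [hx, one_mul, mul_one]
    · obtain ⟨⟨x, hx⟩, hx1'⟩ := ne_bot_iff_exists_ne_one.1 hQ1
      have hx1 : x ≠ 1 := fun h => hx1' (Subtype.ext h)
      obtain ⟨k, hk⟩ := P.isPGroup' ⟨x, hQ hx⟩
      have hk' : x ^ 2 ^ k = 1 := congrArg Subtype.val hk
      obtain ⟨m, hm⟩ := exists_pow_orderOf_two hx1 hk'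
      have hzQ : z ∈ Q := by
        rw [← huniq _ (hQ (pow_mem hx m)) hm]
        exact pow_mem hx m
      have h1 : g * z * g⁻¹ ∈ Q := (mem_normalizer_iff.1 hg z).1 hzQ
      have h2 : g * z * g⁻¹ = z := by
        apply huniq _ (hQ h1)
        rw [orderOf_conj]; exact hz
      have h3 : z * g = g * z := by
        rw [mul_inv_eq_iff_eq_mul] at h2
        exact h2.symm
      have hodd : Odd (orderOf g) := (Nat.coprime_two_right).1 hcop
      rw [eq_one_of_odd hCIT hz hodd h3]
      exact one_mem _)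
  rcases hN.eq_bot_or_eq_top with h | h
  · rw [h] at hc
    have hP : (P : Subgroup G) = ⊤ := isComplement'_bot_left.1 hc
    have hG : IsPGroup 2 G := by
      intro g
      obtain ⟨k, hk⟩ := P.isPGroup' ⟨g, by rw [hP]; exact mem_top g⟩
      exact ⟨k, congrArg Subtype.val hk⟩
    have := hG.center_nontrivial
    have hcn : (center G).Normal := inferInstance
    rcases hcn.eq_bot_or_eq_top with h' | h'
    · rw [h'] at this
      exact not_nontrivial _ this
    · obtain ⟨a, b, hab⟩ := hna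
      apply hab
      have : a ∈ center G := by rw [h']; exact mem_top a
      exact (mem_center_iff.1 this b).symm
  · rw [h] at hc
    have hP : (P : Subgroup G) = ⊥ := isComplement'_top_left.1 hc
    have : z ∈ (P : Subgroup G) := hzP
    rw [hP, mem_bot] at this
    rw [this, orderOf_one] at hz
    norm_num at hz

/-- Structure of a strongly embedded subgroup of a CIT-group. -/
theorem exists_conf [IsSimpleGroup G] (hna : ∃ a b : G, a * b ≠ b * a)
    (hCIT : ∀ t : G, orderOf t = 2 → IsPGroup 2 (centralizer ({t} : Set G)))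
    {H : Subgroup G} (hH : IsStronglyEmbedded H) :
    ∃ S : Subgroup G, Cfsg.Agent.LieExceptional.CCEven.Conf S ∧ S ≤ H ∧ S ≠ ⊤ := by
  have : Fact (Nat.Prime 2) := ⟨Nat.prime_two⟩
  obtain ⟨u, huH, hu⟩ := exists_involution_notMem hH
  obtain ⟨s, hsH, hs⟩ := exists_involution hH
  set D : Subgroup G := H ⊓ H.map (MulAut.conj u).toMonoidHom with hD
  have hDodd : Odd (Nat.card D) := hH.2.2 u huH
  have hDH : D ≤ H := inf_le_left
  have hodd : ∀ d ∈ D, Odd (orderOf d) := fun d hd =>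
    Odd.of_dvd_nat hDodd (D.orderOf_dvd_natCard hd)
  have htrans : ∀ t ∈ H, orderOf t = 2 → ∃ d ∈ D, d * s * d⁻¹ = t := fun t htH ht =>
    (Cfsg.Agent.S1225.result H hH u hu huH s t hs hsH ht htH).1
  -- `u` inverts `D`
  have hinvD : ∀ d ∈ D, u * d * u⁻¹ = d⁻¹ := by
    let A := {i : G // orderOf i = 2 ∧ i • ((1 : G) : G ⧸ H) = ((u : G) : G ⧸ H)}
    let T := {t : G // orderOf t = 2 ∧ t ∈ H}
    let E := {d : D // u * (d : G) * u⁻¹ = (d : G)⁻¹}
    have hne : ((1 : G) : G ⧸ H) ≠ ((u : G) : G ⧸ H) := by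
      intro h
      rw [QuotientGroup.eq, inv_one, one_mul] at h
      exact huH h
    have h1 : Nat.card A = Nat.card T := Cfsg.Agent.S1224.result H hH _ _ hne
    have h2 : Nat.card T = Nat.card D := by
      let f : D → T := fun d => ⟨(d : G) * s * (d : G)⁻¹, by rw [orderOf_conj]; exact hs,
        mul_mem (mul_mem (hDH d.2) hsH) (inv_mem (hDH d.2))⟩
      have hf : Function.Bijective f := by
        constructor
        · intro d d' hdd
          have h3 : (d : G) * s * (d : G)⁻¹ = (d' : G) * s * (d' : G)⁻¹ := congrArg Subtype.val hdd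
          have h4 : s * ((d' : G)⁻¹ * d) = ((d' : G)⁻¹ * d) * s := by
            calc s * ((d' : G)⁻¹ * d) = (d' : G)⁻¹ * ((d' : G) * s * (d' : G)⁻¹) * d := by group
              _ = (d' : G)⁻¹ * ((d : G) * s * (d : G)⁻¹) * d := by rw [h3]
              _ = ((d' : G)⁻¹ * d) * s := by group
          have h5 := eq_one_of_odd hCIT hs (hodd _ (mul_mem (inv_mem d'.2) d.2)) h4
          exact Subtype.ext (inv_mul_eq_one.1 h5).symm
        · rintro ⟨t, ht, htH⟩
          obtain ⟨d, hd, hdt⟩ := htrans t htH ht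
          exact ⟨⟨d, hd⟩, Subtype.ext hdt⟩
      exact (Nat.card_congr (Equiv.ofBijective f hf)).symm
    have hAE : ∀ i : A, u⁻¹ * (i : G) ∈ D ∧ u * (u⁻¹ * (i : G)) * u⁻¹ = (u⁻¹ * (i : G))⁻¹ := by
      rintro ⟨i, hi, hiu⟩
      have h3 : u⁻¹ * i ∈ H := by
        have h4 : ((i : G) : G ⧸ H) = ((u : G) : G ⧸ H) := by
          rw [← hiu]
          change _ = ((i * 1 : G) : G ⧸ H)
          rw [mul_one]
        exact QuotientGroup.eq.1 h4.symm
      have hi' : i⁻¹ = i := inv_eq_self_of_orderOf hi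
      have hu' : u⁻¹ = u := inv_eq_self_of_orderOf hu
      have h5 : u * (u⁻¹ * i) * u⁻¹ = (u⁻¹ * i)⁻¹ := by
        calc u * (u⁻¹ * i) * u⁻¹ = i * u⁻¹ := by group
          _ = i⁻¹ * u := by rw [hi', hu']
          _ = (u⁻¹ * i)⁻¹ := by group
      refine ⟨⟨h3, ?_⟩, h5⟩
      refine ⟨(u⁻¹ * i)⁻¹, inv_mem h3, ?_⟩
      change u * (u⁻¹ * i)⁻¹ * u⁻¹ = u⁻¹ * i
      rw [← h5]
      calc u * (u * (u⁻¹ * i) * u⁻¹) * u⁻¹ = (u * u) * (u⁻¹ * i) * (u * u)⁻¹ := by group
        _ = u⁻¹ * i := by rw [mul_self_of_orderOf hu]; group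
    have h6 : Nat.card A ≤ Nat.card E := by
      refine Nat.card_le_card_of_injective
        (fun i : A => (⟨⟨u⁻¹ * (i : G), (hAE i).1⟩, (hAE i).2⟩ : E)) ?_
      intro i j hij
      have h7 : u⁻¹ * (i : G) = u⁻¹ * (j : G) := congrArg (fun e : E => ((e : D) : G)) hij
      exact Subtype.ext (mul_left_cancel h7)
    have h8 : Nat.card E = Nat.card D := by
      apply le_antisymm (Nat.card_le_card_of_injective (fun e : E => (e : D)) Subtype.val_injective)
      rw [← h2, ← h1]; exact h6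
    intro d hd
    have h9 : Function.Surjective (fun e : E => (e : D)) :=
      ((Nat.bijective_iff_injective_and_card _).2 ⟨Subtype.val_injective, h8⟩).2
    obtain ⟨e, he⟩ := h9 ⟨d, hd⟩
    have h10 := e.2
    rw [show ((e : D) : G) = d from congrArg Subtype.val he] at h10
    exact h10
  have hDab : ∀ x ∈ D, ∀ y ∈ D, x * y = y * x := by
    intro x hx y hy
    have h1 := hinvD (x * y) (mul_mem hx hy)
    have h2 : u * (x * y) * u⁻¹ = x⁻¹ * y⁻¹ := by
      calc u * (x * y) * u⁻¹ = (u * x * u⁻¹) * (u * y * u⁻¹) := by group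
        _ = x⁻¹ * y⁻¹ := by rw [hinvD x hx, hinvD y hy]
    have h3 : (x * y)⁻¹ = (y * x)⁻¹ := by
      rw [← h1, h2]; group
    exact inv_injective h3
  -- `H = C D`
  have hHCD : ∀ g ∈ H, ∃ c ∈ centralizer ({s} : Set G), ∃ d ∈ D, g = c * d := by
    intro g hg
    have h1 : orderOf (g⁻¹ * s * g) = 2 := by
      have := orderOf_conj g⁻¹ s
      rw [inv_inv] at this
      rw [this]; exact hs
    obtain ⟨d, hd, hds⟩ := htrans (g⁻¹ * s * g) (mul_mem (mul_mem (inv_mem hg) hsH) hg) h1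
    refine ⟨g * d, ?_, d⁻¹, inv_mem hd, by group⟩
    rw [mem_centralizer_singleton_iff]
    calc g * d * s = g * (d * s * d⁻¹) * d := by group
      _ = g * (g⁻¹ * s * g) * d := by rw [hds]
      _ = s * (g * d) := by group
  -- pass to the group `H`
  let C' : Subgroup H := (centralizer ({s} : Set G)).subgroupOf H
  let D' : Subgroup H := D.subgroupOf H
  have hC' : IsPGroup 2 C' := by
    rintro ⟨x, hx⟩
    obtain ⟨k, hk⟩ := hCIT s hs ⟨(x : G), hx⟩
    have hk' : (x : G) ^ 2 ^ k = 1 := congrArg Subtype.val hk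
    have hk2 : x ^ 2 ^ k = 1 := Subtype.ext hk'
    exact ⟨k, Subtype.ext hk2⟩
  have hcardD' : Nat.card D' = Nat.card D := Nat.card_congr (subgroupOfEquivOfLe hDH).toEquiv
  have hD'odd : Odd (Nat.card D') := by rw [hcardD']; exact hDodd
  have hD'ab : ∀ x ∈ D', ∀ y ∈ D', x * y = y * x := fun x hx y hy =>
    Subtype.ext (hDab _ hx _ hy)
  have hCD' : ∀ g : H, ∃ c ∈ C', ∃ d ∈ D', g = c * d := by
    intro g
    obtain ⟨c, hc, d, hd, hg⟩ := hHCD g g.2
    have hcH : c ∈ H := by
      have : c = g * d⁻¹ := by rw [hg]; group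
      rw [this]; exact mul_mem g.2 (inv_mem (hDH hd))
    exact ⟨⟨c, hcH⟩, hc, ⟨d, hDH hd⟩, hd, Subtype.ext hg⟩
  have hfree : ∀ s d : H, orderOf s = 2 → Odd (orderOf d) → s * d = d * s → d = 1 := by
    intro a b ha hb hab
    apply Subtype.ext
    refine eq_one_of_odd hCIT (s := (a : G)) (by rw [Subgroup.orderOf_coe]; exact ha)
      (by rw [Subgroup.orderOf_coe]; exact hb) (congrArg Subtype.val hab)
  have hnilC : Group.IsNilpotent C' := hC'.isNilpotent
  have hnilD : Group.IsNilpotent D' := by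
    let inst : CommGroup D' :=
      { (inferInstance : Group D') with mul_comm := fun a b => Subtype.ext (hD'ab a a.2 b b.2) }
    exact CommGroup.isNilpotent
  have hcop : (Nat.card C').Coprime (Nat.card D') := by
    obtain ⟨k, hk⟩ := IsPGroup.iff_card.1 hC'
    rw [hk]
    exact Nat.Coprime.pow_left k ((Nat.coprime_two_left).2 hD'odd)
  have hsol : Group.IsSolvable H := (Cfsg.Agent.S0563.result C' D' hnilC hnilD hcop hCD').1
  have hntH : Nontrivial H := ⟨⟨1, ⟨s, hsH⟩, fun h => by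
    have := congrArg Subtype.val h
    change (1 : G) = s at this
    rw [← this, orderOf_one] at hs
    norm_num at hs⟩⟩
  -- every involution of `H` lies in `O₂(H)`
  have hinv : ∀ j : H, orderOf j = 2 → j ∈ pCore 2 H := by
    obtain ⟨q, hq, N, hN, hN1, hNc, hNq⟩ := Cfsg.Agent.Characters.CNBasic.exists_normal_elementary H
    obtain ⟨⟨n0, hn0⟩, hn1'⟩ := ne_bot_iff_exists_ne_one.1 hN1
    have hn1 : n0 ≠ 1 := fun h => hn1' (Subtype.ext h)
    by_cases hq2 : q = 2
    · subst hq2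
      have hn2 : orderOf (n0 : G) = 2 := by
        refine orderOf_eq_two_of_mul_self ?_ (fun h => hn1 (Subtype.ext h))
        have := hNq n0 hn0
        rw [pow_two] at this
        exact congrArg Subtype.val this
      have hNp : IsPGroup 2 N := by
        intro x
        refine ⟨1, Subtype.ext ?_⟩
        rw [pow_one]
        exact hNq x x.2
      intro j hj
      apply Cfsg.Agent.Lib.Cores.le_pCore hN hNp
      obtain ⟨d, hd, hdj⟩ := (Cfsg.Agent.S1225.result H hH u hu huH (n0 : G) (j : G) hn2 n0.2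
        (by rw [Subgroup.orderOf_coe]; exact hj) j.2).1
      have h3 := hN.conj_mem n0 hn0 ⟨d, hDH hd⟩
      have h4 : (⟨d, hDH hd⟩ : H) * n0 * (⟨d, hDH hd⟩ : H)⁻¹ = j := Subtype.ext hdj
      rw [h4] at h3
      exact h3
    · exfalso
      have hqodd : Odd q := hq.odd_of_ne_two hq2
      have hNodd : ∀ x ∈ N, Odd (orderOf x) := fun x hx =>
        Odd.of_dvd_nat hqodd (orderOf_dvd_of_pow_eq_one (hNq x hx))
      have hinvert : ∀ i : H, orderOf i = 2 → ∀ n ∈ N, i * n * i⁻¹ = n⁻¹ := by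
        intro i hi n hn
        have h1 : i * n * i⁻¹ ∈ N := hN.conj_mem n hn i
        have hii : i * i = 1 := mul_self_of_orderOf hi
        have h2 : i * (n * (i * n * i⁻¹)) = (n * (i * n * i⁻¹)) * i := by
          have hcomm := hNc _ h1 n hn
          have hi' : i⁻¹ = i := inv_eq_self_of_orderOf hi
          calc i * (n * (i * n * i⁻¹)) = (i * n * i⁻¹) * (i * (i * n * i⁻¹)) := by group
            _ = (i * n * i⁻¹) * ((i * i) * n * i⁻¹) := by group
            _ = (i * n * i⁻¹) * n * i := by rw [hii, hi']; group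
            _ = (n * (i * n * i⁻¹)) * i := by rw [hcomm]
        have h3 := hfree i _ hi (hNodd _ (mul_mem hn h1)) h2
        exact (inv_eq_of_mul_eq_one_right h3).symm
      have hnocomm : ∀ i j : H, orderOf i = 2 → orderOf j = 2 → i * j = j * i → i = j := by
        intro i j hi hj hij
        by_contra hne
        have hk : orderOf (i * j) = 2 := by
          refine orderOf_eq_two_of_mul_self ?_ ?_
          · calc i * j * (i * j) = i * (j * i) * j := by group
              _ = (i * i) * (j * j) := by rw [← hij]; group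
              _ = 1 := by rw [mul_self_of_orderOf hi, mul_self_of_orderOf hj, mul_one]
          · intro h
            apply hne
            rw [mul_eq_one_iff_eq_inv, inv_eq_self_of_orderOf hj] at h
            exact h
        have h1 : (i * j) * n0 = n0 * (i * j) := by
          have h2 := hinvert j hj n0 hn0
          have h3 := hinvert i hi (n0⁻¹) (inv_mem hn0)
          have h4 : (i * j) * n0 * (i * j)⁻¹ = n0 := by
            calc (i * j) * n0 * (i * j)⁻¹ = i * (j * n0 * j⁻¹) * i⁻¹ := by group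
              _ = n0 := by rw [h2, h3, inv_inv]
          rw [mul_inv_eq_iff_eq_mul] at h4
          exact h4
        exact hn1 (hfree _ _ hk (hNodd _ hn0) h1)
      -- a Sylow subgroup containing `s`
      have hsp : IsPGroup 2 (zpowers s) := by
        apply IsPGroup.of_card (n := 1)
        rw [Nat.card_zpowers, hs, pow_one]
      obtain ⟨P, hP⟩ := hsp.exists_le_sylow
      have hsP : s ∈ P := hP (mem_zpowers s)
      have hs1 : s ≠ 1 := by
        rintro rfl
        rw [orderOf_one] at hs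
        norm_num at hs
      have hPne : Nontrivial (P : Subgroup G) :=
        (Subgroup.nontrivial_iff_exists_ne_one _).2 ⟨s, hsP, hs1⟩
      have hcen := P.isPGroup'.center_nontrivial
      obtain ⟨z, hz1⟩ := exists_ne (1 : center (P : Subgroup G))
      obtain ⟨k, hk⟩ := P.isPGroup' (z : (P : Subgroup G))
      have hz1' : (z : (P : Subgroup G)) ≠ 1 := fun h => hz1 (Subtype.ext h)
      obtain ⟨m, hm⟩ := exists_pow_orderOf_two hz1' hk
      set z1 : (P : Subgroup G) := (z : (P : Subgroup G)) ^ m with hz1def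
      have hz1c : z1 ∈ center (P : Subgroup G) := pow_mem z.2 m
      have hz2 : orderOf (z1 : G) = 2 := by rw [Subgroup.orderOf_coe]; exact hm
      have hzc : ∀ x ∈ P, x * (z1 : G) = (z1 : G) * x := by
        intro x hx
        exact congrArg Subtype.val (mem_center_iff.1 hz1c ⟨x, hx⟩)
      have hz1H : (z1 : G) ∈ H := mem_of_commute hH hsH hs (hzc s hsP).symm
      have hPH : ∀ x ∈ P, x ∈ H := fun x hx => mem_of_commute hH hz1H hz2 (hzc x hx)
      refine false_of_unique hna hCIT P z1.2 hz2 ?_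
      intro j hj hj2
      have h5 := hnocomm ⟨j, hPH j hj⟩ ⟨z1, hz1H⟩ (by rw [Subgroup.orderOf_mk]; exact hj2)
        (by rw [Subgroup.orderOf_mk]; exact hz2) (Subtype.ext (hzc j hj))
      exact congrArg Subtype.val h5
  have hidx := odd_index_pCore hsol hfree C' D' hC' hD'odd hD'ab hCD' hinv
  have hQn : (pCore 2 H).Normal := Cfsg.Agent.Lib.Cores.pCore_normal 2
  have hQp : IsPGroup 2 (pCore 2 H) := Cfsg.Agent.Lib.Cores.pCore_isPGroup 2
  -- 2-elements of `H` lie in `O₂(H)`
  have h2H : ∀ x : H, ∀ k : ℕ, (x : G) ^ 2 ^ k = 1 → x ∈ pCore 2 H := by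
    intro x k hk
    rw [← QuotientGroup.eq_one_iff]
    refine eq_one_of_coprime_pow (m := 2 ^ k) (n := (pCore 2 H).index)
      (Nat.Coprime.pow_left k ((Nat.coprime_two_left).2 hidx)) ?_ ?_
    · have : x ^ 2 ^ k = 1 := Subtype.ext hk
      rw [← QuotientGroup.mk_pow, this, QuotientGroup.mk_one]
    · rw [Subgroup.index]
      exact pow_card_eq_one'
  have hSinv : ∀ x ∈ (pCore 2 H).map H.subtype, x ≠ 1 → ∃ m : ℕ, orderOf (x ^ m) = 2 ∧ x ^ m ∈ H := by
    rintro _ ⟨x, hx, rfl⟩ hx1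
    obtain ⟨k, hk⟩ := hQp ⟨x, hx⟩
    have hk' : (x : G) ^ 2 ^ k = 1 := congrArg (fun y : pCore 2 H => ((y : H) : G)) hk
    obtain ⟨m, hm⟩ := exists_pow_orderOf_two hx1 hk'
    exact ⟨m, hm, pow_mem x.2 m⟩
  have hle : (pCore 2 H).map H.subtype ≤ H := by
    rintro _ ⟨x, -, rfl⟩
    exact x.2
  refine ⟨(pCore 2 H).map H.subtype, ⟨?_, ?_, ?_⟩, hle, ?_⟩
  · intro h hh hh1 g hg
    obtain ⟨m, hm, hmH⟩ := hSinv h hh hh1
    have hcomm : Commute g (h ^ m) := (show Commute g h from hg).pow_right m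
    have hgH : g ∈ H := mem_of_commute hH hmH hm hcomm
    have hgC : g ∈ centralizer ({h ^ m} : Set G) := by
      rw [mem_centralizer_singleton_iff]; exact hcomm
    obtain ⟨k, hk⟩ := hCIT _ hm ⟨g, hgC⟩
    exact ⟨⟨g, hgH⟩, h2H ⟨g, hgH⟩ k (congrArg Subtype.val hk), rfl⟩
  · intro h hh hh1 g hg
    obtain ⟨m, hm, hmH⟩ := hSinv h hh hh1
    have h1 : g * h ^ m * g⁻¹ ∈ H := by
      rw [← conj_pow]
      exact pow_mem (hle hg) m
    have hgH : g ∈ H := mem_of_conj_mem hH hmH hm h1
    rw [mem_normalizer_iff]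
    intro x
    constructor
    · rintro ⟨y, hy, rfl⟩
      exact ⟨⟨g, hgH⟩ * y * (⟨g, hgH⟩ : H)⁻¹, hQn.conj_mem y hy _, rfl⟩
    · rintro ⟨y, hy, hyx⟩
      refine ⟨(⟨g, hgH⟩ : H)⁻¹ * y * ⟨g, hgH⟩, ?_, ?_⟩
      · have := hQn.conj_mem y hy (⟨g, hgH⟩ : H)⁻¹
        rwa [inv_inv] at this
      · change g⁻¹ * (y : G) * g = x
        have h2 : (y : G) = g * x * g⁻¹ := hyx
        rw [h2]; group
  · have hsS : s ∈ (pCore 2 H).map H.subtype :=
      ⟨⟨s, hsH⟩, hinv _ (by rw [Subgroup.orderOf_mk]; exact hs), rfl⟩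
    have := ((pCore 2 H).map H.subtype).orderOf_dvd_natCard hsS
    rwa [hs] at this
  · intro h
    apply hH.1
    rw [eq_top_iff, ← h]
    exact hle

/-- A non-abelian finite simple CIT-group with a strongly embedded subgroup is a Zassenhaus group. -/
theorem exists_zassenhaus [IsSimpleGroup G] (hna : ∃ a b : G, a * b ≠ b * a)
    (hCIT : ∀ t : G, orderOf t = 2 → IsPGroup 2 (centralizer ({t} : Set G)))
    {H : Subgroup G} (hH : IsStronglyEmbedded H) :
    ∃ K : Subgroup G, Cfsg.IsZassenhausGroup G (G ⧸ K) := by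
  obtain ⟨S, hS, -, hS1⟩ := exists_conf hna hCIT hH
  exact ⟨_, (Cfsg.Agent.LieExceptional.CCEven.isZassenhausGroup hS hS1).1⟩

end Cfsg.Agent.LieExceptional.CITStrong
end

-- part: LieExceptional/CITMain
section
set_option autoImplicit false

/-!
Assembly of the classification of non-abelian finite simple CIT-groups of even order from its pieces.
-/

namespace Cfsg.Agent.LieExceptional.CITMain

open Subgroup Cfsg.Agent.LieExceptional.CITDefs

/-- The conclusion of the classification of CIT-groups. -/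
def Conclusion (G : Type*) [Group G] : Prop :=
  (∃ (F : Type) (_ : Field F) (_ : Fintype F),
        (Fintype.card F = 9 ∨ (∃ n : ℕ, Fintype.card F = 2 ^ n) ∨
          ((Fintype.card F).Prime ∧ ∃ k : ℕ, Fintype.card F = 2 ^ k + 1 ∨ Fintype.card F + 1 = 2 ^ k)) ∧
        Nonempty (G ≃* Matrix.ProjectiveSpecialLinearGroup (Fin 2) F)) ∨
    (∃ (F : Type) (_ : Field F) (_ : Fintype F), Fintype.card F = 4 ∧
        Nonempty (G ≃* Matrix.ProjectiveSpecialLinearGroup (Fin 3) F)) ∨
    Cfsg.IsSuzuki G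

theorem IsCIT.of_mulEquiv {G K : Type*} [Group G] [Group K] (e : G ≃* K) (hG : IsCIT G) : IsCIT K := by
  intro t ht
  have h1 : orderOf (e.symm t) = 2 := by
    rw [MulEquiv.orderOf_eq]; exact ht
  have h2 := hG _ h1
  rintro ⟨x, hx⟩
  have hx' : e.symm x ∈ centralizer ({e.symm t} : Set G) := by
    rw [mem_centralizer_singleton_iff] at hx ⊢
    rw [← map_mul, hx, map_mul]
  obtain ⟨k, hk⟩ := h2 ⟨e.symm x, hx'⟩
  have hk' : (e.symm x) ^ 2 ^ k = 1 := congrArg Subtype.val hk
  refine ⟨k, Subtype.ext ?_⟩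
  change x ^ 2 ^ k = 1
  rw [← map_pow] at hk'
  exact (MulEquiv.map_eq_one_iff e.symm).1 hk'

variable {G : Type*} [Group G] [Finite G]

theorem conclusion_of_psl2 (hCIT : IsCIT G) {F : Type} [Field F] [Fintype F]
    (e : G ≃* Matrix.ProjectiveSpecialLinearGroup (Fin 2) F) : Conclusion G :=
  Or.inl ⟨F, inferInstance, inferInstance,
    Cfsg.Agent.LieExceptional.CITPsl.psl2_card (IsCIT.of_mulEquiv e hCIT), ⟨e⟩⟩

/-- A maximal 2-local subgroup which meets its other conjugates in subgroups of odd order is strongly embedded. -/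
theorem isStronglyEmbedded {M : Subgroup G} (hM : IsMaxLocal M) (hM1 : M ≠ ⊤)
    (hse : ∀ g ∉ M, Odd (Nat.card ↥(M ⊓ M.map (MulAut.conj g).toMonoidHom))) :
    Cfsg.IsStronglyEmbedded M := by
  refine ⟨hM1, ?_, fun g hg => hse g hg⟩
  obtain ⟨⟨X, hX1, hX⟩, -⟩ := hM
  obtain ⟨⟨x, hx⟩, hx1⟩ := ne_bot_iff_exists_ne_one.1 hX1
  have : Fact (Nat.Prime 2) := ⟨Nat.prime_two⟩
  obtain ⟨k, hk⟩ := IsPGroup.iff_card.1 hX.two
  have hk0 : k ≠ 0 := by
    rintro rfl
    rw [pow_zero] at hk
    exact hX1 ((card_eq_one).1 hk)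
  have h2 : 2 ∣ Nat.card X := by
    rw [hk]; exact dvd_pow_self 2 hk0
  exact even_iff_two_dvd.2 (h2.trans (card_dvd_of_le hX.le))

theorem main_of [IsSimpleGroup G] (hnab : ∃ a b : G, a * b ≠ b * a) (hCIT : IsCIT G)
    (hglobal : (∃ M : Subgroup G, IsMaxLocal M ∧ M ≠ ⊤ ∧
        ∀ g ∉ M, Odd (Nat.card ↥(M ⊓ M.map (MulAut.conj g).toMonoidHom))) ∨
      ∃ (M₁ M₂ V₁ V₂ T : Subgroup G) (q : ℕ), Amal M₁ M₂ V₁ V₂ T q)
    (hq : ∀ (M₁ M₂ V₁ V₂ T : Subgroup G) (q : ℕ), Amal M₁ M₂ V₁ V₂ T q → q = 2 ∨ q = 4)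
    (hpsl : ∀ (M₁ M₂ V₁ V₂ T : Subgroup G), Amal M₁ M₂ V₁ V₂ T 4 →
      ∃ (F : Type) (_ : Field F) (_ : Fintype F), Fintype.card F = 4 ∧
        Nonempty (G ≃* Matrix.ProjectiveSpecialLinearGroup (Fin 3) F)) :
    Conclusion G := by
  rcases hglobal with ⟨M, hM, hM1, hse⟩ | ⟨M₁, M₂, V₁, V₂, T, q, h⟩
  · obtain ⟨K, hK⟩ := Cfsg.Agent.LieExceptional.CITStrong.exists_zassenhaus hnab hCIT
      (isStronglyEmbedded hM hM1 hse)
    rcases Cfsg.Agent.S0340.result hK with ⟨F, i1, i2, ⟨e⟩⟩ | h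
    · exact conclusion_of_psl2 hCIT e
    · exact Or.inr (Or.inr h)
  · rcases hq _ _ _ _ _ _ h with rfl | rfl
    · obtain ⟨F, i1, i2, -, ⟨e⟩⟩ := Cfsg.Agent.LieExceptional.CITTwo.psl2_of_two hnab hCIT h
      exact conclusion_of_psl2 hCIT e
    · exact Or.inr (Or.inl (hpsl _ _ _ _ _ h))

end Cfsg.Agent.LieExceptional.CITMain
end
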