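import Mathlib
import Cfsg.Agent.LieExceptional.CITDefs
import Cfsg.Agent.LieExceptional.CITAmal
import Cfsg.Agent.Transfer.ThompsonTransfer
set_option linter.all false

/-!
# CIT groups, step E4 of the blueprint: for `q = 4` the 2-group `T` of order 64 is a Sylow
2-subgroup of `G`.
-/

set_option autoImplicit false

namespace Cfsg.Agent.LieExceptional.CITSylowFour

open Cfsg.Agent.LieExceptional.CITDefs

variable {G : Type*} [Group G]

/-! ## General lemmas -/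

theorem conj_mem_iff [Finite G] {V W : Subgroup G} (hc : Nat.card W ≤ Nat.card V) {g : G}
    (h : ∀ v ∈ V, g * v * g⁻¹ ∈ W) (x : G) : g * x * g⁻¹ ∈ W ↔ x ∈ V := by
  have h1 : V.map (MulAut.conj g).toMonoidHom ≤ W := by
    rintro _ ⟨v, hv, rfl⟩
    exact h v hv
  have h2 : V.map (MulAut.conj g).toMonoidHom = W := by
    apply Subgroup.eq_of_le_of_card_ge h1
    rw [Subgroup.card_map_of_injective (MulAut.conj g).injective]
    exact hc
  constructor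
  · intro hx
    rw [← h2] at hx
    obtain ⟨v, hv, hvx⟩ := hx
    have : v = x := (MulAut.conj g).injective (by simpa using hvx)
    exact this ▸ hv
  · exact h x

theorem le_or_le {E V W : Subgroup G} (h : ∀ x ∈ E, x ∈ V ∨ x ∈ W) : E ≤ V ∨ E ≤ W := by
  by_contra hc
  rw [not_or, SetLike.not_le_iff_exists, SetLike.not_le_iff_exists] at hc
  obtain ⟨⟨a, haE, haV⟩, ⟨b, hbE, hbW⟩⟩ := hc
  have haW : a ∈ W := (h a haE).resolve_left haV
  have hbV : b ∈ V := (h b hbE).resolve_right hbW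
  rcases h _ (E.mul_mem haE hbE) with h1 | h1
  · exact haV ((Subgroup.mul_mem_cancel_right V hbV).1 h1)
  · exact hbW ((Subgroup.mul_mem_cancel_left W haW).1 h1)

/-- Existence of `O₂(L)` above a given normal 2-subgroup. -/
theorem exists_isO2_ge [Finite G] (L V : Subgroup G) (hVL : V ≤ L) (hV2 : IsPGroup 2 V)
    (hVn : ∀ m ∈ L, ∀ x ∈ V, m * x * m⁻¹ ∈ V) : ∃ X : Subgroup G, V ≤ X ∧ IsO2 L X := by
  classical
  have : Fact (Nat.Prime 2) := ⟨Nat.prime_two⟩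
  let P : Sylow 2 L := default
  have key : ∀ Y : Subgroup G, Y ≤ L → IsPGroup 2 Y → (∀ m ∈ L, ∀ y ∈ Y, m * y * m⁻¹ ∈ Y) →
      Y ≤ ((P : Subgroup L).normalCore).map L.subtype := by
    intro Y hYL hY2 hYn
    have hN : (Y.subgroupOf L).Normal := by
      constructor
      intro n hn g
      rw [Subgroup.mem_subgroupOf] at hn ⊢
      exact hYn g g.2 n hn
    have hp : IsPGroup 2 (Y.subgroupOf L) := hY2.comap_of_injective L.subtype L.subtype_injective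
    obtain ⟨Q, hQ⟩ := hp.exists_le_sylow
    obtain ⟨g, hg⟩ := MulAction.exists_smul_eq L Q P
    have hle : Y.subgroupOf L ≤ (P : Subgroup L) := by
      intro y hy
      rw [← hg]
      have h1 : g⁻¹ * y * (g⁻¹)⁻¹ ∈ Y.subgroupOf L := hN.conj_mem y hy g⁻¹
      have h2 := hQ h1
      rw [Sylow.coe_subgroup_smul, Subgroup.mem_pointwise_smul_iff_inv_smul_mem, ← map_inv,
        MulAut.smul_def, MulAut.conj_apply]
      exact h2
    have h3 : Y.subgroupOf L ≤ (P : Subgroup L).normalCore := Subgroup.normal_le_normalCore.2 hle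
    intro y hy
    exact ⟨⟨y, hYL hy⟩, h3 (by rw [Subgroup.mem_subgroupOf]; exact hy), rfl⟩
  refine ⟨((P : Subgroup L).normalCore).map L.subtype, key V hVL hV2 hVn, ?_, ?_, ?_, key⟩
  · exact Subgroup.map_subtype_le _
  · exact (P.2.to_le (Subgroup.normalCore_le _)).map L.subtype
  · rintro m hm _ ⟨x, hx, rfl⟩
    exact ⟨⟨m, hm⟩ * x * ⟨m, hm⟩⁻¹, (inferInstance : ((P : Subgroup L).normalCore).Normal).conj_mem x hx _, rfl⟩

theorem mem_of_isMaxLocal [Finite G] {M V : Subgroup G} (hM : IsMaxLocal M) (hV : V ≠ ⊥)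
    (hV2 : IsPGroup 2 V) (hVn : ∀ m ∈ M, ∀ x ∈ V, m * x * m⁻¹ ∈ V) {g : G}
    (hg : ∀ v ∈ V, g * v * g⁻¹ ∈ V) : g ∈ M := by
  have hL : M ≤ Subgroup.normalizer (V : Set G) := by
    intro m hm
    rw [Subgroup.mem_normalizer_iff]
    exact fun x => (conj_mem_iff le_rfl (hVn m hm) x).symm
  obtain ⟨X, hVX, hX⟩ := exists_isO2_ge (Subgroup.normalizer (V : Set G)) V Subgroup.le_normalizer hV2
    (fun m hm x hx => (Subgroup.mem_normalizer_iff.1 hm x).1 hx)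
  have hX1 : X ≠ ⊥ := by
    rintro rfl
    exact hV (le_bot_iff.1 hVX)
  rw [← hM.2 _ hL ⟨X, hX1, hX⟩, Subgroup.mem_normalizer_iff]
  exact fun x => (conj_mem_iff le_rfl hg x).symm

/-- Normaliser condition in a 2-group. -/
theorem exists_normalizing [Finite G] {T Y : Subgroup G} (hY : IsPGroup 2 Y) (hTY : T ≤ Y)
    (hne : Y ≠ T) : ∃ s ∈ Y, s ∉ T ∧ ∀ t ∈ T, s * t * s⁻¹ ∈ T := by
  have : Fact (Nat.Prime 2) := ⟨Nat.prime_two⟩
  have hnil : Group.IsNilpotent Y := hY.isNilpotent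
  have hlt : T.subgroupOf Y < ⊤ := by
    rw [lt_top_iff_ne_top, Ne, Subgroup.subgroupOf_eq_top]
    exact fun h => hne (le_antisymm h hTY)
  have h2 := Group.normalizerCondition_of_isNilpotent (T.subgroupOf Y) hlt
  obtain ⟨s, hs, hsT⟩ := SetLike.exists_of_lt h2
  refine ⟨s, s.2, fun h => hsT (Subgroup.mem_subgroupOf.2 h), fun t ht => ?_⟩
  have h3 := (Subgroup.mem_normalizer_iff.1 hs ⟨t, hTY ht⟩).1 (Subgroup.mem_subgroupOf.2 ht)
  exact Subgroup.mem_subgroupOf.1 h3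

/-- A group of order four. -/
theorem mem_four [Finite G] {C : Subgroup G} (hC : Nat.card C = 4) {a b x : G} (ha : a ∈ C)
    (hb : b ∈ C) (hx : x ∈ C) (ha1 : a ≠ 1) (hb1 : b ≠ 1) (hab : a ≠ b) (h2 : a * b ≠ 1) :
    x = 1 ∨ x = a ∨ x = b ∨ x = a * b := by
  classical
  by_contra hcon
  push Not at hcon
  obtain ⟨h1, h3, h4, h5⟩ := hcon
  have : Fintype C := Fintype.ofFinite C
  let s : Finset C := {1, ⟨a, ha⟩, ⟨b, hb⟩, ⟨a * b, C.mul_mem ha hb⟩, ⟨x, hx⟩}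
  have hs : s.card = 5 := by
    have e1 : (1 : C) ∉ ({⟨a, ha⟩, ⟨b, hb⟩, ⟨a * b, C.mul_mem ha hb⟩, ⟨x, hx⟩} : Finset C) := by
      simp only [Finset.mem_insert, Finset.mem_singleton, Subtype.ext_iff, Subgroup.coe_one, not_or]
      exact ⟨ha1.symm, hb1.symm, h2.symm, h1.symm⟩
    have e2 : (⟨a, ha⟩ : C) ∉ ({⟨b, hb⟩, ⟨a * b, C.mul_mem ha hb⟩, ⟨x, hx⟩} : Finset C) := by
      simp only [Finset.mem_insert, Finset.mem_singleton, Subtype.ext_iff, not_or]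
      exact ⟨hab, fun h => hb1 (by simpa using h), h3.symm⟩
    have e3 : (⟨b, hb⟩ : C) ∉ ({⟨a * b, C.mul_mem ha hb⟩, ⟨x, hx⟩} : Finset C) := by
      simp only [Finset.mem_insert, Finset.mem_singleton, Subtype.ext_iff, not_or]
      exact ⟨fun h => ha1 (by simpa using h), h4.symm⟩
    have e4 : (⟨a * b, C.mul_mem ha hb⟩ : C) ∉ ({⟨x, hx⟩} : Finset C) := by
      simp only [Finset.mem_singleton, Subtype.ext_iff]
      exact h5.symm
    show Finset.card _ = 5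
    rw [Finset.card_insert_of_notMem e1, Finset.card_insert_of_notMem e2,
      Finset.card_insert_of_notMem e3, Finset.card_insert_of_notMem e4, Finset.card_singleton]
  have h6 := Finset.card_le_univ s
  rw [hs, ← Nat.card_eq_fintype_card, hC] at h6
  omega

/-- In a CIT group a nontrivial element of 2-power order does not commute with an element of
order 3. -/
theorem fpf [Finite G] (hG : IsCIT G) {d x : G} (hd : orderOf d = 3) {k : ℕ}
    (hx : x ^ 2 ^ k = 1) (hc : d * x = x * d) : x = 1 := by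
  have : Fact (Nat.Prime 2) := ⟨Nat.prime_two⟩
  by_contra hx1
  obtain ⟨j, hj, hj2⟩ : ∃ j, orderOf x = 2 ^ j ∧ 1 ≤ j := by
    obtain ⟨j, hj, hj2⟩ := (Nat.dvd_prime_pow Nat.prime_two).1 (orderOf_dvd_of_pow_eq_one hx)
    refine ⟨j, hj2, ?_⟩
    rcases Nat.eq_zero_or_pos j with h0 | h0
    · rw [h0, pow_zero, orderOf_eq_one_iff] at hj2
      exact absurd hj2 hx1
    · exact h0
  have ht : orderOf (x ^ 2 ^ (j - 1)) = 2 := by
    have h1 : (2 : ℕ) ^ (j - 1) = orderOf x / 2 := by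
      rw [hj]
      obtain ⟨i, rfl⟩ : ∃ i, j = i + 1 := ⟨j - 1, by omega⟩
      rw [Nat.add_sub_cancel, pow_succ, Nat.mul_div_cancel _ (by norm_num)]
    rw [h1]
    refine orderOf_pow_orderOf_div ?_ ?_
    · rw [hj]; positivity
    · rw [hj]; exact dvd_pow_self 2 (by omega)
  have hd2 : d ∈ Subgroup.centralizer ({x ^ 2 ^ (j - 1)} : Set G) := by
    rw [Subgroup.mem_centralizer_singleton_iff]
    exact (Commute.pow_right hc _).eq
  obtain ⟨i, hi⟩ := (IsPGroup.iff_orderOf.1 (hG _ ht)) ⟨d, hd2⟩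
  rw [Subgroup.orderOf_mk, hd] at hi
  rcases Nat.eq_zero_or_pos i with h0 | h0
  · rw [h0] at hi; norm_num at hi
  · have : 2 ∣ 3 := hi ▸ dvd_pow_self 2 (by omega)
    omega

theorem orderOf_eq_two {x : G} (h : x * x = 1) (h1 : x ≠ 1) : orderOf x = 2 := by
  have : Fact (Nat.Prime 2) := ⟨Nat.prime_two⟩
  exact orderOf_eq_prime (by rw [pow_two]; exact h) h1

/-! ## The configuration -/

/-- The facts about the amalgam used below, in elementwise form. -/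
structure Conf (M₁ M₂ V₁ V₂ T C : Subgroup G) : Prop where
  T2 : IsPGroup 2 T
  le₁ : V₁ ≤ T
  le₂ : V₂ ≤ T
  elem₁ : Elem V₁
  elem₂ : Elem V₂
  card₁ : Nat.card V₁ = 16
  card₂ : Nat.card V₂ = 16
  cardT : Nat.card T = 64
  cardC : Nat.card C = 4
  sup : ∀ L : Subgroup G, V₁ ≤ L → V₂ ≤ L → T ≤ L
  memC : ∀ x, x ∈ C ↔ x ∈ V₁ ∧ x ∈ V₂
  cent : ∀ c ∈ C, ∀ t ∈ T, c * t = t * c
  char : ∀ g : G, (∀ t ∈ T, g * t * g⁻¹ ∈ T) → ∀ c ∈ C, g * c * g⁻¹ ∈ C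
  inv : ∀ x ∈ T, x * x = 1 → x ∈ V₁ ∨ x ∈ V₂
  mem₁ : ∀ g, (∀ v ∈ V₁, g * v * g⁻¹ ∈ V₁) → g ∈ M₁
  mem₂ : ∀ g, (∀ v ∈ V₂, g * v * g⁻¹ ∈ V₂) → g ∈ M₂
  norm₁ : ∀ m ∈ M₁, ∀ v ∈ V₁, m * v * m⁻¹ ∈ V₁
  leM₁ : T ≤ M₁
  leM₂ : T ≤ M₂
  max₁ : ∀ Y : Subgroup G, Y ≤ M₁ → IsPGroup 2 Y → T ≤ Y → Y = T
  max₂ : ∀ Y : Subgroup G, Y ≤ M₂ → IsPGroup 2 Y → T ≤ Y → Y = T
  trans₁ : ∀ v ∈ V₁, v ≠ 1 → ∀ w ∈ V₁, w ≠ 1 → ∃ m ∈ M₁, m * v * m⁻¹ = w
  trans₂ : ∀ v ∈ V₂, v ≠ 1 → ∀ w ∈ V₂, w ≠ 1 → ∃ m ∈ M₂, m * v * m⁻¹ = w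
  spread : ∀ m ∈ M₁, (∃ v ∈ C, v ≠ 1 ∧ m * v * m⁻¹ ∈ C) → ∀ v ∈ C, m * v * m⁻¹ ∈ C
  normalizes : ∀ m ∈ M₁, (∀ v ∈ C, m * v * m⁻¹ ∈ C) → ∀ t ∈ T, m * t * m⁻¹ ∈ T
  comm : ∀ v ∈ V₁, ∀ w ∈ V₂, v * w * v⁻¹ * w⁻¹ ∈ C
  ncomm : ∀ v ∈ V₁, v ∉ V₂ → ∀ w ∈ V₂, v * w = w * v → w ∈ C

theorem omegaZ_of_elem {V : Subgroup G} (hV : Elem V) : omegaZ V = V := by
  ext x
  rw [mem_omegaZ]
  exact ⟨fun h => h.1, fun h => ⟨h, hV x h, fun y hy => hV.comm h hy⟩⟩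

theorem conf_of_amal [Finite G] {M₁ M₂ V₁ V₂ T : Subgroup G} (h : Amal M₁ M₂ V₁ V₂ T 4) :
    Conf M₁ M₂ V₁ V₂ T (omegaZ T) := by
  have e₁ := omegaZ_of_elem h.elem₁
  have e₂ := omegaZ_of_elem h.elem₂
  have c₁ : Nat.card V₁ = 16 := by
    have := h.ff₁.card_V
    rw [e₁] at this
    rw [this]
    norm_num
  have c₂ : Nat.card V₂ = 16 := by
    have := h.ff₂.card_V
    rw [e₂] at this
    rw [this]
    norm_num
  have n₁ : V₁ ≠ ⊥ := by
    rintro rfl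
    rw [Subgroup.card_bot] at c₁
    omega
  have n₂ : V₂ ≠ ⊥ := by
    rintro rfl
    rw [Subgroup.card_bot] at c₂
    omega
  have l₁ : V₁ ≤ T := h.sup ▸ le_sup_left
  have l₂ : V₂ ≤ T := h.sup ▸ le_sup_right
  have t₁ := h.ff₁.trans
  have t₂ := h.ff₂.trans
  have cm := h.ff₂.comm_mem
  have nc := h.ff₂.mem_of_comm
  rw [e₁] at t₁
  rw [e₂] at t₂ cm nc
  refine
    { T2 := h.ff₁.syl.two
      le₁ := l₁
      le₂ := l₂
      elem₁ := h.elem₁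
      elem₂ := h.elem₂
      card₁ := c₁
      card₂ := c₂
      cardT := h.card
      cardC := h.ff₁.card_C
      sup := fun L h1 h2 => h.sup ▸ sup_le h1 h2
      memC := fun x => by rw [← h.inf, Subgroup.mem_inf]
      cent := fun c hc t ht => hc.2.2 t ht
      char := ?_
      inv := h.inv
      mem₁ := fun g hg => mem_of_isMaxLocal h.max₁ n₁ h.ff₁.o2.two h.ff₁.o2.normal hg
      mem₂ := fun g hg => mem_of_isMaxLocal h.max₂ n₂ h.ff₂.o2.two h.ff₂.o2.normal hg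
      norm₁ := h.ff₁.o2.normal
      leM₁ := h.ff₁.syl.le
      leM₂ := h.ff₂.syl.le
      max₁ := h.ff₁.syl.max
      max₂ := h.ff₂.syl.max
      trans₁ := t₁
      trans₂ := t₂
      spread := h.ff₁.spread
      normalizes := h.ff₁.normalizes
      comm := fun v hv w hw => cm v (l₁ hv) w hw
      ncomm := fun v hv hv2 w hw hc => nc v (l₁ hv) hv2 w hw hc }
  intro g hg c hc
  rw [mem_omegaZ] at hc ⊢
  refine ⟨hg c hc.1, ?_, fun y hy => ?_⟩
  · calc g * c * g⁻¹ * (g * c * g⁻¹) = g * (c * c) * g⁻¹ := by group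
      _ = 1 := by rw [hc.2.1]; group
  · obtain ⟨x, rfl⟩ : ∃ x, y = g * x * g⁻¹ := ⟨g⁻¹ * y * g, by group⟩
    have hx : x ∈ T := (conj_mem_iff le_rfl hg x).1 hy
    calc g * c * g⁻¹ * (g * x * g⁻¹) = g * (c * x) * g⁻¹ := by group
      _ = g * (x * c) * g⁻¹ := by rw [hc.2.2 x hx]
      _ = g * x * g⁻¹ * (g * c * g⁻¹) := by group

set_option linter.unusedSectionVars false

section conf

variable [Finite G] {M₁ M₂ V₁ V₂ T C : Subgroup G}

theorem Conf.ne (h : Conf M₁ M₂ V₁ V₂ T C) : ¬ V₁ ≤ V₂ := by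
  intro hle
  have h1 : V₁ ≤ C := fun x hx => (h.memC x).2 ⟨hx, hle hx⟩
  have h2 := Subgroup.card_le_of_le h1
  rw [h.card₁, h.cardC] at h2
  omega

theorem Conf.ne' (h : Conf M₁ M₂ V₁ V₂ T C) : ¬ V₂ ≤ V₁ := by
  intro hle
  have h1 : V₂ ≤ C := fun x hx => (h.memC x).2 ⟨hle hx, hx⟩
  have h2 := Subgroup.card_le_of_le h1
  rw [h.card₂, h.cardC] at h2
  omega

/-- an element normalising `T` maps each of `V₁`, `V₂` into `V₁` or into `V₂` -/
theorem Conf.maps (h : Conf M₁ M₂ V₁ V₂ T C) {s : G} (hs : ∀ t ∈ T, s * t * s⁻¹ ∈ T)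
    {V : Subgroup G} (hV : V ≤ T) (he : Elem V) :
    (∀ v ∈ V, s * v * s⁻¹ ∈ V₁) ∨ (∀ v ∈ V, s * v * s⁻¹ ∈ V₂) := by
  have h1 : ∀ x ∈ V.map (MulAut.conj s).toMonoidHom, x ∈ V₁ ∨ x ∈ V₂ := by
    rintro _ ⟨v, hv, rfl⟩
    refine h.inv _ (hs v (hV hv)) ?_
    show s * v * s⁻¹ * (s * v * s⁻¹) = 1
    calc s * v * s⁻¹ * (s * v * s⁻¹) = s * (v * v) * s⁻¹ := by group
      _ = 1 := by rw [he v hv]; group
  rcases le_or_le h1 with h2 | h2
  · exact Or.inl fun v hv => h2 ⟨v, hv, rfl⟩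
  · exact Or.inr fun v hv => h2 ⟨v, hv, rfl⟩

/-- an element of a 2-group above `T` normalising `T` and `V₁` lies in `T` -/
theorem Conf.mem_of_norm₁ (h : Conf M₁ M₂ V₁ V₂ T C) {Y : Subgroup G} (hY : IsPGroup 2 Y)
    (hTY : T ≤ Y) {s : G} (hsY : s ∈ Y) (hs1 : ∀ v ∈ V₁, s * v * s⁻¹ ∈ V₁) : s ∈ T := by
  have h1 : M₁ ⊓ Y = T := h.max₁ _ inf_le_left (hY.to_le inf_le_right) (le_inf h.leM₁ hTY)
  rw [← h1]
  exact ⟨h.mem₁ s hs1, hsY⟩

theorem Conf.mem_of_norm₂ (h : Conf M₁ M₂ V₁ V₂ T C) {Y : Subgroup G} (hY : IsPGroup 2 Y)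
    (hTY : T ≤ Y) {s : G} (hsY : s ∈ Y) (hs1 : ∀ v ∈ V₂, s * v * s⁻¹ ∈ V₂) : s ∈ T := by
  have h1 : M₂ ⊓ Y = T := h.max₂ _ inf_le_left (hY.to_le inf_le_right) (le_inf h.leM₂ hTY)
  rw [← h1]
  exact ⟨h.mem₂ s hs1, hsY⟩

/-- an element of a 2-group above `T` normalising `T` but not in `T` swaps `V₁` and `V₂` -/
theorem Conf.swap (h : Conf M₁ M₂ V₁ V₂ T C) {Y : Subgroup G} (hY : IsPGroup 2 Y)
    (hTY : T ≤ Y) {s : G} (hsY : s ∈ Y) (hs : ∀ t ∈ T, s * t * s⁻¹ ∈ T) (hsT : s ∉ T) :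
    (∀ v ∈ V₁, s * v * s⁻¹ ∈ V₂) ∧ (∀ v ∈ V₂, s * v * s⁻¹ ∈ V₁) := by
  constructor
  · rcases h.maps hs h.le₁ h.elem₁ with h1 | h1
    · exact absurd (h.mem_of_norm₁ hY hTY hsY h1) hsT
    · exact h1
  · rcases h.maps hs h.le₂ h.elem₂ with h1 | h1
    · exact h1
    · exact absurd (h.mem_of_norm₂ hY hTY hsY h1) hsT

theorem Conf.sq_C (h : Conf M₁ M₂ V₁ V₂ T C) {c : G} (hc : c ∈ C) : c * c = 1 :=
  h.elem₁ c ((h.memC c).1 hc).1

theorem Conf.C_le (h : Conf M₁ M₂ V₁ V₂ T C) : C ≤ T := fun c hc => h.le₁ ((h.memC c).1 hc).1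

/-- `C_{M₁}(c) = T` for `c ∈ C#` -/
theorem Conf.mem_T_of_comm (h : Conf M₁ M₂ V₁ V₂ T C) (hG : IsCIT G) {c m : G} (hc : c ∈ C)
    (hc1 : c ≠ 1) (hm : m ∈ M₁) (hmc : m * c * m⁻¹ = c) : m ∈ T := by
  have h1 : IsPGroup 2 (Subgroup.centralizer ({c} : Set G)) := hG c (orderOf_eq_two (h.sq_C hc) hc1)
  have h2 : M₁ ⊓ Subgroup.centralizer ({c} : Set G) = T := by
    refine h.max₁ _ inf_le_left (h1.to_le inf_le_right) (le_inf h.leM₁ fun t ht => ?_)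
    rw [Subgroup.mem_centralizer_singleton_iff]
    exact (h.cent c hc t ht).symm
  rw [← h2]
  exact ⟨hm, Subgroup.mem_centralizer_singleton_iff.2 (mul_inv_eq_iff_eq_mul.1 hmc)⟩

theorem Conf.exists_notMem (h : Conf M₁ M₂ V₁ V₂ T C) (a b : G) : ∃ x ∈ C, x ≠ a ∧ x ≠ b := by
  classical
  have hf : Fintype G := Fintype.ofFinite G
  have h1 : ({a, b} : Finset G).card < (Finset.univ.filter fun x : G => x ∈ C).card := by
    have h2 : (Finset.univ.filter fun x : G => x ∈ C).card = 4 := by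
      rw [← h.cardC, Nat.card_eq_fintype_card, Fintype.card_subtype]
    rw [h2]
    exact lt_of_le_of_lt (Finset.card_le_two) (by norm_num)
  obtain ⟨x, hx, hx2⟩ := Finset.exists_mem_notMem_of_card_lt_card h1
  rw [Finset.mem_filter] at hx
  simp only [Finset.mem_insert, Finset.mem_singleton, not_or] at hx2
  exact ⟨x, hx.2, hx2.1, hx2.2⟩

theorem Conf.four (h : Conf M₁ M₂ V₁ V₂ T C) {a b x : G} (ha : a ∈ C) (hb : b ∈ C) (hx : x ∈ C)
    (ha1 : a ≠ 1) (hb1 : b ≠ 1) (hab : a ≠ b) : x = 1 ∨ x = a ∨ x = b ∨ x = a * b := by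
  refine mem_four h.cardC ha hb hx ha1 hb1 hab fun h2 => hab ?_
  have h3 : b⁻¹ = b := inv_eq_of_mul_eq_one_left (h.sq_C hb)
  rw [← h3]
  exact eq_inv_of_mul_eq_one_left h2

theorem Conf.prod_ne_one (h : Conf M₁ M₂ V₁ V₂ T C) {a b : G} (hb : b ∈ C) (hab : a ≠ b) :
    a * b ≠ 1 := by
  intro h2
  apply hab
  have h3 : b⁻¹ = b := inv_eq_of_mul_eq_one_left (h.sq_C hb)
  rw [← h3]
  exact eq_inv_of_mul_eq_one_left h2

theorem conj_eq_one {g x : G} (h : g * x * g⁻¹ = 1) : x = 1 := by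
  have h1 : g * x = g := by rw [mul_inv_eq_one] at h; exact h
  exact mul_eq_left.1 h1

theorem conj_ne_one {g x : G} (h : x ≠ 1) : g * x * g⁻¹ ≠ 1 := fun h1 => h (conj_eq_one h1)

theorem conj_inj {g x y : G} (h : g * x * g⁻¹ = g * y * g⁻¹) : x = y :=
  mul_left_cancel (mul_right_cancel h)

theorem conj_mul' (g x y : G) : g * (x * y) * g⁻¹ = (g * x * g⁻¹) * (g * y * g⁻¹) := by group

theorem conj_conj (g k x : G) : (g * k) * x * (g * k)⁻¹ = g * (k * x * k⁻¹) * g⁻¹ := by group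

/-- an element of order three in `N_{M₁}(T)`, permuting `C#` in a cycle -/
theorem Conf.exists_three (h : Conf M₁ M₂ V₁ V₂ T C) (hG : IsCIT G) :
    ∃ d ∈ M₁, orderOf d = 3 ∧ (∀ t ∈ T, d * t * d⁻¹ ∈ T) := by
  obtain ⟨a, ha, ha1, -⟩ := h.exists_notMem 1 1
  obtain ⟨b, hb, hb1, hba⟩ := h.exists_notMem 1 a
  have haV := ((h.memC a).1 ha).1
  have hbV := ((h.memC b).1 hb).1
  obtain ⟨m, hm, hmab⟩ := h.trans₁ a haV ha1 b hbV hb1
  have hmC := h.spread m hm ⟨a, ha, ha1, by rw [hmab]; exact hb⟩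
  have hmT := h.normalizes m hm hmC
  -- `m` permutes `a → b → ab → a`
  have hcomm : a * b = b * a := h.elem₁.comm haV hbV
  have habC : a * b ∈ C := C.mul_mem ha hb
  have h1 : m * b * m⁻¹ = a * b := by
    have h2 : m * b * m⁻¹ ∈ C := hmC b hb
    rcases h.four ha hb h2 ha1 hb1 (Ne.symm hba) with h3 | h3 | h3 | h3
    · exact absurd h3 (conj_ne_one hb1)
    · -- then `m` centralises `a * b`
      exfalso
      have h4 : m * (a * b) * m⁻¹ = a * b := by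
        rw [conj_mul', hmab, h3, hcomm]
      have h5 : m ∈ T := h.mem_T_of_comm hG habC (h.prod_ne_one hb (Ne.symm hba)) hm h4
      have h6 := h.cent a ha m h5
      have h7 : m * a * m⁻¹ = a := by rw [← h6]; group
      rw [h7] at hmab
      exact hba hmab.symm
    · exfalso
      exact hba (conj_inj (h3.trans hmab.symm))
    · exact h3
  have h2 : m * (a * b) * m⁻¹ = a := by
    rw [conj_mul', hmab, h1, hcomm, ← mul_assoc, h.sq_C hb, one_mul]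
  have h3 : m ^ 3 ∈ T := by
    refine h.mem_T_of_comm hG ha ha1 (M₁.pow_mem hm 3) ?_
    calc m ^ 3 * a * (m ^ 3)⁻¹ = m * (m * (m * a * m⁻¹) * m⁻¹) * m⁻¹ := by
          rw [pow_three]; group
      _ = a := by rw [hmab, h1, h2]
  have h4 : m ∉ T := by
    intro h5
    have h6 := h.cent a ha m h5
    have h7 : m * a * m⁻¹ = a := by rw [← h6]; group
    rw [h7] at hmab
    exact hba hmab.symm
  have h5 : 3 ∣ orderOf m := by
    by_contra h6
    obtain ⟨j, hj⟩ := exists_pow_eq_self_of_coprime (x := m) (n := 3)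
      ((Nat.Prime.coprime_iff_not_dvd Nat.prime_three).2 h6)
    exact h4 (hj ▸ T.pow_mem h3 j)
  have h6 : ∀ n : ℕ, ∀ t ∈ T, m ^ n * t * (m ^ n)⁻¹ ∈ T := by
    intro n
    induction n with
    | zero => intro t ht; simpa using ht
    | succ n ih =>
      intro t ht
      rw [pow_succ', conj_conj]
      exact hmT _ (ih t ht)
  exact ⟨m ^ (orderOf m / 3), M₁.pow_mem hm _,
    orderOf_pow_orderOf_div (orderOf_pos m).ne' h5, h6 _⟩

theorem fpf' (hG : IsCIT G) {Y : Subgroup G} (hY : IsPGroup 2 Y) {d x : G} (hd : orderOf d = 3)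
    (hx : x ∈ Y) (hc : d * x = x * d) : x = 1 := by
  obtain ⟨k, hk⟩ := hY ⟨x, hx⟩
  refine fpf hG hd (k := k) ?_ hc
  have := congrArg Subtype.val hk
  simpa using this

/-- the elements of the coset `T d` are the `T`-conjugates of `d` -/
theorem Conf.exists_conj (h : Conf M₁ M₂ V₁ V₂ T C) (hG : IsCIT G) {d : G} (hd : orderOf d = 3)
    (hdT : ∀ t ∈ T, d * t * d⁻¹ ∈ T) (t : G) (ht : t ∈ T) : ∃ u ∈ T, u * d * u⁻¹ = t * d := by
  let f : T → T := fun u => ⟨u * (d * (u : G)⁻¹ * d⁻¹), T.mul_mem u.2 (hdT _ (T.inv_mem u.2))⟩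
  have hf : Function.Injective f := by
    intro u w huw
    have h1 : (u : G) * (d * (u : G)⁻¹ * d⁻¹) = w * (d * (w : G)⁻¹ * d⁻¹) := congrArg Subtype.val huw
    have h2 : (u : G) * d * (u : G)⁻¹ = w * d * (w : G)⁻¹ := by
      have h3 := congrArg (· * d) h1
      simpa [mul_assoc] using h3
    have h3 : d * ((w : G)⁻¹ * u) = (w : G)⁻¹ * u * d := by
      have h4 : (w : G)⁻¹ * ((u : G) * d * (u : G)⁻¹) * u = (w : G)⁻¹ * (w * d * (w : G)⁻¹) * u := by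
        rw [h2]
      calc d * ((w : G)⁻¹ * u) = (w : G)⁻¹ * (w * d * (w : G)⁻¹) * u := by group
        _ = (w : G)⁻¹ * ((u : G) * d * (u : G)⁻¹) * u := h4.symm
        _ = (w : G)⁻¹ * u * d := by group
    have h4 := fpf' hG h.T2 hd (T.mul_mem (T.inv_mem w.2) u.2) h3
    exact Subtype.ext (inv_mul_eq_one.1 h4).symm
  obtain ⟨u, hu⟩ := (Finite.injective_iff_surjective.1 hf) ⟨t, ht⟩
  refine ⟨u, u.2, ?_⟩
  have h1 : (u : G) * (d * (u : G)⁻¹ * d⁻¹) = t := congrArg Subtype.val hu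
  rw [← h1]
  group

/-- if `T` is not a Sylow 2-subgroup of `G` then there is an involution normalising `T`, acting
nontrivially on `C` -/
theorem Conf.exists_invol (h : Conf M₁ M₂ V₁ V₂ T C) (hG : IsCIT G) {Y : Subgroup G}
    (hY : IsPGroup 2 Y) (hTY : T ≤ Y) (hne : Y ≠ T) :
    ∃ g ∈ Y, g ∉ T ∧ (∀ t ∈ T, g * t * g⁻¹ ∈ T) ∧ g * g = 1 ∧ ∃ c ∈ C, g * c * g⁻¹ ≠ c := by
  obtain ⟨s, hsY, hsT, hs⟩ := exists_normalizing hY hTY hne
  obtain ⟨d, hdM, hd3, hdT⟩ := h.exists_three hG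
  have hdC := h.char d hdT
  have hd1 : d ^ 3 = 1 := by rw [← hd3]; exact pow_orderOf_eq_one d
  obtain ⟨hs1, hs2⟩ := h.swap hY hTY hsY hs hsT
  have c12 : Nat.card V₂ ≤ Nat.card V₁ := by rw [h.card₁, h.card₂]
  have c21 : Nat.card V₁ ≤ Nat.card V₂ := by rw [h.card₁, h.card₂]
  -- `d` normalises `V₂`
  have hdV : ∀ v ∈ V₂, d * v * d⁻¹ ∈ V₂ := by
    rcases h.maps hdT h.le₂ h.elem₂ with h1 | h1
    · exfalso
      apply h.ne'
      intro v hv
      exact (conj_mem_iff le_rfl (h.norm₁ d hdM) v).1 (h1 v hv)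
    · exact h1
  -- `e = s d s⁻¹` lies in `M₁`
  set e : G := s * d * s⁻¹ with he
  have he3 : orderOf e = 3 := by
    have := MulEquiv.orderOf_eq (MulAut.conj s) d
    rw [MulAut.conj_apply] at this
    rw [he, this, hd3]
  have heM : e ∈ M₁ := by
    apply h.mem₁
    intro v hv
    obtain ⟨w, rfl⟩ : ∃ w, v = s * w * s⁻¹ := ⟨s⁻¹ * v * s, by group⟩
    have hw : w ∈ V₂ := (conj_mem_iff c21 hs2 w).1 hv
    have h1 := hs2 _ (hdV w hw)
    rw [he]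
    convert h1 using 1
    group
  have heT : ∀ t ∈ T, e * t * e⁻¹ ∈ T := by
    intro t ht
    obtain ⟨w, rfl⟩ : ∃ w, t = s * w * s⁻¹ := ⟨s⁻¹ * t * s, by group⟩
    have hw : w ∈ T := (conj_mem_iff le_rfl hs w).1 ht
    have h1 := hs _ (hdT w hw)
    rw [he]
    convert h1 using 1
    group
  have heC := h.char e heT
  obtain ⟨a, ha, ha1, -⟩ := h.exists_notMem 1 1
  set b := d * a * d⁻¹ with hb
  have hbC : b ∈ C := hdC a ha
  have hb1 : b ≠ 1 := conj_ne_one ha1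
  have hnofix : ∀ f : G, orderOf f = 3 → ∀ c ∈ C, f * c * f⁻¹ = c → c = 1 := by
    intro f hf c hc hfc
    exact fpf' hG h.T2 hf (h.C_le hc) (mul_inv_eq_iff_eq_mul.1 hfc)
  have hab : a ≠ b := fun h1 => ha1 (hnofix d hd3 a ha h1.symm)
  have hc' : d * b * d⁻¹ ∈ C := hdC b hbC
  have hc : d * b * d⁻¹ = a * b := by
    rcases h.four ha hbC hc' ha1 hb1 hab with h3 | h3 | h3 | h3
    · exact absurd h3 (conj_ne_one hb1)
    · exfalso
      -- d² a d⁻² = a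
      have h4 : d ^ 2 * a * (d ^ 2)⁻¹ = a := by
        rw [pow_two, conj_conj, ← hb, h3]
      have h5 : orderOf (d ^ 2) = 3 := by
        rw [Nat.Coprime.orderOf_pow, hd3]
        rw [hd3]; norm_num
      exact ha1 (hnofix _ h5 a ha h4)
    · exact absurd (hnofix d hd3 b hbC h3) hb1
    · exact h3
  have hx : e * a * e⁻¹ ∈ C := heC a ha
  have hkey : ∃ f, orderOf f = 3 ∧ (∀ t ∈ T, f * t * f⁻¹ ∈ T) ∧ (f = d ∨ f = d⁻¹) ∧
      ∃ t ∈ T, e = t * f := by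
    rcases h.four ha hbC hx ha1 hb1 hab with h3 | h3 | h3 | h3
    · exact absurd h3 (conj_ne_one ha1)
    · exact absurd (hnofix e he3 a ha h3) ha1
    · refine ⟨d, hd3, hdT, Or.inl rfl, ?_⟩
      have h4 : d⁻¹ * e ∈ T := by
        refine h.mem_T_of_comm hG ha ha1 (M₁.mul_mem (M₁.inv_mem hdM) heM) ?_
        rw [conj_conj, h3, hb]
        group
      refine ⟨d * (d⁻¹ * e) * d⁻¹, hdT _ h4, by group⟩
    · have hdi : ∀ t ∈ T, d⁻¹ * t * d⁻¹⁻¹ ∈ T := by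
        intro t ht
        refine (conj_mem_iff le_rfl hdT _).1 ?_
        convert ht using 1
        group
      refine ⟨d⁻¹, by rw [orderOf_inv, hd3], hdi, Or.inr rfl, ?_⟩
      have h4 : d * e ∈ T := by
        refine h.mem_T_of_comm hG ha ha1 (M₁.mul_mem hdM heM) ?_
        rw [conj_conj, h3, conj_mul', ← hb, hc]
        have h5 : b * (a * b) = a := by
          rw [h.cent a ha b (h.C_le hbC), ← mul_assoc, h.sq_C hbC, one_mul]
        exact h5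
      refine ⟨d⁻¹ * (d * e) * d⁻¹⁻¹, hdi _ h4, by group⟩
  obtain ⟨f, hf3, hfT, hfd, t, ht, het⟩ := hkey
  obtain ⟨u, hu, hut⟩ := h.exists_conj hG hf3 hfT t ht
  -- `g = u⁻¹ s` maps `d` to `f`
  have hgd : (u⁻¹ * s) * d * (u⁻¹ * s)⁻¹ = f := by
    rw [conj_conj, ← he, het, ← hut]
    group
  have hgY : u⁻¹ * s ∈ Y := Y.mul_mem (Y.inv_mem (hTY hu)) hsY
  have hgT : u⁻¹ * s ∉ T := fun h1 => hsT ((T.mul_mem_cancel_left (T.inv_mem hu)).1 h1)
  have hgn : ∀ t ∈ T, (u⁻¹ * s) * t * (u⁻¹ * s)⁻¹ ∈ T := by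
    intro t ht
    rw [conj_conj]
    exact T.mul_mem (T.mul_mem (T.inv_mem hu) (hs t ht)) (T.inv_mem (T.inv_mem hu))
  set g := u⁻¹ * s with hg
  have hgf : f = d⁻¹ := by
    rcases hfd with h1 | h1
    · exfalso
      rw [h1] at hgd
      have h2 := fpf' hG hY hd3 hgY (mul_inv_eq_iff_eq_mul.1 hgd).symm
      rw [h2] at hgT
      exact hgT T.one_mem
    · exact h1
  rw [hgf] at hgd
  refine ⟨g, hgY, hgT, hgn, ?_, ?_⟩
  · refine fpf' hG hY hd3 (Y.mul_mem hgY hgY) ?_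
    have h1 : (g * g) * d * (g * g)⁻¹ = d := by
      rw [conj_conj, hgd]
      have h2 : g * d⁻¹ * g⁻¹ = (g * d * g⁻¹)⁻¹ := by group
      rw [h2, hgd, inv_inv]
    exact (mul_inv_eq_iff_eq_mul.1 h1).symm
  · by_contra hcon
    push Not at hcon
    have h1 := hcon a ha
    have h2 := hcon b hbC
    have h3 : d * b * d⁻¹ = a := by
      calc d * b * d⁻¹ = d * (g * b * g⁻¹) * d⁻¹ := by rw [h2]
        _ = d * ((g * d * g⁻¹) * (g * a * g⁻¹) * (g * d * g⁻¹)⁻¹) * d⁻¹ := by rw [hb]; group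
        _ = d * (d⁻¹ * a * d⁻¹⁻¹) * d⁻¹ := by rw [hgd, h1]
        _ = a := by group
    rw [hc] at h3
    exact hb1 (mul_eq_left.1 h3)

/-! ## The 2-group `S = T ∪ g T` -/

/-- the subgroup `T ∪ g T` -/
def bigS (T : Subgroup G) (g : G) (hn : ∀ t ∈ T, g * t * g⁻¹ ∈ T) (h2 : g * g = 1) : Subgroup G where
  carrier := {x | x ∈ T ∨ g * x ∈ T}
  one_mem' := Or.inl T.one_mem
  mul_mem' := by
    have hg : g⁻¹ = g := inv_eq_of_mul_eq_one_left h2
    rintro x y (hx | hx) (hy | hy)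
    · exact Or.inl (T.mul_mem hx hy)
    · refine Or.inr ?_
      have : g * (x * y) = (g * x * g⁻¹) * (g * y) := by group
      rw [this]
      exact T.mul_mem (hn x hx) hy
    · refine Or.inr ?_
      rw [← mul_assoc]
      exact T.mul_mem hx hy
    · refine Or.inl ?_
      have h3 : x * y = (g * (g * x) * g⁻¹) * (g * y) := by
        rw [← mul_assoc g g x, h2]; group
      rw [h3]
      exact T.mul_mem (hn _ hx) hy
  inv_mem' := by
    have hg : g⁻¹ = g := inv_eq_of_mul_eq_one_left h2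
    rintro x (hx | hx)
    · exact Or.inl (T.inv_mem hx)
    · refine Or.inr ?_
      have h3 : g * x⁻¹ = g * (g * x)⁻¹ * g⁻¹ := by
        calc g * x⁻¹ = g * x⁻¹ * (g * g)⁻¹ := by rw [h2, inv_one, mul_one]
          _ = g * (g * x)⁻¹ * g⁻¹ := by group
      rw [h3]
      exact hn _ (T.inv_mem hx)

theorem mem_bigS {T : Subgroup G} {g : G} {hn : ∀ t ∈ T, g * t * g⁻¹ ∈ T} {h2 : g * g = 1} {x : G} :
    x ∈ bigS T g hn h2 ↔ x ∈ T ∨ g * x ∈ T := Iff.rfl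

theorem T_le_bigS {T : Subgroup G} {g : G} {hn : ∀ t ∈ T, g * t * g⁻¹ ∈ T} {h2 : g * g = 1} :
    T ≤ bigS T g hn h2 := fun _ hx => Or.inl hx

theorem g_mem_bigS {T : Subgroup G} {g : G} {hn : ∀ t ∈ T, g * t * g⁻¹ ∈ T} {h2 : g * g = 1} :
    g ∈ bigS T g hn h2 := Or.inr (by rw [h2]; exact T.one_mem)

theorem bigS_le {T : Subgroup G} {g : G} {hn : ∀ t ∈ T, g * t * g⁻¹ ∈ T} {h2 : g * g = 1}
    {Y : Subgroup G} (hTY : T ≤ Y) (hg : g ∈ Y) : bigS T g hn h2 ≤ Y := by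
  rintro x (hx | hx)
  · exact hTY hx
  · exact (Y.mul_mem_cancel_left hg).1 (hTY hx)

theorem bigS_mul {T : Subgroup G} {g : G} {hn : ∀ t ∈ T, g * t * g⁻¹ ∈ T} {h2 : g * g = 1} {x y : G}
    (hx : x ∈ bigS T g hn h2) (hy : y ∈ bigS T g hn h2) (hxT : x ∉ T) (hyT : y ∉ T) :
    x * y ∈ T := by
  have hx' := hx.resolve_left hxT
  have hy' := hy.resolve_left hyT
  have h3 : x * y = (g * (g * x) * g⁻¹) * (g * y) := by
    rw [← mul_assoc g g x, h2]; group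
  rw [h3]
  exact T.mul_mem (hn _ hx') hy'

theorem bigS_normalizes {T : Subgroup G} {g : G} {hn : ∀ t ∈ T, g * t * g⁻¹ ∈ T} {h2 : g * g = 1}
    {x : G} (hx : x ∈ bigS T g hn h2) : ∀ t ∈ T, x * t * x⁻¹ ∈ T := by
  intro t ht
  rcases hx with hx | hx
  · exact T.mul_mem (T.mul_mem hx ht) (T.inv_mem hx)
  · have h3 : x * t * x⁻¹ = g * ((g * x) * t * (g * x)⁻¹) * g⁻¹ := by
      rw [← conj_conj, ← mul_assoc, h2, one_mul]
    rw [h3]
    exact hn _ (T.mul_mem (T.mul_mem hx ht) (T.inv_mem hx))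

/-- elementary abelian subgroups of order 16 of `S` lie in `T` -/
theorem Conf.elem_le (h : Conf M₁ M₂ V₁ V₂ T C) {Y : Subgroup G} (hY : IsPGroup 2 Y)
    (hTY : T ≤ Y) {g : G} (hgY : g ∈ Y) (hn : ∀ t ∈ T, g * t * g⁻¹ ∈ T)
    (h2 : g * g = 1) {E : Subgroup G} (hE : E ≤ bigS T g hn h2) (he : Elem E)
    (hc : Nat.card E = 16) : E ≤ T := by
  by_contra hET
  obtain ⟨x, hxE, hxT⟩ := SetLike.not_le_iff_exists.1 hET
  obtain ⟨hx1, hx2⟩ := h.swap hY hTY (bigS_le hTY hgY (hE hxE)) (bigS_normalizes (hE hxE)) hxT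
  have h3 : E ⊓ T ≤ C := by
    rintro e ⟨heE, heT⟩
    have h4 : x * e * x⁻¹ = e := by
      rw [he.comm hxE heE]; group
    rw [h.memC]
    rcases h.inv e heT (he e heE) with h5 | h5
    · exact ⟨h5, by rw [← h4]; exact hx1 e h5⟩
    · exact ⟨by rw [← h4]; exact hx2 e h5, h5⟩
  have h4 := Subgroup.card_le_of_le h3
  rw [h.cardC] at h4
  have h5 : (E ⊓ T).relIndex E = 2 := by
    rw [Subgroup.relIndex_eq_two_iff]
    refine ⟨x, hxE, fun b hb => ?_⟩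
    by_cases hbT : b ∈ T
    · refine Or.inr ⟨⟨hb, hbT⟩, fun h6 => hxT ?_⟩
      exact (T.mul_mem_cancel_left hbT).1 h6.2
    · exact Or.inl ⟨⟨E.mul_mem hb hxE, bigS_mul (hE hb) (hE hxE) hbT hxT⟩, fun h6 => hbT h6.2⟩
  have h6 := Subgroup.relIndex_mul_relIndex (⊥ : Subgroup G) (E ⊓ T) E bot_le inf_le_left
  rw [h5, Subgroup.relIndex_bot_left, Subgroup.relIndex_bot_left, hc] at h6
  omega

/-- `S` is a maximal 2-subgroup of `G` -/
theorem Conf.sylow (h : Conf M₁ M₂ V₁ V₂ T C) {Y : Subgroup G} (hY : IsPGroup 2 Y)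
    (hTY : T ≤ Y) {g : G} (hgY : g ∈ Y) (hgT : g ∉ T) (hn : ∀ t ∈ T, g * t * g⁻¹ ∈ T)
    (h2 : g * g = 1) {Z : Subgroup G} (hZ : IsPGroup 2 Z) (hSZ : bigS T g hn h2 ≤ Z) :
    Z = bigS T g hn h2 := by
  by_contra hne
  obtain ⟨s, hsZ, hsS, hs⟩ := exists_normalizing hZ hSZ hne
  have hTZ : T ≤ Z := T_le_bigS.trans hSZ
  have key : ∀ V : Subgroup G, V ≤ T → Elem V → Nat.card V = 16 → ∀ v ∈ V, s * v * s⁻¹ ∈ T := by
    intro V hV he hc v hv
    have h3 : V.map (MulAut.conj s).toMonoidHom ≤ T := by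
      refine h.elem_le hY hTY hgY hn h2 ?_ ?_ ?_
      · rintro _ ⟨w, hw, rfl⟩
        exact hs w (T_le_bigS (hV hw))
      · rintro _ ⟨w, hw, rfl⟩
        show s * w * s⁻¹ * (s * w * s⁻¹) = 1
        calc s * w * s⁻¹ * (s * w * s⁻¹) = s * (w * w) * s⁻¹ := by group
          _ = 1 := by rw [he w hw]; group
      · rw [Subgroup.card_map_of_injective (MulAut.conj s).injective, hc]
    exact h3 ⟨v, hv, rfl⟩
  have hsT : ∀ t ∈ T, s * t * s⁻¹ ∈ T := by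
    have h3 : T ≤ T.comap (MulAut.conj s).toMonoidHom :=
      h.sup _ (fun v hv => key V₁ h.le₁ h.elem₁ h.card₁ v hv)
        (fun v hv => key V₂ h.le₂ h.elem₂ h.card₂ v hv)
    exact fun t ht => h3 ht
  have hsT' : s ∉ T := fun h3 => hsS (T_le_bigS h3)
  obtain ⟨hs1, hs2⟩ := h.swap hZ hTZ hsZ hsT hsT'
  obtain ⟨hg1, hg2⟩ := h.swap hY hTY hgY hn hgT
  have h3 : g * s ∈ T := by
    refine h.mem_of_norm₁ hZ hTZ (Z.mul_mem (hSZ g_mem_bigS) hsZ) fun v hv => ?_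
    rw [conj_conj]
    exact hg2 _ (hs1 v hv)
  exact hsS (Or.inr h3)

/-- The key elements: `k ∈ C#` commuting with `g`, and `y ∈ G` commuting with `g` with `y² = k`. -/
theorem Conf.exists_root (h : Conf M₁ M₂ V₁ V₂ T C) {Y : Subgroup G} (hY : IsPGroup 2 Y)
    (hTY : T ≤ Y) {g : G} (hgY : g ∈ Y) (hgT : g ∉ T) (hn : ∀ t ∈ T, g * t * g⁻¹ ∈ T)
    (h2 : g * g = 1) (hgC : ∃ c ∈ C, g * c * g⁻¹ ≠ c) :
    ∃ k ∈ C, k ≠ 1 ∧ g * k * g⁻¹ = k ∧ ∃ y, y * y = k ∧ g * y * g⁻¹ = y := by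
  obtain ⟨hg1, hg2⟩ := h.swap hY hTY hgY hn hgT
  obtain ⟨v, hv, hv2⟩ := SetLike.not_le_iff_exists.1 h.ne
  set w := g * v * g⁻¹ with hw
  have hwV : w ∈ V₂ := hg1 v hv
  have hgw : g * w * g⁻¹ = v := by
    rw [hw, ← conj_conj, h2]; group
  have hvv : v * v = 1 := h.elem₁ v hv
  have hww : w * w = 1 := h.elem₂ w hwV
  have hvi : v⁻¹ = v := inv_eq_of_mul_eq_one_left hvv
  have hwi : w⁻¹ = w := inv_eq_of_mul_eq_one_left hww
  set k := v * w * v⁻¹ * w⁻¹ with hk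
  have hkC : k ∈ C := h.comm v hv w hwV
  have hk1 : k ≠ 1 := by
    intro h3
    have h4 : v * w = w * v := by
      rw [hk, mul_inv_eq_one, mul_inv_eq_iff_eq_mul] at h3
      exact h3
    have h5 := h.ncomm v hv hv2 w hwV h4
    have h6 : v ∈ C := by
      rw [← hgw]
      exact h.char g hn w h5
    exact hv2 ((h.memC v).1 h6).2
  have hkk : k * k = 1 := h.sq_C hkC
  have hki : k⁻¹ = k := inv_eq_of_mul_eq_one_left hkk
  have hgk : g * k * g⁻¹ = k := by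
    calc g * k * g⁻¹ = (g * v * g⁻¹) * (g * w * g⁻¹) * (g * v * g⁻¹)⁻¹ * (g * w * g⁻¹)⁻¹ := by
          rw [hk]; group
      _ = w * v * w⁻¹ * v⁻¹ := by rw [← hw, hgw]
      _ = k⁻¹ := by rw [hk]; group
      _ = k := hki
  obtain ⟨c, hcC, hgc⟩ := hgC
  have hcT := h.C_le hcC
  have hgcC : g * c * g⁻¹ ∈ C := h.char g hn c hcC
  have hcc : c * c = 1 := h.sq_C hcC
  have hci : c⁻¹ = c := inv_eq_of_mul_eq_one_left hcc
  have heq : c * (g * c * g⁻¹) = k := by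
    by_contra hne
    set e := c * (g * c * g⁻¹) with he
    have heC : e ∈ C := C.mul_mem hcC hgcC
    have he1 : e ≠ 1 := h.prod_ne_one hgcC (Ne.symm hgc)
    have hge : g * e * g⁻¹ = e := by
      rw [he, conj_mul', ← conj_conj g g, h2]
      rw [one_mul, inv_one, mul_one]
      exact h.cent _ hgcC c hcT
    rcases h.four heC hkC hcC he1 hk1 hne with h3 | h3 | h3 | h3
    · rw [h3] at hgc
      exact hgc (by group)
    · rw [h3] at hgc
      exact hgc hge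
    · rw [h3] at hgc
      exact hgc hgk
    · rw [h3] at hgc
      exact hgc (by rw [conj_mul', hge, hgk])
  have hgc2 : g * c * g⁻¹ = c * k := by
    rw [← heq, ← mul_assoc, hcc, one_mul]
  have hvT := h.le₁ hv
  have hwT := h.le₂ hwV
  have hkwv : k * (w * v) = v * w := by
    rw [hk]; group
  refine ⟨k, hkC, hk1, hgk, v * w * c, ?_, ?_⟩
  · have e1 : v * w * c * (v * w * c) = v * w * (v * w) * (c * c) := by
      rw [mul_assoc (v * w) c (v * w * c), ← mul_assoc c (v * w) c,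
        h.cent c hcC (v * w) (T.mul_mem hvT hwT), mul_assoc (v * w) c c, ← mul_assoc]
    rw [e1, hcc, mul_one]
    have e2 : k = v * w * v * w := by rw [hk, hvi, hwi]
    rw [e2]; group
  · calc g * (v * w * c) * g⁻¹ = (g * v * g⁻¹) * (g * w * g⁻¹) * (g * c * g⁻¹) := by group
      _ = w * v * (c * k) := by rw [← hw, hgw, hgc2]
      _ = w * v * (k * c) := by rw [h.cent c hcC k (h.C_le hkC)]
      _ = (w * v) * k * c := by group
      _ = k * (w * v) * c := by rw [h.cent k hkC (w * v) (T.mul_mem hwT hvT)]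
      _ = v * w * c := by rw [hkwv]

/-- `g` is not conjugate to an element of `T` -/
theorem Conf.not_conj (h : Conf M₁ M₂ V₁ V₂ T C) (hG : IsCIT G) {Y : Subgroup G}
    (hY : IsPGroup 2 Y) (hTY : T ≤ Y) {g : G} (hgY : g ∈ Y) (hgT : g ∉ T)
    (hn : ∀ t ∈ T, g * t * g⁻¹ ∈ T) (h2 : g * g = 1) (hgC : ∃ c ∈ C, g * c * g⁻¹ ≠ c) (x : G) :
    x * g * x⁻¹ ∉ T := by
  intro hx
  have hg1 : g ≠ 1 := fun h3 => hgT (h3 ▸ T.one_mem)
  obtain ⟨k, hkC, hk1, hgk, y, hyk, hgy⟩ := h.exists_root hY hTY hgY hgT hn h2 hgC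
  -- `C_G(k) = S`
  have hcS : Subgroup.centralizer ({k} : Set G) = bigS T g hn h2 := by
    refine h.sylow hY hTY hgY hgT hn h2 (hG k (orderOf_eq_two (h.sq_C hkC) hk1)) ?_
    refine bigS_le (fun t ht => ?_) ?_
    · rw [Subgroup.mem_centralizer_singleton_iff]
      exact (h.cent k hkC t ht).symm
    · rw [Subgroup.mem_centralizer_singleton_iff]
      exact mul_inv_eq_iff_eq_mul.1 hgk
  have hcent : ∀ z : G, z * k * z⁻¹ = k → z ∈ bigS T g hn h2 := by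
    intro z hz
    rw [← hcS, Subgroup.mem_centralizer_singleton_iff]
    exact mul_inv_eq_iff_eq_mul.1 hz
  -- `g` is conjugate to `k`
  obtain ⟨x', hx'⟩ : ∃ x', x' * g * x'⁻¹ = k := by
    have h3 : x * g * x⁻¹ * (x * g * x⁻¹) = 1 := by
      calc x * g * x⁻¹ * (x * g * x⁻¹) = x * (g * g) * x⁻¹ := by group
        _ = 1 := by rw [h2]; group
    rcases h.inv _ hx h3 with h4 | h4
    · obtain ⟨m, -, hm⟩ := h.trans₁ _ h4 (conj_ne_one hg1) k ((h.memC k).1 hkC).1 hk1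
      exact ⟨m * x, by rw [conj_conj, hm]⟩
    · obtain ⟨m, -, hm⟩ := h.trans₂ _ h4 (conj_ne_one hg1) k ((h.memC k).1 hkC).2 hk1
      exact ⟨m * x, by rw [conj_conj, hm]⟩
  -- `y' = x' y x'⁻¹ ∈ S`
  have hyS : x' * y * x'⁻¹ ∈ bigS T g hn h2 := by
    apply hcent
    have h3 : y * g * y⁻¹ = g := by
      have h4 : g * y = y * g := mul_inv_eq_iff_eq_mul.1 hgy
      rw [← h4]; group
    calc x' * y * x'⁻¹ * k * (x' * y * x'⁻¹)⁻¹
        = x' * y * x'⁻¹ * (x' * g * x'⁻¹) * (x' * y * x'⁻¹)⁻¹ := by rw [hx']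
      _ = x' * (y * g * y⁻¹) * x'⁻¹ := by group
      _ = k := by rw [h3, hx']
  have hkT : x' * k * x'⁻¹ ∈ T := by
    have h3 : x' * y * x'⁻¹ * (x' * y * x'⁻¹) = x' * k * x'⁻¹ := by
      rw [← hyk]; group
    rw [← h3]
    by_cases h4 : x' * y * x'⁻¹ ∈ T
    · exact T.mul_mem h4 h4
    · exact bigS_mul hyS hyS h4 h4
  have h3 : x' * k * x'⁻¹ * (x' * k * x'⁻¹) = 1 := by
    calc x' * k * x'⁻¹ * (x' * k * x'⁻¹) = x' * (k * k) * x'⁻¹ := by group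
      _ = 1 := by rw [h.sq_C hkC]; group
  have key : ∀ V : Subgroup G, Elem V → Nat.card V = 16 → k ∈ V → x' * k * x'⁻¹ ∈ V → False := by
    intro V he hc hkV hk2
    have h4 : V.map (MulAut.conj x'⁻¹).toMonoidHom ≤ T := by
      refine h.elem_le hY hTY hgY hn h2 ?_ ?_ ?_
      · rintro _ ⟨v, hv, rfl⟩
        apply hcent
        show x'⁻¹ * v * x'⁻¹⁻¹ * k * (x'⁻¹ * v * x'⁻¹⁻¹)⁻¹ = k
        have h5 : v * (x' * k * x'⁻¹) * v⁻¹ = x' * k * x'⁻¹ := by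
          rw [he.comm hv hk2]; group
        calc x'⁻¹ * v * x'⁻¹⁻¹ * k * (x'⁻¹ * v * x'⁻¹⁻¹)⁻¹
            = x'⁻¹ * (v * (x' * k * x'⁻¹) * v⁻¹) * x' := by group
          _ = k := by rw [h5]; group
      · rintro _ ⟨w, hw, rfl⟩
        show x'⁻¹ * w * x'⁻¹⁻¹ * (x'⁻¹ * w * x'⁻¹⁻¹) = 1
        calc x'⁻¹ * w * x'⁻¹⁻¹ * (x'⁻¹ * w * x'⁻¹⁻¹) = x'⁻¹ * (w * w) * x'⁻¹⁻¹ := by group
          _ = 1 := by rw [he w hw]; group
      · rw [Subgroup.card_map_of_injective (MulAut.conj x'⁻¹).injective, hc]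
    apply hgT
    refine h4 ⟨k, hkV, ?_⟩
    show x'⁻¹ * k * x'⁻¹⁻¹ = g
    rw [← hx']; group
  rcases h.inv _ hkT h3 with h4 | h4
  · exact key V₁ h.elem₁ h.card₁ ((h.memC k).1 hkC).1 h4
  · exact key V₂ h.elem₂ h.card₂ ((h.memC k).1 hkC).2 h4

end conf

/-- **E4.** For `q = 4` the group `T` is a Sylow 2-subgroup of `G`. -/
theorem sylow_of_four [Finite G] [IsSimpleGroup G] (hG : IsCIT G) {M₁ M₂ V₁ V₂ T : Subgroup G}
    (h : Amal M₁ M₂ V₁ V₂ T 4) : IsSyl2 (⊤ : Subgroup G) T := by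
  have hC := conf_of_amal h
  refine ⟨le_top, hC.T2, fun Y _ hY hTY => ?_⟩
  by_contra hne
  obtain ⟨g, hgY, hgT, hn, h2, hgC⟩ := hC.exists_invol hG hY hTY hne
  have hS2 : IsPGroup 2 (bigS T g hn h2) := hY.to_le (bigS_le hTY hgY)
  let P : Sylow 2 G :=
    { toSubgroup := bigS T g hn h2
      isPGroup' := hS2
      is_maximal' := fun {Q} hQ hle => hC.sylow hY hTY hgY hgT hn h2 hQ hle }
  have hrel : T.relIndex (P : Subgroup G) = 2 := by
    rw [Subgroup.relIndex_eq_two_iff]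
    have hgS : g ∈ bigS T g hn h2 := g_mem_bigS
    refine ⟨g, hgS, fun b hb => ?_⟩
    by_cases hbT : b ∈ T
    · exact Or.inr ⟨hbT, fun h6 => hgT ((T.mul_mem_cancel_left hbT).1 h6)⟩
    · exact Or.inl ⟨bigS_mul (hn := hn) (h2 := h2) hb hgS hbT hgT, hbT⟩
  rcases Cfsg.Agent.Transfer.ThompsonTransfer.thompson_transfer P T
    (T_le_bigS (hn := hn) (h2 := h2)) hrel g
    (by rw [pow_two]; exact h2) with ⟨N, hN, hNi, -⟩ | ⟨x, hx⟩
  · rcases hN.eq_bot_or_eq_top with h3 | h3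
    · rw [h3, Subgroup.index_bot] at hNi
      have h4 := Subgroup.card_le_card_group T
      rw [hC.cardT, hNi] at h4
      omega
    · rw [h3, Subgroup.index_top] at hNi
      omega
  · exact hC.not_conj hG hY hTY hgY hgT hn h2 hgC x hx

end Cfsg.Agent.LieExceptional.CITSylowFour
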