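import Cfsg.Agent.LieExceptional.CITAmal
import Cfsg.Agent.LieExceptional.CITSylowFour
import Cfsg.Agent.LieExceptional.PlaneMap
import Cfsg.Agent.LieExceptional.PlaneFour
import Cfsg.Agent.LieExceptional.CITMain
import Cfsg.Agent.LieExceptional.CITGlobal
import Cfsg.Agent.LieExceptional.CITTorus
set_option linter.all false

-- part: LieExceptional/AmalBasic
section
/-!
# Incidence facts for the amalgam configuration of the CIT project

`B = M₁ ⊓ M₂ = N_{M₁}(C) = N_{M₂}(C)` with `C = V₁ ⊓ V₂`, `|Mᵢ : B| = q + 1`, and the plane data.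
-/

set_option autoImplicit false

namespace Cfsg.Agent.LieExceptional.AmalBasic

open Cfsg.Agent.LieExceptional.CITDefs Cfsg.Agent.LieExceptional.CITSylowFour
  Cfsg.Agent.LieExceptional.PlaneGeom

universe u

variable {G : Type u} [Group G] {M₁ M₂ V₁ V₂ T : Subgroup G} {q : ℕ}

theorem symm (h : Amal M₁ M₂ V₁ V₂ T q) : Amal M₂ M₁ V₂ V₁ T q where
  ff₁ := h.ff₂
  ff₂ := h.ff₁
  max₁ := h.max₂
  max₂ := h.max₁
  ne := h.ne.symm
  elem₁ := h.elem₂
  elem₂ := h.elem₁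
  sup := by rw [sup_comm]; exact h.sup
  inf := by rw [inf_comm]; exact h.inf
  inv := fun x hx hxx => (h.inv x hx hxx).symm
  card := h.card

theorem two_le (h : Amal M₁ M₂ V₁ V₂ T q) : 2 ≤ q := by
  obtain ⟨n, hn, rfl⟩ := h.ff₁.pow
  calc 2 = 2 ^ 1 := (pow_one 2).symm
    _ ≤ 2 ^ n := Nat.pow_le_pow_right (by norm_num) hn

theorem le₁ (h : Amal M₁ M₂ V₁ V₂ T q) : V₁ ≤ T := by
  rw [h.sup]
  exact le_sup_left

theorem le₂ (h : Amal M₁ M₂ V₁ V₂ T q) : V₂ ≤ T := le₁ (symm h)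

theorem omega₁ (h : Amal M₁ M₂ V₁ V₂ T q) : omegaZ V₁ = V₁ := omegaZ_of_elem h.elem₁

theorem card₁ (h : Amal M₁ M₂ V₁ V₂ T q) : Nat.card V₁ = q ^ 2 := by
  have := h.ff₁.card_V
  rwa [omega₁ h] at this

theorem ne_bot₁ (h : Amal M₁ M₂ V₁ V₂ T q) : V₁ ≠ ⊥ := by
  rintro rfl
  have h1 := card₁ h
  rw [Subgroup.card_bot] at h1
  have := two_le h
  nlinarith

/-- `M₁ = N_G(V₁)` -/
theorem mem_of_norm₁ [Finite G] (h : Amal M₁ M₂ V₁ V₂ T q) {g : G} (hg : ∀ v ∈ V₁, g * v * g⁻¹ ∈ V₁) : g ∈ M₁ :=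
  mem_of_isMaxLocal h.max₁ (ne_bot₁ h) h.ff₁.o2.two h.ff₁.o2.normal hg

/-- elements of `M₁` which are in `M₂` are those normalising `C` -/
theorem mem₂_iff [Finite G] (h : Amal M₁ M₂ V₁ V₂ T q) {m : G} (hm : m ∈ M₁) :
    m ∈ M₂ ↔ ∀ v ∈ omegaZ T, m * v * m⁻¹ ∈ omegaZ T := by
  constructor
  · intro hm2 v hv
    rw [← h.inf] at hv ⊢
    exact ⟨h.ff₁.o2.normal m hm v hv.1, h.ff₂.o2.normal m hm2 v hv.2⟩
  · intro hc
    have hT := h.ff₁.normalizes m hm hc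
    apply mem_of_norm₁ (symm h)
    intro x hx
    have h1 := hT x (le₂ h hx)
    have h2 : (m * x * m⁻¹) * (m * x * m⁻¹) = 1 := by
      have := h.elem₂ x hx
      calc (m * x * m⁻¹) * (m * x * m⁻¹) = m * (x * x) * m⁻¹ := by group
        _ = 1 := by rw [this]; group
    rcases h.inv _ h1 h2 with h3 | h3
    · have h4 : x ∈ V₁ := by
        have := h.ff₁.o2.normal m⁻¹ (M₁.inv_mem hm) _ h3
        have e : m⁻¹ * (m * x * m⁻¹) * m⁻¹⁻¹ = x := by group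
        rwa [e] at this
      have h5 : x ∈ omegaZ T := by
        rw [← h.inf]
        exact ⟨h4, hx⟩
      have h6 := hc x h5
      rw [← h.inf] at h6
      exact h6.2
    · exact h3

theorem mem₁_iff [Finite G] (h : Amal M₁ M₂ V₁ V₂ T q) {m : G} (hm : m ∈ M₂) :
    m ∈ M₁ ↔ ∀ v ∈ omegaZ T, m * v * m⁻¹ ∈ omegaZ T := mem₂_iff (symm h) hm

/-- the elements of `B` normalise `T` -/
theorem norm_T [Finite G] (h : Amal M₁ M₂ V₁ V₂ T q) {m : G} (hm1 : m ∈ M₁) (hm2 : m ∈ M₂) :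
    ∀ t ∈ T, m * t * m⁻¹ ∈ T :=
  h.ff₁.normalizes m hm1 ((mem₂_iff h hm1).1 hm2)

/-- 2-elements of `B` lie in `T` -/
theorem mem_T [Finite G] (h : Amal M₁ M₂ V₁ V₂ T q) {m : G} (hm1 : m ∈ M₁) (hm2 : m ∈ M₂) {k : ℕ}
    (hk : m ^ 2 ^ k = 1) : m ∈ T := by
  have hn := norm_T h hm1 hm2
  have h1 : Subgroup.zpowers m ≤ Subgroup.normalizer (T : Set G) := by
    rw [Subgroup.zpowers_le, Subgroup.mem_normalizer_iff]
    exact fun x => (CITSylowFour.conj_mem_iff le_rfl hn x).symm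
  have h2 : IsPGroup 2 (Subgroup.zpowers m) := by
    rintro ⟨x, hx⟩
    obtain ⟨j, rfl⟩ := Subgroup.mem_zpowers_iff.1 hx
    refine ⟨k, Subtype.ext ?_⟩
    show (m ^ j) ^ 2 ^ k = 1
    rw [← zpow_natCast, ← zpow_mul, mul_comm, zpow_mul, zpow_natCast, hk, one_zpow]
  have h3 : IsPGroup 2 (Subgroup.zpowers m ⊔ T : Subgroup G) :=
    IsPGroup.to_sup_of_normal_right' h2 h.ff₁.syl.two h1
  have h4 : Subgroup.zpowers m ⊔ T ≤ M₁ := sup_le (by rwa [Subgroup.zpowers_le]) h.ff₁.syl.le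
  have h5 := h.ff₁.syl.max _ h4 h3 le_sup_right
  rw [← h5]
  exact (le_sup_left : Subgroup.zpowers m ≤ _) (Subgroup.mem_zpowers m)

/-- `|M₁ : B| = q + 1` -/
theorem relIndex₁ [Finite G] (h : Amal M₁ M₂ V₁ V₂ T q) : M₂.relIndex M₁ = q + 1 := by
  classical
  have hq := two_le h
  let J := M₁ ⧸ M₂.subgroupOf M₁
  have hW : Nat.card (omegaZ T) = q := h.ff₁.card_C
  have hC₁ : omegaZ T ≤ V₁ := by
    rw [← h.inf]
    exact inf_le_left
  let f : J × {w : omegaZ T // w ≠ 1} → {v : V₁ // v ≠ 1} := fun c =>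
    ⟨⟨((c.1.out : M₁) : G) * (c.2.1 : G) * ((c.1.out : M₁) : G)⁻¹,
      h.ff₁.o2.normal _ (c.1.out : M₁).2 _ (hC₁ c.2.1.2)⟩, by
      intro h
      apply c.2.2
      have h1 : ((c.1.out : M₁) : G) * (c.2.1 : G) * ((c.1.out : M₁) : G)⁻¹ = 1 := congrArg Subtype.val h
      apply Subtype.ext
      exact conj_eq_one_iff.1 h1⟩
  have hinj : Function.Injective f := by
    rintro ⟨a, x⟩ ⟨b, y⟩ hab
    have h1 : ((a.out : M₁) : G) * (x.1 : G) * ((a.out : M₁) : G)⁻¹ =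
        ((b.out : M₁) : G) * (y.1 : G) * ((b.out : M₁) : G)⁻¹ :=
      congrArg (fun t : {v : V₁ // v ≠ 1} => ((t : V₁) : G)) hab
    have h2 : a = b := by
      rw [← Quotient.out_eq' a, ← Quotient.out_eq' b]
      symm
      apply Quotient.sound'
      rw [QuotientGroup.leftRel_apply, Subgroup.mem_subgroupOf]
      show ((b.out : M₁) : G)⁻¹ * ((a.out : M₁) : G) ∈ M₂
      have hm : ((b.out : M₁) : G)⁻¹ * ((a.out : M₁) : G) ∈ M₁ :=
        M₁.mul_mem (M₁.inv_mem (b.out : M₁).2) (a.out : M₁).2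
      rw [mem₂_iff h hm]
      refine h.ff₁.spread _ hm ⟨x.1, x.1.2, fun h => x.2 (Subtype.ext h), ?_⟩
      have h4 : ((b.out : M₁) : G)⁻¹ * ((a.out : M₁) : G) * (x.1 : G) * (((b.out : M₁) : G)⁻¹ * ((a.out : M₁) : G))⁻¹ =
          y.1 := by
        calc ((b.out : M₁) : G)⁻¹ * ((a.out : M₁) : G) * (x.1 : G) * (((b.out : M₁) : G)⁻¹ * ((a.out : M₁) : G))⁻¹
            = ((b.out : M₁) : G)⁻¹ * (((a.out : M₁) : G) * (x.1 : G) * ((a.out : M₁) : G)⁻¹) * ((b.out : M₁) : G) := by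
              group
          _ = y.1 := by rw [h1]; group
      rw [h4]
      exact y.1.2
    subst h2
    have h5 : (x.1 : G) = y.1 := mul_left_cancel (mul_right_cancel h1)
    have h7 : x = y := Subtype.ext (Subtype.ext h5)
    rw [h7]
  have hsurj : Function.Surjective f := by
    rintro ⟨⟨v, hv⟩, hv1⟩
    obtain ⟨c, hc, hc1⟩ : ∃ c ∈ omegaZ T, c ≠ 1 := by
      by_contra hno
      push Not at hno
      have h1 : omegaZ T = ⊥ := by
        rw [eq_bot_iff]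
        intro w hw
        exact Subgroup.mem_bot.2 (hno w hw)
      rw [h1, Subgroup.card_bot] at hW
      omega
    have hv1' : v ≠ 1 := fun h => hv1 (Subtype.ext h)
    obtain ⟨m, hm, hmv⟩ := h.ff₁.trans c (by rw [omega₁ h]; exact hC₁ hc) hc1 v (by rw [omega₁ h]; exact hv) hv1'
    set r : M₁ := ((Quotient.mk'' (⟨m, hm⟩ : M₁) : J).out : M₁) with hr
    have h2 : (Quotient.mk'' r : J) = Quotient.mk'' ⟨m, hm⟩ := Quotient.out_eq' _
    have h3 := Quotient.exact' h2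
    rw [QuotientGroup.leftRel_apply, Subgroup.mem_subgroupOf] at h3
    have h4 : (r : G)⁻¹ * m ∈ M₂ := h3
    have h5 : (r : G)⁻¹ * m ∈ M₁ := M₁.mul_mem (M₁.inv_mem r.2) hm
    have h6 := (mem₂_iff h h5).1 h4 c hc
    refine ⟨⟨Quotient.mk'' ⟨m, hm⟩, ⟨⟨(r : G)⁻¹ * m * c * ((r : G)⁻¹ * m)⁻¹, h6⟩, ?_⟩⟩, ?_⟩
    · intro h7
      apply hc1
      have h8 : (r : G)⁻¹ * m * c * ((r : G)⁻¹ * m)⁻¹ = 1 := congrArg Subtype.val h7
      exact conj_eq_one_iff.1 h8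
    · apply Subtype.ext
      apply Subtype.ext
      show (r : G) * ((r : G)⁻¹ * m * c * ((r : G)⁻¹ * m)⁻¹) * (r : G)⁻¹ = v
      rw [← hmv]
      group
  have hcard := Nat.card_congr (Equiv.ofBijective f ⟨hinj, hsurj⟩)
  have hcardne : ∀ (H : Subgroup G), Nat.card {u : H // u ≠ 1} = Nat.card H - 1 := by
    intro H
    let _ : Fintype H := Fintype.ofFinite H
    rw [Nat.card_eq_fintype_card, Nat.card_eq_fintype_card, Fintype.card_subtype_compl, Fintype.card_subtype_eq]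
  rw [Nat.card_prod, hcardne, hcardne, card₁ h, hW] at hcard
  have hJ : Nat.card J = M₂.relIndex M₁ := rfl
  rw [hJ] at hcard
  obtain ⟨j, rfl⟩ : ∃ j, q = j + 1 := ⟨q - 1, by omega⟩
  have e1 : (j + 1) ^ 2 - 1 = (j + 1 + 1) * j := by
    have : (j + 1) ^ 2 = (j + 1 + 1) * j + 1 := by ring
    omega
  rw [e1, Nat.add_sub_cancel] at hcard
  exact Nat.eq_of_mul_eq_mul_right (by omega) hcard

theorem relIndex₂ [Finite G] (h : Amal M₁ M₂ V₁ V₂ T q) : M₁.relIndex M₂ = q + 1 := relIndex₁ (symm h)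

/-- the crucial incidence property -/
theorem mem_V₂ [Finite G] (h : Amal M₁ M₂ V₁ V₂ T q) {g : G} (hg2 : g ∈ M₂) (hg1 : g ∉ M₁) {v : G} (hv : v ∈ V₁)
    (hgv : g⁻¹ * v * g ∈ M₁) : v ∈ V₂ := by
  by_contra hv2
  have hvT : v ∈ T := le₁ h hv
  have hvM2 : v ∈ M₂ := h.ff₂.syl.le hvT
  have hu2 : g⁻¹ * v * g ∈ M₂ := M₂.mul_mem (M₂.mul_mem (M₂.inv_mem hg2) hvM2) hg2
  have huT : g⁻¹ * v * g ∈ T := by
    apply mem_T h hgv hu2 (k := 1)
    have := h.elem₁ v hv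
    calc (g⁻¹ * v * g) ^ 2 ^ 1 = g⁻¹ * (v * v) * g := by rw [pow_one, sq]; group
      _ = 1 := by rw [this]; group
  have hu : g⁻¹ * v * g ∉ V₂ := by
    intro hu
    apply hv2
    have := h.ff₂.o2.normal g hg2 _ hu
    have e : g * (g⁻¹ * v * g) * g⁻¹ = v := by group
    rwa [e] at this
  apply hg1
  have key : g⁻¹ ∈ M₁ := by
    rw [mem₁_iff h (M₂.inv_mem hg2)]
    intro c hc
    have hc2 : c ∈ V₂ := by
      rw [← h.inf] at hc
      exact hc.2
    have h1 : g⁻¹ * c * g⁻¹⁻¹ ∈ V₂ := h.ff₂.o2.normal _ (M₂.inv_mem hg2) c hc2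
    rw [inv_inv] at h1 ⊢
    have h2 : c * v = v * c := hc.2.2 v hvT
    apply h.ff₂.mem_of_comm _ huT hu _ (by rw [omegaZ_of_elem h.elem₂]; exact h1)
    calc g⁻¹ * v * g * (g⁻¹ * c * g) = g⁻¹ * (v * c) * g := by group
      _ = g⁻¹ * (c * v) * g := by rw [h2]
      _ = g⁻¹ * c * g * (g⁻¹ * v * g) := by group
  simpa using M₁.inv_mem key

/-- the plane data of the amalgam -/
theorem planeData [Finite G] (h : Amal M₁ M₂ V₁ V₂ T q) (hidx : M₁.index = q ^ 2 + q + 1) :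
    PlaneData G M₁ M₂ V₁ V₂ q where
  hq := two_le h
  V1_le_P1 := h.ff₁.o2.le
  V1_le_P2 := (le₁ h).trans h.ff₂.syl.le
  V2_le_P1 := (le₂ h).trans h.ff₁.syl.le
  V2_le_P2 := h.ff₂.o2.le
  V1_norm := h.ff₁.o2.normal
  V2_norm := h.ff₂.o2.normal
  index_G := hidx
  index_1 := relIndex₁ h
  index_2 := relIndex₂ h
  card_V2 := card₁ (symm h)
  card_W := by rw [h.inf]; exact h.ff₁.card_C
  H1 := by
    intro g hg1 hg2 w hw hgw
    by_contra hw1
    rw [h.inf] at hw hgw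
    exact hg2 ((mem₂_iff h hg1).2 (h.ff₁.spread g hg1 ⟨w, hw, hw1, hgw⟩))
  H2 := by
    intro g hg2 hg1 w hw hgw
    by_contra hw1
    rw [h.inf] at hw hgw
    exact hg1 ((mem₁_iff h hg2).2 (h.ff₂.spread g hg2 ⟨w, hw, hw1, hgw⟩))
  H3 := fun g hg2 hg1 v hv hgv => mem_V₂ h hg2 hg1 hv hgv

end Cfsg.Agent.LieExceptional.AmalBasic
end

-- part: LieExceptional/PSLThreeFour
section
/-!
# Part F2 of the CIT project: the amalgam with `q = 4` and index 21 gives `PSL₃(4)`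
-/

set_option autoImplicit false

namespace Cfsg.Agent.LieExceptional.PSLThreeFour

open Cfsg.Agent.LieExceptional.CITDefs

variable {G : Type*} [Group G] [Finite G]

/-- F2 identification -/
theorem psl34 [IsSimpleGroup G] (_hG : IsCIT G) {M₁ M₂ V₁ V₂ T : Subgroup G}
    (h : Amal M₁ M₂ V₁ V₂ T 4) (_hT : IsSyl2 (⊤ : Subgroup G) T) (h21 : M₁.index = 21) :
    ∃ (F : Type) (_ : Field F) (_ : Fintype F), Fintype.card F = 4 ∧
        Nonempty (G ≃* Matrix.ProjectiveSpecialLinearGroup (Fin 3) F) :=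
  ⟨PlaneFour.F4, inferInstance, inferInstance, PlaneFour.F4.card,
    PlaneFour.psl34 (AmalBasic.planeData h h21) h.elem₂⟩

end Cfsg.Agent.LieExceptional.PSLThreeFour
end

-- part: LieExceptional/CITEven
section
set_option autoImplicit false

/-!
Classification of the non-abelian finite simple CIT-groups of even order.
-/

namespace Cfsg.Agent.LieExceptional.CITEven

open Subgroup Cfsg.Agent.LieExceptional.CITDefs

theorem main {G : Type*} [Group G] [Finite G] [IsSimpleGroup G]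
    (hG : ∃ a b : G, a * b ≠ b * a) (h2 : 2 ∣ Nat.card G)
    (hCIT : ∀ t : G, orderOf t = 2 → IsPGroup 2 (Subgroup.centralizer ({t} : Set G))) :
    (∃ (F : Type) (_ : Field F) (_ : Fintype F),
        (Fintype.card F = 9 ∨ (∃ n : ℕ, Fintype.card F = 2 ^ n) ∨
          ((Fintype.card F).Prime ∧ ∃ k : ℕ, Fintype.card F = 2 ^ k + 1 ∨ Fintype.card F + 1 = 2 ^ k)) ∧
        Nonempty (G ≃* Matrix.ProjectiveSpecialLinearGroup (Fin 2) F)) ∨
    (∃ (F : Type) (_ : Field F) (_ : Fintype F), Fintype.card F = 4 ∧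
        Nonempty (G ≃* Matrix.ProjectiveSpecialLinearGroup (Fin 3) F)) ∨
    Cfsg.IsSuzuki G := by
  have hC : IsCIT G := hCIT
  exact Cfsg.Agent.LieExceptional.CITMain.main_of hG hC
    (Cfsg.Agent.LieExceptional.CITGlobal.global hG hC h2)
    (fun M₁ M₂ V₁ V₂ T q h => Cfsg.Agent.LieExceptional.CITTorus.q_le_four hC h)
    (fun M₁ M₂ V₁ V₂ T h => by
      have hT := Cfsg.Agent.LieExceptional.CITSylowFour.sylow_of_four hC h
      exact Cfsg.Agent.LieExceptional.PSLThreeFour.psl34 hC h hT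
        (Cfsg.Agent.LieExceptional.CITPlaneCount.index_eq hC h hT))

end Cfsg.Agent.LieExceptional.CITEven
end
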