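import Mathlib
set_option linter.all false

/-!
# Counting fixed-point-free elements of a Zassenhaus group of Suzuki type

A finite group `G` acting 2-transitively on a set with `q² + 1` points, `q = 2^(2m+1)`, `m ≥ 1`, of order
`q² (q² + 1) (q - 1)`, no nonidentity element fixing three points, such that centralisers of elements of prime
order `p ∣ q² + 1` are commutative with normaliser quotient of order at most four, has exactly two classes of
such centralisers, of orders `q ± 2^(m+1) + 1`, and these have index four in their normalisers.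
-/

set_option autoImplicit false
set_option linter.unusedSectionVars false

namespace Cfsg.Agent.LieExceptional.SuzukiTori

open MulAction

theorem sum_fixedBy {G X : Type*} [Group G] [Fintype G] [MulAction G X] [Finite X] [Nonempty X]
    (h : IsPretransitive G X) : ∑ g : G, Nat.card (fixedBy X g) = Nat.card G := by
  classical
  have : Fintype X := Fintype.ofFinite X
  have : Fintype (Quotient (orbitRel G X)) := Fintype.ofFinite _
  have h1 := sum_card_fixedBy_eq_card_orbits_mul_card_group G X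
  have h2 : Subsingleton (orbitRel.Quotient G X) := pretransitive_iff_subsingleton_quotient G X |>.1 h
  have h3 : Fintype.card (Quotient (orbitRel G X)) = 1 := by
    have : Nonempty (Quotient (orbitRel G X)) := ⟨Quotient.mk'' (Classical.arbitrary X)⟩
    have h4 : Subsingleton (Quotient (orbitRel G X)) := h2
    exact le_antisymm (Fintype.card_le_one_iff_subsingleton.2 h4) Fintype.card_pos
  rw [h3, one_mul] at h1
  rw [Nat.card_eq_fintype_card, ← h1]
  exact Finset.sum_congr rfl (fun g _ => Nat.card_eq_fintype_card)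

theorem card_fixedBy_embedding {G X : Type*} [Group G] [MulAction G X] [Finite X] (g : G) :
    Nat.card (fixedBy (Fin 2 ↪ X) g) = Nat.card (fixedBy X g) * (Nat.card (fixedBy X g) - 1) := by
  classical
  have : Fintype X := Fintype.ofFinite X
  have e : fixedBy (Fin 2 ↪ X) g ≃ (Fin 2 ↪ fixedBy X g) :=
    { toFun := fun f => ⟨fun i => ⟨f.1 i, by
          have h1 := f.2
          rw [mem_fixedBy] at h1 ⊢
          have := congrArg (fun z : Fin 2 ↪ X => z i) h1
          simpa using this⟩, fun i j hij => f.1.injective (congrArg Subtype.val hij)⟩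
      invFun := fun f => ⟨f.trans (Function.Embedding.subtype _), by
          rw [mem_fixedBy]
          ext i
          exact (f i).2⟩
      left_inv := fun f => by
        apply Subtype.ext
        ext i
        rfl
      right_inv := fun f => by
        ext i
        rfl }
  have : Fintype (fixedBy X g) := Fintype.ofFinite _
  rw [Nat.card_congr e, Nat.card_eq_fintype_card, Fintype.card_embedding_eq, Fintype.card_fin,
    ← Nat.card_eq_fintype_card]
  simp [Nat.descFactorial]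
  ring

/-- The number of fixed-point-free elements of a finite 2-transitive group in which no nonidentity element
fixes three points. -/
theorem two_mul_card_free {G Ω : Type*} [Group G] [Finite G] [MulAction G Ω] [Finite Ω]
    (hN : 2 ≤ Nat.card Ω) (h2 : IsMultiplyPretransitive G Ω 2)
    (h3 : ∀ g : G, g ≠ 1 → Nat.card (fixedBy Ω g) ≤ 2) :
    2 * Nat.card {g : G | Nat.card (fixedBy Ω g) = 0} + (Nat.card Ω - 1) * (Nat.card Ω - 2) =
      Nat.card G := by
  classical
  have : Fintype G := Fintype.ofFinite G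
  have : Fintype Ω := Fintype.ofFinite Ω
  have hne : Nonempty Ω := by
    rw [← Finite.card_pos_iff]; omega
  have hne2 : Nonempty (Fin 2 ↪ Ω) := by
    rw [Function.Embedding.nonempty_iff_card_le, Fintype.card_fin, ← Nat.card_eq_fintype_card]
    exact hN
  have h1 : IsPretransitive G Ω := by
    have := h2
    exact isPretransitive_of_is_two_pretransitive
  have s1 := sum_fixedBy (G := G) (X := Ω) h1
  have s2 := sum_fixedBy (G := G) (X := Fin 2 ↪ Ω) h2
  simp_rw [card_fixedBy_embedding] at s2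
  have key : ∀ g : G, Nat.card (fixedBy Ω g) * (Nat.card (fixedBy Ω g) - 1) + 2 =
      2 * Nat.card (fixedBy Ω g) + (if Nat.card (fixedBy Ω g) = 0 then 2 else 0) +
      (if g = 1 then (Nat.card Ω - 1) * (Nat.card Ω - 2) else 0) := by
    intro g
    by_cases hg : g = 1
    · subst hg
      have : fixedBy Ω (1 : G) = Set.univ := fixedBy_one_eq_univ Ω G
      rw [this, Nat.card_coe_set_eq, Set.ncard_univ]
      rw [if_neg (by omega), if_pos rfl]
      obtain ⟨k, hk⟩ := Nat.exists_eq_add_of_le hN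
      rw [hk]
      have e1 : 2 + k - 1 = k + 1 := by omega
      have e2 : 2 + k - 2 = k := by omega
      rw [e1, e2]
      ring
    · rw [if_neg hg]
      have := h3 g hg
      interval_cases Nat.card (fixedBy Ω g) <;> rfl
  have s3 := Finset.sum_congr (rfl : (Finset.univ : Finset G) = Finset.univ) (fun g _ => key g)
  rw [Finset.sum_add_distrib, Finset.sum_add_distrib, Finset.sum_add_distrib, s2, ← Finset.mul_sum, s1,
    Finset.sum_const, Finset.sum_ite_eq' Finset.univ (1 : G), if_pos (Finset.mem_univ _), Finset.card_univ,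
    ← Nat.card_eq_fintype_card, Finset.sum_ite, Finset.sum_const, Finset.sum_const_zero] at s3
  have h4 : Nat.card {g : G | Nat.card (fixedBy Ω g) = 0} =
      (Finset.univ.filter (fun g : G => Nat.card (fixedBy Ω g) = 0)).card := by
    rw [Nat.card_eq_fintype_card]
    exact Fintype.card_subtype _
  rw [h4]
  simp only [smul_eq_mul] at s3
  omega

theorem card_modEq_fixedBy {G Ω : Type*} [Group G] [MulAction G Ω] [Finite Ω] {p : ℕ}
    (hp : p.Prime) {h : G} (hh : h ^ p = 1) :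
    Nat.card Ω ≡ Nat.card (fixedBy Ω h) [MOD p] := by
  classical
  have : Fact p.Prime := ⟨hp⟩
  have : Fintype Ω := Fintype.ofFinite Ω
  let f : Function.End Ω := fun ω => h • ω
  have hfn : ∀ (n : ℕ) (w : Ω), (f ^ n) w = h ^ n • w := by
    intro n
    induction n with
    | zero => intro w; rw [pow_zero, pow_zero, one_smul]; rfl
    | succ n ih =>
      intro w
      rw [pow_succ, pow_succ, mul_smul]
      exact ih (f w)
  have hf : f ^ p ^ 1 = 1 := by
    rw [pow_one]
    funext w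
    rw [hfn, hh, one_smul]
    rfl
  have key := Equiv.Perm.card_fixedPoints_modEq hf
  rw [← Nat.card_eq_fintype_card, ← Nat.card_eq_fintype_card] at key
  exact key

theorem exists_fixed_of_commute {G Ω : Type*} [Group G] [MulAction G Ω] [Finite Ω] {g h : G}
    (hgh : Commute g h) (hodd : Odd (orderOf g)) (h1 : 1 ≤ Nat.card (fixedBy Ω h))
    (h2 : Nat.card (fixedBy Ω h) ≤ 2) : ∃ ω : Ω, g • ω = ω := by
  classical
  have hne : Nonempty (fixedBy Ω h) := by
    rw [← Finite.card_pos_iff]; omega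
  obtain ⟨α, hα⟩ := hne
  have hmove : ∀ ω : Ω, ω ∈ fixedBy Ω h → g • ω ∈ fixedBy Ω h := by
    intro ω hω
    rw [mem_fixedBy] at hω ⊢
    rw [← mul_smul, ← hgh.eq, mul_smul, hω]
  by_cases e1 : g • α = α
  · exact ⟨α, e1⟩
  by_cases e2 : g • (g • α) = g • α
  · exact ⟨_, e2⟩
  by_cases e3 : g • (g • α) = α
  · exfalso
    apply e1
    have hs : g ^ 2 ∈ stabilizer G α := by
      rw [mem_stabilizer_iff, pow_two, mul_smul, e3]
    obtain ⟨k, hk⟩ := hodd
    have : g = (g ^ 2) ^ (k + 1) := by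
      rw [← pow_mul]
      have : 2 * (k + 1) = orderOf g + 1 := by omega
      rw [this, pow_succ, pow_orderOf_eq_one, one_mul]
    have h4 : (g ^ 2) ^ (k + 1) ∈ stabilizer G α := pow_mem hs _
    rw [← this, mem_stabilizer_iff] at h4
    exact h4
  · exfalso
    have h5 : ({α, g • α, g • (g • α)} : Finset Ω).card = 3 := by
      rw [Finset.card_eq_three]
      exact ⟨_, _, _, Ne.symm e1, Ne.symm e3, Ne.symm e2, rfl⟩
    have h6 : (({α, g • α, g • (g • α)} : Finset Ω) : Set Ω) ⊆ fixedBy Ω h := by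
      intro x hx
      simp only [Finset.coe_insert, Finset.coe_singleton, Set.mem_insert_iff,
        Set.mem_singleton_iff] at hx
      rcases hx with rfl | rfl | rfl
      · exact hα
      · exact hmove _ hα
      · exact hmove _ (hmove _ hα)
    have h7 := Set.ncard_le_ncard h6 (Set.toFinite _)
    rw [Set.ncard_coe_finset, h5] at h7
    rw [Nat.card_coe_set_eq] at h2
    omega

/-- The standing hypotheses. -/
structure Hyp (G Ω : Type*) [Group G] [MulAction G Ω] (q : ℕ) : Prop where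
  two : IsMultiplyPretransitive G Ω 2
  three : ∀ g : G, g ≠ 1 → Nat.card (fixedBy Ω g) ≤ 2
  card_set : Nat.card Ω = q ^ 2 + 1
  card_group : Nat.card G = q ^ 2 * (q - 1) * (q ^ 2 + 1)
  q_eq : ∃ m, 1 ≤ m ∧ q = 2 ^ (2 * m + 1)
  comm : ∀ p : ℕ, p.Prime → p ∣ q ^ 2 + 1 → ∀ z : G, orderOf z = p →
    ∀ a ∈ Subgroup.centralizer ({z} : Set G), ∀ b ∈ Subgroup.centralizer ({z} : Set G), a * b = b * a
  norm : ∀ p : ℕ, p.Prime → p ∣ q ^ 2 + 1 → ∀ z : G, orderOf z = p →
    Nat.card (Subgroup.normalizer ((Subgroup.centralizer ({z} : Set G) : Subgroup G) : Set G)) ≤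
      4 * Nat.card (Subgroup.centralizer ({z} : Set G))

namespace Hyp

variable {G Ω : Type*} [Group G] [Finite G] [MulAction G Ω] [Finite Ω] {q : ℕ}

/-- the fixed-point-free elements -/
def free (G Ω : Type*) [Group G] [MulAction G Ω] : Set G := {g : G | Nat.card (fixedBy Ω g) = 0}

theorem mem_free_iff {g : G} : g ∈ free G Ω ↔ ∀ ω : Ω, g • ω ≠ ω := by
  show Nat.card (fixedBy Ω g) = 0 ↔ _
  rw [Finite.card_eq_zero_iff, Set.isEmpty_coe_sort, Set.eq_empty_iff_forall_notMem]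
  rfl

variable (H : Hyp G Ω q)

include H

theorem even_q : Even q := by
  obtain ⟨m, -, rfl⟩ := H.q_eq
  exact (Nat.even_pow.2 ⟨even_two, by omega⟩)

theorem eight_le : 8 ≤ q := by
  obtain ⟨m, hm, rfl⟩ := H.q_eq
  calc 8 = 2 ^ 3 := by norm_num
    _ ≤ 2 ^ (2 * m + 1) := Nat.pow_le_pow_right (by norm_num) (by omega)

theorem q_mod_three : q % 3 = 2 := by
  obtain ⟨m, -, rfl⟩ := H.q_eq
  rw [pow_succ, pow_mul, Nat.mul_mod, Nat.pow_mod]
  norm_num

theorem three_not_dvd : ¬ 3 ∣ Nat.card G := by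
  rw [H.card_group, Nat.prime_three.dvd_mul, Nat.prime_three.dvd_mul]
  have h := H.q_mod_three
  have h8 := H.eight_le
  rintro ((h1 | h1) | h1)
  · have := Nat.prime_three.dvd_of_dvd_pow h1
    omega
  · omega
  · have h2 : (q ^ 2 + 1) % 3 = 2 := by
      rw [Nat.add_mod, Nat.pow_mod, h]
    omega

theorem one_notMem_free : (1 : G) ∉ free G Ω := by
  rw [mem_free_iff]
  push Not
  have : Nonempty Ω := by
    rw [← Finite.card_pos_iff, H.card_set]; omega
  exact ⟨Classical.arbitrary Ω, one_smul _ _⟩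

theorem prime_dvd_facts {p : ℕ} (hp : p.Prime) (h : p ∣ q ^ 2 + 1) : 5 ≤ p ∧ ¬ p ∣ q ^ 2 * (q - 1) := by
  have h8 := H.eight_le
  have hpq : ¬ p ∣ q := by
    intro h1
    have h2 : p ∣ q ^ 2 := h1.trans (dvd_pow_self q two_ne_zero)
    have h3 := (Nat.dvd_add_right h2).1 h
    exact hp.one_lt.ne' (Nat.dvd_one.1 h3)
  have hp2 : p ≠ 2 := by
    rintro rfl
    exact hpq H.even_q.two_dvd
  have hp3 : p ≠ 3 := by
    rintro rfl
    have h2 : (q ^ 2 + 1) % 3 = 2 := by
      rw [Nat.add_mod, Nat.pow_mod, H.q_mod_three]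
    omega
  have hp4 : p ≠ 4 := by
    rintro rfl
    exact absurd hp (by norm_num)
  have hp5 : 5 ≤ p := by
    have := hp.two_le
    omega
  refine ⟨hp5, ?_⟩
  rw [hp.dvd_mul]
  rintro (h1 | h1)
  · exact hpq (hp.dvd_of_dvd_pow h1)
  · have h2 : q ^ 2 + 1 = (q + 1) * (q - 1) + 2 := by
      have := Nat.sq_sub_sq q 1
      have h3 : 1 ≤ q ^ 2 := Nat.one_le_pow _ _ (by omega)
      rw [one_pow] at this
      omega
    rw [h2] at h
    have h3 := (Nat.dvd_add_right (h1.mul_left (q + 1))).1 h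
    have := Nat.le_of_dvd (by norm_num) h3
    omega

/-- fixed-point-free elements have odd order -/
theorem odd_of_free {g : G} (hg : g ∈ free G Ω) : Odd (orderOf g) := by
  rw [← Nat.not_even_iff_odd]
  intro hev
  have hg1 : g ≠ 1 := fun h => H.one_notMem_free (h ▸ hg)
  obtain ⟨k, hk⟩ := hev.two_dvd
  have hpos : 0 < orderOf g := orderOf_pos g
  have hk0 : k ≠ 0 := by rintro rfl; omega
  set h := g ^ k with hh
  have hord : orderOf h = 2 := by
    rw [hh, orderOf_pow_of_dvd hk0 ⟨2, by rw [hk, mul_comm]⟩, hk, Nat.mul_div_cancel _ (Nat.pos_of_ne_zero hk0)]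
  have hh1 : h ≠ 1 := by
    intro h1
    rw [h1, orderOf_one] at hord
    omega
  have hle := H.three h hh1
  have hmod := card_modEq_fixedBy (Ω := Ω) Nat.prime_two (h := h) (by rw [← hord, pow_orderOf_eq_one])
  rw [H.card_set] at hmod
  have hq := H.even_q
  have hone : Nat.card (fixedBy Ω h) = 1 := by
    have h2 : (q ^ 2 + 1) % 2 = 1 := by
      obtain ⟨t, rfl⟩ := hq
      have : (t + t) ^ 2 + 1 = 2 * (2 * t * t) + 1 := by ring
      omega
    have h3 : Nat.card (fixedBy Ω h) % 2 = 1 := by rw [← h2]; exact hmod.symm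
    omega
  obtain ⟨hsub, ⟨α, hα⟩⟩ := Nat.card_eq_one_iff_unique.1 hone
  rw [mem_free_iff] at hg
  apply hg α
  have hmem : g • α ∈ fixedBy Ω h := by
    rw [mem_fixedBy] at hα ⊢
    have : h * g = g * h := by rw [hh]; exact ((Commute.refl g).pow_left k).eq
    rw [← mul_smul, this, mul_smul, hα]
  exact congrArg Subtype.val (hsub.elim ⟨g • α, hmem⟩ ⟨α, hα⟩)

theorem free_of_commute {g h : G} (hg : g ∈ free G Ω) (hgh : Commute g h) (hh : h ≠ 1) :
    h ∈ free G Ω := by
  by_contra hcon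
  have h1 : 1 ≤ Nat.card (fixedBy Ω h) := Nat.one_le_iff_ne_zero.2 hcon
  obtain ⟨ω, hω⟩ := exists_fixed_of_commute hgh (H.odd_of_free hg) h1 (H.three h hh)
  exact mem_free_iff.1 hg ω hω

theorem dvd_of_free {g : G} (hg : g ∈ free G Ω) {p : ℕ} (hp : p.Prime) (hpg : p ∣ orderOf g) :
    p ∣ q ^ 2 + 1 := by
  have hodd := H.odd_of_free hg
  have hp2 : p ≠ 2 := by
    rintro rfl
    rw [← Nat.not_even_iff_odd] at hodd
    exact hodd (even_iff_two_dvd.2 hpg)
  have hpG : p ∣ Nat.card G := hpg.trans (orderOf_dvd_natCard g)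
  rw [H.card_group, hp.dvd_mul] at hpG
  rcases hpG with hpG | hpG
  · exfalso
    obtain ⟨k, hk⟩ := hpg
    have hpos : 0 < orderOf g := orderOf_pos g
    have hk0 : k ≠ 0 := by rintro rfl; omega
    set h := g ^ k with hh
    have hord : orderOf h = p := by
      rw [hh, orderOf_pow_of_dvd hk0 ⟨p, by rw [hk, mul_comm]⟩, hk,
        Nat.mul_div_cancel _ (Nat.pos_of_ne_zero hk0)]
    have hh1 : h ≠ 1 := by
      intro h1
      rw [h1, orderOf_one] at hord
      exact hp.one_lt.ne hord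
    have hfree : h ∈ free G Ω := H.free_of_commute hg ((Commute.refl g).pow_right k) hh1
    have hmod := card_modEq_fixedBy (Ω := Ω) hp (h := h) (by rw [← hord, pow_orderOf_eq_one])
    have h0 : Nat.card (fixedBy Ω h) = 0 := hfree
    rw [h0, H.card_set] at hmod
    have hdvd : p ∣ q ^ 2 + 1 := (Nat.modEq_zero_iff_dvd).1 hmod
    exact (H.prime_dvd_facts hp hdvd).2 hpG
  · exact hpG

theorem exists_prime_pow {g : G} (hg : g ∈ free G Ω) :
    ∃ (p : ℕ) (k : ℕ), p.Prime ∧ p ∣ q ^ 2 + 1 ∧ orderOf (g ^ k) = p := by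
  have hg1 : g ≠ 1 := fun h => H.one_notMem_free (h ▸ hg)
  obtain ⟨p, hp, hpg⟩ := Nat.exists_prime_and_dvd (fun h => hg1 (orderOf_eq_one_iff.1 h))
  refine ⟨p, orderOf g / p, hp, H.dvd_of_free hg hp hpg, ?_⟩
  have hpos : 0 < orderOf g := orderOf_pos g
  obtain ⟨k, hk⟩ := hpg
  have hk0 : k ≠ 0 := by rintro rfl; omega
  rw [hk, Nat.mul_div_cancel_left _ hp.pos, orderOf_pow_of_dvd hk0 ⟨p, by rw [hk, mul_comm]⟩, hk,
        Nat.mul_div_cancel _ (Nat.pos_of_ne_zero hk0)]

theorem centralizer_eq_pow {g : G} {p k : ℕ} (hp : p.Prime) (hpq : p ∣ q ^ 2 + 1)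
    (hk : orderOf (g ^ k) = p) :
    Subgroup.centralizer ({g} : Set G) = Subgroup.centralizer ({g ^ k} : Set G) := by
  apply le_antisymm
  · intro x hx
    rw [Subgroup.mem_centralizer_singleton_iff] at hx ⊢
    exact (Commute.pow_right (show Commute x g from hx) k).eq
  · intro x hx
    rw [Subgroup.mem_centralizer_singleton_iff]
    refine H.comm p hp hpq _ hk x hx g ?_
    rw [Subgroup.mem_centralizer_singleton_iff]
    exact ((Commute.refl g).pow_right k).eq

theorem comm_of_free {g : G} (hg : g ∈ free G Ω) :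
    ∀ a ∈ Subgroup.centralizer ({g} : Set G), ∀ b ∈ Subgroup.centralizer ({g} : Set G),
      a * b = b * a := by
  obtain ⟨p, k, hp, hpq, hk⟩ := H.exists_prime_pow hg
  rw [H.centralizer_eq_pow hp hpq hk]
  exact H.comm p hp hpq _ hk

theorem norm_of_free {g : G} (hg : g ∈ free G Ω) :
    Nat.card (Subgroup.normalizer ((Subgroup.centralizer ({g} : Set G) : Subgroup G) : Set G)) ≤
      4 * Nat.card (Subgroup.centralizer ({g} : Set G)) := by
  obtain ⟨p, k, hp, hpq, hk⟩ := H.exists_prime_pow hg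
  rw [H.centralizer_eq_pow hp hpq hk]
  exact H.norm p hp hpq _ hk

theorem free_of_mem {g h : G} (hg : g ∈ free G Ω) (hh : h ∈ Subgroup.centralizer ({g} : Set G))
    (h1 : h ≠ 1) : h ∈ free G Ω :=
  H.free_of_commute hg (Subgroup.mem_centralizer_singleton_iff.1 hh).symm h1

theorem centralizer_eq {g h : G} (hg : g ∈ free G Ω)
    (hh : h ∈ Subgroup.centralizer ({g} : Set G)) (h1 : h ≠ 1) :
    Subgroup.centralizer ({h} : Set G) = Subgroup.centralizer ({g} : Set G) := by
  have hf := H.free_of_mem hg hh h1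
  have hgh : g ∈ Subgroup.centralizer ({h} : Set G) := by
    rw [Subgroup.mem_centralizer_singleton_iff] at hh ⊢
    exact hh.symm
  apply le_antisymm
  · intro x hx
    rw [Subgroup.mem_centralizer_singleton_iff]
    exact H.comm_of_free hf x hx g hgh
  · intro x hx
    rw [Subgroup.mem_centralizer_singleton_iff]
    exact H.comm_of_free hg x hx h hh

end Hyp

/-! ### Counting conjugates -/

/-- nonidentity elements conjugate into `C` -/
def tset {G : Type*} [Group G] (C : Subgroup G) : Set G := {x | x ≠ 1 ∧ ∃ y : G, y⁻¹ * x * y ∈ C}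

/-- The number of elements conjugate into a trivial-intersection subgroup. -/
theorem card_tset {G : Type*} [Group G] [Finite G] (C : Subgroup G)
    (hTI : ∀ y : G, ∀ c ∈ C, c ≠ 1 → y * c * y⁻¹ ∈ C → y ∈ Subgroup.normalizer (C : Set G)) :
    Nat.card (tset C) * Nat.card (Subgroup.normalizer (C : Set G)) =
      Nat.card G * (Nat.card C - 1) := by
  classical
  set N := Subgroup.normalizer (C : Set G) with hN
  have hex : ∀ x : tset C, ∃ y : G, y⁻¹ * (x : G) * y ∈ C := fun x => by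
    have h : (x : G) ≠ 1 ∧ ∃ y : G, y⁻¹ * (x : G) * y ∈ C := x.2
    exact h.2
  have hne : ∀ x : tset C, (x : G) ≠ 1 := fun x => by
    have h : (x : G) ≠ 1 ∧ ∃ y : G, y⁻¹ * (x : G) * y ∈ C := x.2
    exact h.1
  choose y hy using hex
  have hmem : ∀ z : tset C × N, (y z.1 * z.2)⁻¹ * z.1 * (y z.1 * z.2) ∈ C := by
    intro z
    have h1 := hy z.1
    have h2 := (Subgroup.mem_normalizer_iff.1 (inv_mem z.2.2) _).1 h1
    have h3 : ((z.2 : G)⁻¹) * ((y z.1)⁻¹ * z.1 * y z.1) * ((z.2 : G)⁻¹)⁻¹ =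
        (y z.1 * z.2)⁻¹ * z.1 * (y z.1 * z.2) := by group
    rw [← h3]
    exact h2
  let Φ : tset C × N → G × {c : C // c ≠ 1} := fun z =>
    ⟨y z.1 * z.2, ⟨⟨(y z.1 * z.2)⁻¹ * z.1 * (y z.1 * z.2), hmem z⟩, by
          intro h
          have h1 : (y z.1 * z.2)⁻¹ * z.1 * (y z.1 * z.2) = 1 := congrArg Subtype.val h
          apply hne z.1
          have h2 : (z.1 : G) = (y z.1 * z.2) * ((y z.1 * z.2)⁻¹ * z.1 * (y z.1 * z.2)) * (y z.1 * z.2)⁻¹ := by
            group
          rw [h2, h1, mul_one, mul_inv_cancel]⟩⟩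
  have hΦ1 : ∀ z, (Φ z).1 = y z.1 * z.2 := fun z => rfl
  have hΦ2 : ∀ z, ((Φ z).2.1 : G) = (y z.1 * z.2)⁻¹ * z.1 * (y z.1 * z.2) := fun z => rfl
  have hbij : Function.Bijective Φ := by
    constructor
    · rintro ⟨t, n⟩ ⟨t', n'⟩ h
      have h1 : y t * (n : G) = y t' * (n' : G) := congrArg Prod.fst h
      have h2 : (y t * (n : G))⁻¹ * t * (y t * (n : G)) = (y t' * (n' : G))⁻¹ * t' * (y t' * (n' : G)) :=
        congrArg (fun w : G × {c : C // c ≠ 1} => ((w.2.1 : C) : G)) h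
      rw [h1] at h2
      have h3 : t = t' := by
        apply Subtype.ext
        exact mul_left_cancel (mul_right_cancel h2)
      subst h3
      have h4 : n = n' := Subtype.ext (mul_left_cancel h1)
      rw [h4]
    · rintro ⟨g, ⟨c, hc⟩⟩
      have hc1 : (c : G) ≠ 1 := fun h => hc (Subtype.ext h)
      have ht : g * (c : G) * g⁻¹ ∈ tset C := by
        refine ⟨?_, g, ?_⟩
        · intro h
          apply hc1
          have : (c : G) = g⁻¹ * (g * (c : G) * g⁻¹) * g := by group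
          rw [this, h]
          simp
        · have : g⁻¹ * (g * (c : G) * g⁻¹) * g = c := by group
          rw [this]
          exact c.2
      have hn : (y ⟨_, ht⟩)⁻¹ * g ∈ N := by
        refine hTI _ c c.2 hc1 ?_
        have h1 := hy ⟨_, ht⟩
        have : (y ⟨_, ht⟩)⁻¹ * g * (c : G) * ((y ⟨_, ht⟩)⁻¹ * g)⁻¹ =
            (y ⟨_, ht⟩)⁻¹ * (g * (c : G) * g⁻¹) * y ⟨_, ht⟩ := by group
        rw [this]
        exact h1
      refine ⟨⟨⟨_, ht⟩, ⟨_, hn⟩⟩, ?_⟩
      apply Prod.ext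
      · show y _ * ((y _)⁻¹ * g) = g
        group
      · apply Subtype.ext
        apply Subtype.ext
        show (y _ * ((y _)⁻¹ * g))⁻¹ * (g * (c : G) * g⁻¹) * (y _ * ((y _)⁻¹ * g)) = c
        group
  have h1 := Nat.card_congr (Equiv.ofBijective Φ hbij)
  rw [Nat.card_prod, Nat.card_prod] at h1
  rw [h1]
  congr 1
  have := Fintype.ofFinite C
  rw [Nat.card_eq_fintype_card, Nat.card_eq_fintype_card, Fintype.card_subtype_compl,
    Fintype.card_subtype_eq]

theorem arith_aux {a s d₁ d₂ t₁ t₂ t : ℕ} (ha : 0 < a)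
    (ht₁ : t₁ * (4 * (d₁ + 1)) = (a + 1) ^ 2 * a * ((a + 1) ^ 2 + 1) * d₁)
    (ht₂ : t₂ * (4 * (d₂ + 1)) = (a + 1) ^ 2 * a * ((a + 1) ^ 2 + 1) * d₂)
    (hmul : (d₁ + 1) * (d₂ + 1) = (a + 1) ^ 2 + 1) (hunion : t = t₁ + t₂)
    (hfree : 2 * t = (a + 1) ^ 3 * a ^ 2) (hs : s ^ 2 = 2 * (a + 1)) :
    (d₁ + d₂ = 2 * (a + 1)) ∧ ((d₁ : ℤ) - (a + 1)) ^ 2 = (s : ℤ) ^ 2 := by
  have e1 : 4 * t₁ = (a + 1) ^ 2 * a * (d₁ * (d₂ + 1)) := by
    have hpos : 0 < d₁ + 1 := by omega
    apply Nat.eq_of_mul_eq_mul_right hpos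
    calc 4 * t₁ * (d₁ + 1) = t₁ * (4 * (d₁ + 1)) := by ring
      _ = _ := by rw [ht₁, ← hmul]; ring
  have e2 : 4 * t₂ = (a + 1) ^ 2 * a * (d₂ * (d₁ + 1)) := by
    have hpos : 0 < d₂ + 1 := by omega
    apply Nat.eq_of_mul_eq_mul_right hpos
    calc 4 * t₂ * (d₂ + 1) = t₂ * (4 * (d₂ + 1)) := by ring
      _ = _ := by rw [ht₂, ← hmul]; ring
  have e3 : (a + 1) ^ 2 * a * (d₁ * (d₂ + 1) + d₂ * (d₁ + 1)) =
      (a + 1) ^ 2 * a * (2 * ((a + 1) * a)) := by
    calc _ = 4 * t₁ + 4 * t₂ := by rw [e1, e2]; ring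
      _ = 2 * (2 * t) := by rw [hunion]; ring
      _ = _ := by rw [hfree]; ring
  have e4 : d₁ * (d₂ + 1) + d₂ * (d₁ + 1) = 2 * ((a + 1) * a) :=
    Nat.eq_of_mul_eq_mul_left (by positivity) e3
  have z4 : (d₁ : ℤ) * (d₂ + 1) + d₂ * (d₁ + 1) = 2 * ((a + 1) * a) := by exact_mod_cast e4
  have zmul : ((d₁ : ℤ) + 1) * (d₂ + 1) = (a + 1) ^ 2 + 1 := by exact_mod_cast hmul
  have z5 : (d₁ : ℤ) + d₂ = 2 * (a + 1) := by linear_combination 2 * zmul - z4
  refine ⟨by exact_mod_cast z5, ?_⟩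
  have h3 : (s : ℤ) ^ 2 = 2 * (a + 1) := by exact_mod_cast hs
  rw [h3]
  linear_combination (d₁ - 1 : ℤ) * z5 + (-1 : ℤ) * zmul + 2 * z5

theorem arith {q s c₁ c₂ t₁ t₂ t : ℕ} (h8 : 8 ≤ q)
    (ht₁ : t₁ * (4 * c₁) = q ^ 2 * (q - 1) * (q ^ 2 + 1) * (c₁ - 1))
    (ht₂ : t₂ * (4 * c₂) = q ^ 2 * (q - 1) * (q ^ 2 + 1) * (c₂ - 1))
    (hc₁ : 1 ≤ c₁) (hc₂ : 1 ≤ c₂)
    (hmul : c₁ * c₂ = q ^ 2 + 1) (hunion : t = t₁ + t₂)
    (hfree : 2 * t = q ^ 3 * (q - 1) ^ 2) (hs : s ^ 2 = 2 * q) (hsq : s ≤ q) :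
    (c₁ = q + s + 1 ∧ c₂ = q - s + 1) ∨ (c₂ = q + s + 1 ∧ c₁ = q - s + 1) := by
  obtain ⟨a, rfl⟩ : ∃ a, q = a + 1 := ⟨q - 1, by omega⟩
  obtain ⟨d₁, rfl⟩ : ∃ d, c₁ = d + 1 := ⟨c₁ - 1, by omega⟩
  obtain ⟨d₂, rfl⟩ : ∃ d, c₂ = d + 1 := ⟨c₂ - 1, by omega⟩
  simp only [Nat.add_sub_cancel] at ht₁ ht₂ hfree
  have ha : 0 < a := by omega
  obtain ⟨e5, e6⟩ := arith_aux ha ht₁ ht₂ hmul hunion hfree hs
  rcases sq_eq_sq_iff_eq_or_eq_neg.1 e6 with h | h
  · left
    omega
  · right
    omega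

theorem mem_centralizer_conj {G : Type*} [Group G] {x c : G} (y : G) :
    y * x * y⁻¹ ∈ Subgroup.centralizer ({y * c * y⁻¹} : Set G) ↔
      x ∈ Subgroup.centralizer ({c} : Set G) := by
  rw [Subgroup.mem_centralizer_singleton_iff, Subgroup.mem_centralizer_singleton_iff]
  constructor
  · intro h
    have h1 : y * (x * c) * y⁻¹ = y * (c * x) * y⁻¹ := by
      have e1 : y * (x * c) * y⁻¹ = y * x * y⁻¹ * (y * c * y⁻¹) := by group
      have e2 : y * (c * x) * y⁻¹ = y * c * y⁻¹ * (y * x * y⁻¹) := by group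
      rw [e1, e2, h]
    exact mul_left_cancel (mul_right_cancel h1)
  · intro h
    have e1 : y * (x * c) * y⁻¹ = y * x * y⁻¹ * (y * c * y⁻¹) := by group
    have e2 : y * (c * x) * y⁻¹ = y * c * y⁻¹ * (y * x * y⁻¹) := by group
    rw [← e1, ← e2, h]

theorem conj_mem_free {G Ω : Type*} [Group G] [Finite G] [MulAction G Ω] [Finite Ω] {x : G} (y : G)
    (hx : y⁻¹ * x * y ∈ Hyp.free G Ω) : x ∈ Hyp.free G Ω := by
  rw [Hyp.mem_free_iff] at hx ⊢
  intro ω hω
  apply hx (y⁻¹ • ω)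
  rw [← mul_smul]
  have : y⁻¹ * x * y * y⁻¹ = y⁻¹ * x := by group
  rw [this, mul_smul, hω]

namespace Hyp

variable {G Ω : Type*} [Group G] [Finite G] [MulAction G Ω] [Finite Ω] {q : ℕ} (H : Hyp G Ω q)

include H

theorem ti {g : G} (hg : g ∈ free G Ω) (y c : G) (hc : c ∈ Subgroup.centralizer ({g} : Set G))
    (hc1 : c ≠ 1) (h : y * c * y⁻¹ ∈ Subgroup.centralizer ({g} : Set G)) :
    y ∈ Subgroup.normalizer ((Subgroup.centralizer ({g} : Set G) : Subgroup G) : Set G) := by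
  have h1 := H.centralizer_eq hg hc hc1
  have h2 : y * c * y⁻¹ ≠ 1 := by
    intro h
    apply hc1
    have : c = y⁻¹ * (y * c * y⁻¹) * y := by group
    rw [this, h]
    simp
  have h3 := H.centralizer_eq hg h h2
  rw [Subgroup.mem_normalizer_iff]
  intro x
  have h4 := mem_centralizer_conj (x := x) (c := c) y
  rw [h1, h3] at h4
  exact h4.symm

theorem card_tset_eq {g : G} (hg : g ∈ free G Ω) :
    Nat.card (tset (Subgroup.centralizer ({g} : Set G))) *
      Nat.card (Subgroup.normalizer ((Subgroup.centralizer ({g} : Set G) : Subgroup G) : Set G)) =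
      Nat.card G * (Nat.card (Subgroup.centralizer ({g} : Set G)) - 1) :=
  card_tset _ (fun y c hc hc1 h => H.ti hg y c hc hc1 h)

theorem tset_subset_free {g : G} (hg : g ∈ free G Ω) :
    tset (Subgroup.centralizer ({g} : Set G)) ⊆ free G Ω := by
  rintro x ⟨hx1, y, hy⟩
  apply conj_mem_free y
  refine H.free_of_mem hg hy ?_
  intro h
  apply hx1
  have : x = y * (y⁻¹ * x * y) * y⁻¹ := by group
  rw [this, h]
  simp

theorem mem_tset_of {g₁ g₂ : G} (hg₁ : g₁ ∈ free G Ω) (hg₂ : g₂ ∈ free G Ω) {x u : G} (hx : x ≠ 1)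
    (hx2 : x ∈ Subgroup.centralizer ({g₂} : Set G))
    (hx1 : u⁻¹ * x * u ∈ Subgroup.centralizer ({g₁} : Set G)) :
    g₂ ∈ tset (Subgroup.centralizer ({g₁} : Set G)) := by
  refine ⟨fun h => H.one_notMem_free (h ▸ hg₂), u, ?_⟩
  have h1 := H.centralizer_eq hg₂ hx2 hx
  have h2 : u⁻¹ * x * u ≠ 1 := by
    intro h
    apply hx
    have : x = u * (u⁻¹ * x * u) * u⁻¹ := by group
    rw [this, h]
    simp
  have h3 := H.centralizer_eq hg₁ hx1 h2
  rw [← h3]
  have h4 : g₂ ∈ Subgroup.centralizer ({x} : Set G) := by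
    rw [h1]
    exact Subgroup.mem_centralizer_singleton_iff.2 rfl
  have h5 := (mem_centralizer_conj (x := g₂) (c := x) u⁻¹).2 h4
  rwa [inv_inv] at h5

theorem mem_tset_of_inter {g₁ g₂ : G} (hg₁ : g₁ ∈ free G Ω) (hg₂ : g₂ ∈ free G Ω) {x : G}
    (h1 : x ∈ tset (Subgroup.centralizer ({g₁} : Set G)))
    (h2 : x ∈ tset (Subgroup.centralizer ({g₂} : Set G))) :
    g₂ ∈ tset (Subgroup.centralizer ({g₁} : Set G)) := by
  obtain ⟨hx, y₁, hy₁⟩ := h1
  obtain ⟨-, y₂, hy₂⟩ := h2
  refine H.mem_tset_of hg₁ hg₂ (x := y₂⁻¹ * x * y₂) (u := y₂⁻¹ * y₁) ?_ hy₂ ?_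
  · intro h
    apply hx
    have : x = y₂ * (y₂⁻¹ * x * y₂) * y₂⁻¹ := by group
    rw [this, h]
    simp
  · have : (y₂⁻¹ * y₁)⁻¹ * (y₂⁻¹ * x * y₂) * (y₂⁻¹ * y₁) = y₁⁻¹ * x * y₁ := by group
    rw [this]
    exact hy₁

theorem exists_sylow_le {g : G} (hg : g ∈ free G Ω) {p : ℕ} [Fact p.Prime]
    (hpc : p ∣ Nat.card (Subgroup.centralizer ({g} : Set G))) :
    ∃ P : Sylow p G, (P : Subgroup G) ≤ Subgroup.centralizer ({g} : Set G) ∧ Nontrivial P := by
  have hp : p.Prime := Fact.out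
  obtain ⟨⟨h, hhC⟩, hho⟩ := exists_prime_orderOf_dvd_card' p hpc
  have hho' : orderOf h = p := by
    rw [← hho]
    exact (Subgroup.orderOf_mk h hhC).symm
  have hh1 : h ≠ 1 := by
    intro h1
    rw [h1, orderOf_one] at hho'
    exact hp.one_lt.ne hho'
  have hZ : IsPGroup p (Subgroup.zpowers h) := by
    apply IsPGroup.of_card (n := 1)
    rw [Nat.card_zpowers, hho', pow_one]
  obtain ⟨P, hP⟩ := hZ.exists_le_sylow
  have hhP : h ∈ (P : Subgroup G) := hP (Subgroup.mem_zpowers h)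
  have hnt : Nontrivial P := ⟨⟨⟨h, hhP⟩, 1, fun h2 => hh1 (congrArg Subtype.val h2)⟩⟩
  have hcnt := P.2.center_nontrivial
  obtain ⟨⟨⟨z, hzP⟩, hzc⟩, hz1⟩ := exists_ne (1 : Subgroup.center P)
  have hz1' : z ≠ 1 := by
    intro h2
    apply hz1
    apply Subtype.ext
    apply Subtype.ext
    exact h2
  rw [Subgroup.mem_center_iff] at hzc
  have hcz : ∀ x ∈ (P : Subgroup G), x * z = z * x := fun x hx => congrArg Subtype.val (hzc ⟨x, hx⟩)
  have hzh : z ∈ Subgroup.centralizer ({h} : Set G) :=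
    Subgroup.mem_centralizer_singleton_iff.2 (hcz h hhP).symm
  rw [H.centralizer_eq hg hhC hh1] at hzh
  refine ⟨P, ?_, hnt⟩
  rw [← H.centralizer_eq hg hzh hz1']
  intro x hx
  exact Subgroup.mem_centralizer_singleton_iff.2 (hcz x hx)

theorem mem_tset_of_dvd {g₁ g₂ : G} (hg₁ : g₁ ∈ free G Ω) (hg₂ : g₂ ∈ free G Ω) {p : ℕ}
    (hp : p.Prime) (h1 : p ∣ Nat.card (Subgroup.centralizer ({g₁} : Set G)))
    (h2 : p ∣ Nat.card (Subgroup.centralizer ({g₂} : Set G))) :
    g₂ ∈ tset (Subgroup.centralizer ({g₁} : Set G)) := by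
  have : Fact p.Prime := ⟨hp⟩
  obtain ⟨P₁, hP₁, hn₁⟩ := H.exists_sylow_le hg₁ h1
  obtain ⟨P₂, hP₂, hn₂⟩ := H.exists_sylow_le hg₂ h2
  obtain ⟨u, hu⟩ := MulAction.exists_smul_eq G P₁ P₂
  obtain ⟨⟨x, hxP⟩, hx1⟩ := exists_ne (1 : P₂)
  have hx1' : x ≠ 1 := fun h => hx1 (Subtype.ext h)
  refine H.mem_tset_of hg₁ hg₂ (x := x) (u := u) hx1' (hP₂ hxP) (hP₁ ?_)
  have hxP' : x ∈ ((u • P₁ : Sylow p G) : Subgroup G) := by rw [hu]; exact hxP
  rw [Sylow.coe_subgroup_smul] at hxP'
  have := Subgroup.mem_pointwise_smul_iff_inv_smul_mem.1 hxP'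
  have e : (MulAut.conj u)⁻¹ • x = u⁻¹ * x * u := by
    rw [← map_inv, MulAut.smul_def, MulAut.conj_apply, inv_inv]
  rwa [e] at this

theorem dvd_card_centralizer {g : G} (hg : g ∈ free G Ω) {p : ℕ} (hp : p.Prime)
    (hpc : p ∣ Nat.card (Subgroup.centralizer ({g} : Set G))) : p ∣ q ^ 2 + 1 := by
  have : Fact p.Prime := ⟨hp⟩
  obtain ⟨⟨h, hhC⟩, hho⟩ := exists_prime_orderOf_dvd_card' p hpc
  have hho' : orderOf h = p := by
    rw [← hho]
    exact (Subgroup.orderOf_mk h hhC).symm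
  have hh1 : h ≠ 1 := by
    intro h1
    rw [h1, orderOf_one] at hho'
    exact hp.one_lt.ne hho'
  exact H.dvd_of_free (H.free_of_mem hg hhC hh1) hp hho'.symm.dvd

theorem factorization_card_group {p : ℕ} (hp : p.Prime) (hpq : p ∣ q ^ 2 + 1) :
    (Nat.card G).factorization p = (q ^ 2 + 1).factorization p := by
  have h8 := H.eight_le
  rw [H.card_group, Nat.factorization_mul (by
    apply mul_ne_zero
    · positivity
    · omega) (by positivity), Finsupp.add_apply,
    Nat.factorization_eq_zero_of_not_dvd (H.prime_dvd_facts hp hpq).2, zero_add]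

theorem factorization_eq {g : G} (hg : g ∈ free G Ω) {p : ℕ} (hp : p.Prime)
    (hpc : p ∣ Nat.card (Subgroup.centralizer ({g} : Set G))) :
    (Nat.card (Subgroup.centralizer ({g} : Set G))).factorization p = (q ^ 2 + 1).factorization p := by
  have : Fact p.Prime := ⟨hp⟩
  rw [← H.factorization_card_group hp (H.dvd_card_centralizer hg hp hpc)]
  apply le_antisymm
  · exact (Nat.factorization_le_iff_dvd Nat.card_pos.ne' Nat.card_pos.ne').2
      (Subgroup.card_subgroup_dvd_card _) p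
  · obtain ⟨P, hP, -⟩ := H.exists_sylow_le hg hpc
    have h1 := Subgroup.card_dvd_of_le hP
    rw [P.card_eq_multiplicity] at h1
    exact (hp.pow_dvd_iff_le_factorization Nat.card_pos.ne').1 h1

theorem exists_free_orderOf {p : ℕ} (hp : p.Prime) (hpq : p ∣ q ^ 2 + 1) :
    ∃ z ∈ free G Ω, orderOf z = p := by
  have : Fact p.Prime := ⟨hp⟩
  have hpG : p ∣ Nat.card G := by
    rw [H.card_group]
    exact hpq.mul_left _
  obtain ⟨z, hz⟩ := exists_prime_orderOf_dvd_card' p hpG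
  refine ⟨z, ?_, hz⟩
  have hz1 : z ≠ 1 := by
    intro h1
    rw [h1, orderOf_one] at hz
    exact hp.one_lt.ne hz
  have hmod := card_modEq_fixedBy (Ω := Ω) hp (h := z) (by rw [← hz, pow_orderOf_eq_one])
  rw [H.card_set] at hmod
  have h0 : Nat.card (fixedBy Ω z) ≡ 0 [MOD p] :=
    hmod.symm.trans ((Nat.modEq_zero_iff_dvd).2 hpq)
  have hle := H.three z hz1
  have h5 := (H.prime_dvd_facts hp hpq).1
  show Nat.card (fixedBy Ω z) = 0
  exact Nat.eq_zero_of_dvd_of_lt ((Nat.modEq_zero_iff_dvd).1 h0) (by omega)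

theorem dvd_card_of_mem_tset {g z : G} {p : ℕ} (hz : orderOf z = p)
    (h : z ∈ tset (Subgroup.centralizer ({g} : Set G))) :
    p ∣ Nat.card (Subgroup.centralizer ({g} : Set G)) := by
  obtain ⟨-, y, hy⟩ := h
  have h1 : orderOf (y⁻¹ * z * y) = p := by
    rw [← hz]
    have := orderOf_injective (MulAut.conj y⁻¹).toMonoidHom (MulAut.conj y⁻¹).injective z
    rw [← this]
    congr 1
    show _ = y⁻¹ * z * (y⁻¹)⁻¹
    rw [inv_inv]
  rw [← h1, ← Subgroup.orderOf_mk _ hy]
  exact orderOf_dvd_natCard _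

theorem factorization_of_mem_tset {g z : G} (hg : g ∈ free G Ω) {p : ℕ} (hp : p.Prime)
    (hz : orderOf z = p)
    (h : z ∈ tset (Subgroup.centralizer ({g} : Set G))) :
    (Nat.card (Subgroup.centralizer ({g} : Set G))).factorization p = (q ^ 2 + 1).factorization p :=
  H.factorization_eq hg hp (H.dvd_card_of_mem_tset hz h)

theorem card_eq_of_cover {g : G} (hg : g ∈ free G Ω)
    (hcov : free G Ω ⊆ tset (Subgroup.centralizer ({g} : Set G))) :
    Nat.card (Subgroup.centralizer ({g} : Set G)) = q ^ 2 + 1 := by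
  apply Nat.eq_of_factorization_eq Nat.card_pos.ne' (by positivity)
  intro p
  by_cases hp : p.Prime
  · by_cases hpq : p ∣ q ^ 2 + 1
    · obtain ⟨z, hz, hzo⟩ := H.exists_free_orderOf hp hpq
      exact H.factorization_of_mem_tset hg hp hzo (hcov hz)
    · rw [Nat.factorization_eq_zero_of_not_dvd hpq, Nat.factorization_eq_zero_of_not_dvd]
      intro h
      exact hpq (H.dvd_card_centralizer hg hp h)
  · rw [Nat.factorization_eq_zero_of_not_prime _ hp, Nat.factorization_eq_zero_of_not_prime _ hp]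

theorem card_mul_of_cover {g₁ g₂ : G} (hg₁ : g₁ ∈ free G Ω) (hg₂ : g₂ ∈ free G Ω)
    (hdis : g₂ ∉ tset (Subgroup.centralizer ({g₁} : Set G)))
    (hcov : free G Ω ⊆ tset (Subgroup.centralizer ({g₁} : Set G)) ∪
      tset (Subgroup.centralizer ({g₂} : Set G))) :
    Nat.card (Subgroup.centralizer ({g₁} : Set G)) * Nat.card (Subgroup.centralizer ({g₂} : Set G)) =
      q ^ 2 + 1 := by
  apply Nat.eq_of_factorization_eq (mul_ne_zero Nat.card_pos.ne' Nat.card_pos.ne') (by positivity)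
  intro p
  rw [Nat.factorization_mul Nat.card_pos.ne' Nat.card_pos.ne', Finsupp.add_apply]
  by_cases hp : p.Prime
  · by_cases hpq : p ∣ q ^ 2 + 1
    · obtain ⟨z, hz, hzo⟩ := H.exists_free_orderOf hp hpq
      rcases hcov hz with h | h
      · have h1 := H.dvd_card_of_mem_tset hzo h
        rw [H.factorization_of_mem_tset hg₁ hp hzo h,
          Nat.factorization_eq_zero_of_not_dvd (n := Nat.card (Subgroup.centralizer ({g₂} : Set G))), add_zero]
        intro h2
        exact hdis (H.mem_tset_of_dvd hg₁ hg₂ hp h1 h2)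
      · have h1 := H.dvd_card_of_mem_tset hzo h
        rw [H.factorization_of_mem_tset hg₂ hp hzo h,
          Nat.factorization_eq_zero_of_not_dvd (n := Nat.card (Subgroup.centralizer ({g₁} : Set G))), zero_add]
        intro h2
        exact hdis (H.mem_tset_of_dvd hg₁ hg₂ hp h2 h1)
    · rw [Nat.factorization_eq_zero_of_not_dvd hpq, Nat.factorization_eq_zero_of_not_dvd,
        Nat.factorization_eq_zero_of_not_dvd]
      · intro h
        exact hpq (H.dvd_card_centralizer hg₂ hp h)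
      · intro h
        exact hpq (H.dvd_card_centralizer hg₁ hp h)
  · rw [Nat.factorization_eq_zero_of_not_prime _ hp, Nat.factorization_eq_zero_of_not_prime _ hp,
      Nat.factorization_eq_zero_of_not_prime _ hp]

/-- The numerical data of one class of centralisers. -/
theorem data {g : G} (hg : g ∈ free G Ω) : ∃ n : ℕ, 1 ≤ n ∧ n ≤ 4 ∧ n ≠ 3 ∧
    5 ≤ Nat.card (Subgroup.centralizer ({g} : Set G)) ∧
    Nat.card (Subgroup.normalizer ((Subgroup.centralizer ({g} : Set G) : Subgroup G) : Set G)) =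
      n * Nat.card (Subgroup.centralizer ({g} : Set G)) ∧
    Nat.card (tset (Subgroup.centralizer ({g} : Set G))) *
      (n * Nat.card (Subgroup.centralizer ({g} : Set G))) =
      Nat.card G * (Nat.card (Subgroup.centralizer ({g} : Set G)) - 1) := by
  have hle : Subgroup.centralizer ({g} : Set G) ≤
    Subgroup.normalizer ((Subgroup.centralizer ({g} : Set G) : Subgroup G) : Set G) :=
    Subgroup.le_normalizer
  obtain ⟨n, hn⟩ := Subgroup.card_dvd_of_le hle
  have hcpos : 0 < Nat.card (Subgroup.centralizer ({g} : Set G)) := Nat.card_pos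
  have hNpos : 0 < Nat.card (Subgroup.normalizer ((Subgroup.centralizer ({g} : Set G) : Subgroup G) : Set G)) :=
    Nat.card_pos
  have hnorm := H.norm_of_free hg
  have htset := H.card_tset_eq hg
  refine ⟨n, ?_, ?_, ?_, ?_, ?_, ?_⟩
  · rcases Nat.eq_zero_or_pos n with h | h
    · rw [h, mul_zero] at hn; omega
    · exact h
  · rw [hn, mul_comm] at hnorm
    exact Nat.le_of_mul_le_mul_right hnorm hcpos
  · rintro rfl
    apply H.three_not_dvd
    refine Dvd.dvd.trans ?_ (Subgroup.card_subgroup_dvd_card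
      (Subgroup.normalizer ((Subgroup.centralizer ({g} : Set G) : Subgroup G) : Set G)))
    rw [hn]
    exact dvd_mul_left _ _
  · have hne1 : Nat.card (Subgroup.centralizer ({g} : Set G)) ≠ 1 := by
      intro h1
      have h2 : g ∈ Subgroup.centralizer ({g} : Set G) := Subgroup.mem_centralizer_singleton_iff.2 rfl
      rw [Subgroup.card_eq_one.1 h1, Subgroup.mem_bot] at h2
      exact H.one_notMem_free (h2 ▸ hg)
    obtain ⟨p, hp, hpc⟩ := Nat.exists_prime_and_dvd hne1
    exact (H.prime_dvd_facts hp (H.dvd_card_centralizer hg hp hpc)).1.trans (Nat.le_of_dvd hcpos hpc)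
  · rw [hn, mul_comm]
  · rw [← htset, hn, mul_comm n]

theorem card_free : 2 * Nat.card (free G Ω) = q ^ 3 * (q - 1) ^ 2 := by
  have h8 := H.eight_le
  have h := two_mul_card_free (G := G) (Ω := Ω) (by rw [H.card_set]; nlinarith) H.two H.three
  rw [H.card_set, H.card_group] at h
  obtain ⟨a, rfl⟩ : ∃ a, q = a + 1 := ⟨q - 1, by omega⟩
  have e1 : (a + 1) ^ 2 + 1 - 1 = (a + 1) ^ 2 := by omega
  have e2 : (a + 1) ^ 2 + 1 - 2 = a * (a + 2) := by
    have : (a + 1) ^ 2 = a * (a + 2) + 1 := by ring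
    omega
  rw [e1, e2] at h
  simp only [Nat.add_sub_cancel] at h ⊢
  have h2 : (a + 1) ^ 2 * a * ((a + 1) ^ 2 + 1) =
      (a + 1) ^ 3 * a ^ 2 + (a + 1) ^ 2 * (a * (a + 2)) := by ring
  rw [h2] at h
  exact Nat.add_right_cancel h

theorem two_mul_card_free_lt : 2 * Nat.card (free G Ω) < Nat.card G := by
  have h8 := H.eight_le
  rw [H.card_free, H.card_group]
  obtain ⟨a, rfl⟩ : ∃ a, q = a + 1 := ⟨q - 1, by omega⟩
  simp only [Nat.add_sub_cancel]
  have h2 : (a + 1) ^ 2 * a * ((a + 1) ^ 2 + 1) =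
      (a + 1) ^ 3 * a ^ 2 + (a + 1) ^ 2 * a * (a + 2) := by ring
  rw [h2]
  have : 0 < (a + 1) ^ 2 * a * (a + 2) := by
    have : 0 < a := by omega
    positivity
  omega

theorem card_le_five_mul {g : G} (hg : g ∈ free G Ω) :
    Nat.card G ≤ 5 * Nat.card (tset (Subgroup.centralizer ({g} : Set G))) := by
  obtain ⟨n, hn1, hn4, -, hc, -, ht⟩ := H.data hg
  generalize Nat.card (tset (Subgroup.centralizer ({g} : Set G))) = t at ht ⊢
  generalize Nat.card (Subgroup.centralizer ({g} : Set G)) = c at ht hc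
  generalize Nat.card G = x at ht ⊢
  obtain ⟨d, rfl⟩ : ∃ d, c = d + 5 := ⟨c - 5, by omega⟩
  have e : d + 5 - 1 = d + 4 := by omega
  rw [e] at ht
  have h1 : t * (n * (d + 5)) ≤ t * (4 * (d + 5)) :=
    Nat.mul_le_mul_left _ (Nat.mul_le_mul_right _ hn4)
  by_contra hcon
  push Not at hcon
  nlinarith

theorem card_le_of_two {g : G} (hg : g ∈ free G Ω) {n : ℕ} (hn : n ≤ 2)
    (ht : Nat.card (tset (Subgroup.centralizer ({g} : Set G))) *
      (n * Nat.card (Subgroup.centralizer ({g} : Set G))) =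
      Nat.card G * (Nat.card (Subgroup.centralizer ({g} : Set G)) - 1)) :
    2 * Nat.card G ≤ 5 * Nat.card (tset (Subgroup.centralizer ({g} : Set G))) := by
  obtain ⟨-, -, -, -, hc, -, -⟩ := H.data hg
  generalize Nat.card (tset (Subgroup.centralizer ({g} : Set G))) = t at ht ⊢
  generalize Nat.card (Subgroup.centralizer ({g} : Set G)) = c at ht hc
  generalize Nat.card G = x at ht ⊢
  obtain ⟨d, rfl⟩ : ∃ d, c = d + 5 := ⟨c - 5, by omega⟩
  have e : d + 5 - 1 = d + 4 := by omega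
  rw [e] at ht
  have h1 : t * (n * (d + 5)) ≤ t * (2 * (d + 5)) :=
    Nat.mul_le_mul_left _ (Nat.mul_le_mul_right _ hn)
  by_contra hcon
  push Not at hcon
  nlinarith

theorem not_cover_one {g : G} (hg : g ∈ free G Ω) :
    ¬ free G Ω ⊆ tset (Subgroup.centralizer ({g} : Set G)) := by
  intro hcov
  have heq : tset (Subgroup.centralizer ({g} : Set G)) = free G Ω :=
    Set.Subset.antisymm (H.tset_subset_free hg) hcov
  obtain ⟨n, hn1, hn4, -, hc, -, ht⟩ := H.data hg
  have hfree := H.card_free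
  rw [heq, H.card_eq_of_cover hg hcov, H.card_group] at ht
  have h8 := H.eight_le
  generalize Nat.card (free G Ω) = t at ht hfree
  obtain ⟨a, rfl⟩ : ∃ a, q = a + 1 := ⟨q - 1, by omega⟩
  have e1 : (a + 1) ^ 2 + 1 - 1 = (a + 1) ^ 2 := by omega
  rw [e1] at ht
  simp only [Nat.add_sub_cancel] at ht hfree
  have ha : 7 ≤ a := by omega
  have h1 : (a + 1) ^ 3 * a * ((a + 1) ^ 2 + 1) * (n * a) =
      (a + 1) ^ 3 * a * ((a + 1) ^ 2 + 1) * (2 * (a + 1)) := by
    calc (a + 1) ^ 3 * a * ((a + 1) ^ 2 + 1) * (n * a)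
        = ((a + 1) ^ 3 * a ^ 2) * (n * ((a + 1) ^ 2 + 1)) := by ring
      _ = 2 * (t * (n * ((a + 1) ^ 2 + 1))) := by rw [← hfree]; ring
      _ = _ := by rw [ht]; ring
  have hpos : 0 < (a + 1) ^ 3 * a * ((a + 1) ^ 2 + 1) := by positivity
  have h2 : n * a = 2 * (a + 1) := Nat.eq_of_mul_eq_mul_left hpos h1
  have h3 : n < 3 := by
    by_contra h
    push Not at h
    nlinarith
  have h4 : 2 < n := by
    by_contra h
    push Not at h
    nlinarith
  omega

/-- The two classes of tori. -/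
theorem exists_tori {m : ℕ} (hq : q = 2 ^ (2 * m + 1)) :
    ∀ k ∈ ({q + 2 ^ (m + 1) + 1, q - 2 ^ (m + 1) + 1} : Set ℕ), ∃ g ∈ free G Ω,
      Nat.card (Subgroup.centralizer ({g} : Set G)) = k ∧
      Nat.card (Subgroup.normalizer ((Subgroup.centralizer ({g} : Set G) : Subgroup G) : Set G)) =
        4 * k := by
  classical
  have h8 := H.eight_le
  have hlt := H.two_mul_card_free_lt
  have hGpos : 0 < Nat.card G := Nat.card_pos
  have hfree := H.card_free
  have hfin : (free G Ω).Finite := Set.toFinite _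
  -- first class
  obtain ⟨g₁, hg₁⟩ : (free G Ω).Nonempty := by
    rw [Set.nonempty_iff_ne_empty]
    intro h
    rw [h] at hfree
    have : 0 < q ^ 3 * (q - 1) ^ 2 := by
      have : 0 < q - 1 := by omega
      positivity
    simp at hfree
    omega
  obtain ⟨g₂, hg₂, hg₂'⟩ := Set.not_subset.1 (H.not_cover_one hg₁)
  have hdisj : Disjoint (tset (Subgroup.centralizer ({g₁} : Set G)))
      (tset (Subgroup.centralizer ({g₂} : Set G))) := by
    rw [Set.disjoint_left]
    intro x h1 h2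
    exact hg₂' (H.mem_tset_of_inter hg₁ hg₂ h1 h2)
  have hunion : Nat.card (tset (Subgroup.centralizer ({g₁} : Set G))) +
      Nat.card (tset (Subgroup.centralizer ({g₂} : Set G))) =
      (tset (Subgroup.centralizer ({g₁} : Set G)) ∪ tset (Subgroup.centralizer ({g₂} : Set G))).ncard := by
    rw [Set.ncard_union_eq hdisj, Nat.card_coe_set_eq, Nat.card_coe_set_eq]
  have hcov : free G Ω ⊆ tset (Subgroup.centralizer ({g₁} : Set G)) ∪
      tset (Subgroup.centralizer ({g₂} : Set G)) := by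
    intro g₃ hg₃
    by_contra hcon
    rw [Set.mem_union, not_or] at hcon
    have hd3 : Disjoint (tset (Subgroup.centralizer ({g₁} : Set G)) ∪
      tset (Subgroup.centralizer ({g₂} : Set G))) (tset (Subgroup.centralizer ({g₃} : Set G))) := by
      rw [Set.disjoint_left]
      rintro x (h1 | h1) h2
      · exact hcon.1 (H.mem_tset_of_inter hg₁ hg₃ h1 h2)
      · exact hcon.2 (H.mem_tset_of_inter hg₂ hg₃ h1 h2)
    have h3 : ((tset (Subgroup.centralizer ({g₁} : Set G)) ∪
      tset (Subgroup.centralizer ({g₂} : Set G))) ∪ (tset (Subgroup.centralizer ({g₃} : Set G)))).ncard ≤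
        (free G Ω).ncard := by
      apply Set.ncard_le_ncard _ hfin
      exact Set.union_subset (Set.union_subset (H.tset_subset_free hg₁) (H.tset_subset_free hg₂))
        (H.tset_subset_free hg₃)
    rw [Set.ncard_union_eq hd3, ← hunion, ← Nat.card_coe_set_eq, ← Nat.card_coe_set_eq] at h3
    have b1 := H.card_le_five_mul hg₁
    have b2 := H.card_le_five_mul hg₂
    have b3 := H.card_le_five_mul hg₃
    omega
  have hmul := H.card_mul_of_cover hg₁ hg₂ hg₂' hcov
  have heq : tset (Subgroup.centralizer ({g₁} : Set G)) ∪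
      tset (Subgroup.centralizer ({g₂} : Set G)) = free G Ω :=
    Set.Subset.antisymm (Set.union_subset (H.tset_subset_free hg₁) (H.tset_subset_free hg₂)) hcov
  rw [heq, ← Nat.card_coe_set_eq] at hunion
  obtain ⟨n₁, hn1₁, hn4₁, hn3₁, hc₁, hN₁, ht₁⟩ := H.data hg₁
  obtain ⟨n₂, hn1₂, hn4₂, hn3₂, hc₂, hN₂, ht₂⟩ := H.data hg₂
  have b1 := H.card_le_five_mul hg₁
  have b2 := H.card_le_five_mul hg₂
  have hn₁ : n₁ = 4 := by
    by_contra h
    have h2 : n₁ ≤ 2 := by omega
    have := H.card_le_of_two hg₁ h2 ht₁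
    omega
  have hn₂ : n₂ = 4 := by
    by_contra h
    have h2 : n₂ ≤ 2 := by omega
    have := H.card_le_of_two hg₂ h2 ht₂
    omega
  subst hn₁ hn₂
  have hG := H.card_group
  -- arithmetic
  have key : ((Nat.card (Subgroup.centralizer ({g₁} : Set G)) = q + 2 ^ (m + 1) + 1 ∧
      Nat.card (Subgroup.centralizer ({g₂} : Set G)) = q - 2 ^ (m + 1) + 1)) ∨
      ((Nat.card (Subgroup.centralizer ({g₂} : Set G)) = q + 2 ^ (m + 1) + 1 ∧
      Nat.card (Subgroup.centralizer ({g₁} : Set G)) = q - 2 ^ (m + 1) + 1)) := by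
    have hs : (2 ^ (m + 1)) ^ 2 = 2 * q := by
      rw [hq, ← pow_mul, ← pow_succ']
      congr 1
      ring
    have hsq : 2 ^ (m + 1) ≤ q := by
      rw [hq]
      apply Nat.pow_le_pow_right (by norm_num)
      by_contra h
      have : m = 0 := by omega
      subst this
      norm_num at hq
      omega
    rw [hG] at ht₁ ht₂
    exact arith h8 ht₁ ht₂ (by omega) (by omega) hmul hunion.symm hfree hs hsq
  intro k hk
  simp only [Set.mem_insert_iff, Set.mem_singleton_iff] at hk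
  rcases key with ⟨k1, k2⟩ | ⟨k1, k2⟩ <;> rcases hk with rfl | rfl
  · exact ⟨g₁, hg₁, k1, by rw [hN₁, k1]⟩
  · exact ⟨g₂, hg₂, k2, by rw [hN₂, k2]⟩
  · exact ⟨g₂, hg₂, k1, by rw [hN₂, k1]⟩
  · exact ⟨g₁, hg₁, k2, by rw [hN₁, k2]⟩

end Hyp

end Cfsg.Agent.LieExceptional.SuzukiTori
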