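import Mathlib
import Cfsg.Prelude.Def_CaseTheorems
import Cfsg.Agent.Lib.Cores
import Cfsg.Agent.TwoFusion.MaxClass
import Cfsg.Agent.S1213
set_option linter.all false

/-!
# CIT groups with a self-centralising four-group

`dihedral_sylow`: a finite simple CIT group with a four-group `V` such that `C_G(V) = V` has dihedral Sylow
2-subgroups (of order at least 4).
-/

set_option autoImplicit false

namespace Cfsg.Agent.LieExceptional.CITDihedral

open Subgroup

/-- a finite 2-group with a self-centralising four-group is dihedral or quasi-dihedral -/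
theorem dihedral_or_qd {S : Type*} [Group S] [Finite S] (hS : IsPGroup 2 S) (V : Subgroup S)
    (hV4 : Nat.card V = 4) (hV2 : ∀ v ∈ V, v * v = 1) (hCV : centralizer (V : Set S) = V) :
    (∃ m : ℕ, 2 ≤ m ∧ Nonempty (S ≃* DihedralGroup m)) ∨ Cfsg.IsQuasiDihedral S := by
  have : Fact (Nat.Prime 2) := ⟨Nat.prime_two⟩
  by_cases hcen : (V : Set S) ⊆ center S
  · -- `S = V`
    have htop : V = ⊤ := by
      rw [← hCV, centralizer_eq_top_iff_subset]
      exact hcen
    have hcard : Nat.card S = 4 := by
      rw [← hV4, htop, Subgroup.card_top]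
    have hexp : ∀ v : S, v * v = 1 := fun v => hV2 v (by rw [htop]; exact mem_top v)
    have hK : IsKleinFour S := by
      refine ⟨hcard, ?_⟩
      have hnt : Nontrivial S := by
        rw [← Finite.one_lt_card_iff_nontrivial, hcard]; norm_num
      have h1 : Monoid.exponent S ∣ 2 := by
        rw [Monoid.exponent_dvd_iff_forall_pow_eq_one]
        intro g
        rw [pow_two]; exact hexp g
      rcases (Nat.dvd_prime Nat.prime_two).1 h1 with h | h
      · exfalso
        rw [Monoid.exp_eq_one_iff] at h
        exact not_subsingleton S h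
      · exact h
    left
    exact ⟨2, le_rfl, IsKleinFour.nonempty_mulEquiv⟩
  · obtain ⟨v, hvV, hvc⟩ := Set.not_subset.1 hcen
    have hv1 : v ≠ 1 := by
      rintro rfl; exact hvc (one_mem _)
    have hv2 : orderOf v = 2 := by
      rw [orderOf_eq_prime_iff, pow_two]
      exact ⟨hV2 v hvV, hv1⟩
    -- a central involution
    have hnt : Nontrivial S := ⟨v, 1, hv1⟩
    have hZnt : Nontrivial (center S) := hS.center_nontrivial
    obtain ⟨⟨z, hz⟩, hz1⟩ := exists_ne (1 : center S)
    have hzV : z ∈ V := by
      rw [← hCV, mem_centralizer_iff]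
      intro x _
      exact (mem_center_iff.1 hz) x
    have hz1' : z ≠ 1 := fun h => hz1 (Subtype.ext h)
    have hvz : v ≠ z := by
      rintro rfl; exact hvc hz
    -- `V = {1, v, z, v z}`
    have hgen : ∀ x ∈ V, x ∈ closure ({v, z} : Set S) := by
      have hle : closure ({v, z} : Set S) ≤ V := by
        rw [closure_le]
        rintro x (rfl | hx)
        · exact hvV
        · rw [Set.mem_singleton_iff] at hx; subst hx; exact hzV
      have h3 : 3 ≤ Nat.card (closure ({v, z} : Set S)) := by
        have hsub : ({1, v, z} : Set S) ⊆ closure ({v, z} : Set S) := by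
          rintro x (rfl | rfl | hx)
          · exact one_mem _
          · exact subset_closure (by simp)
          · rw [Set.mem_singleton_iff] at hx; subst hx; exact subset_closure (by simp)
        have h4 := Set.ncard_le_ncard hsub (Set.toFinite _)
        have h5 : ({1, v, z} : Set S).ncard = 3 := by
          rw [Set.ncard_eq_three]
          exact ⟨1, v, z, hv1.symm, hz1'.symm, hvz, rfl⟩
        rw [h5] at h4
        exact h4
      have hdvd := card_dvd_of_le hle
      rw [hV4] at hdvd
      have h6 : Nat.card (closure ({v, z} : Set S)) = 4 := by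
        have := Nat.le_of_dvd (by norm_num) hdvd
        interval_cases h : Nat.card (closure ({v, z} : Set S))
        · norm_num at hdvd
        · rfl
      have h7 : closure ({v, z} : Set S) = V := eq_of_le_of_card_ge hle (by rw [h6, hV4])
      intro x hx
      rw [h7]; exact hx
    have hCv : centralizer ({v} : Set S) = V := by
      apply le_antisymm
      · intro g hg
        rw [mem_centralizer_singleton_iff] at hg
        rw [← hCV, mem_centralizer_iff]
        intro x hx
        have hx' := hgen x hx
        have hle : closure ({v, z} : Set S) ≤ centralizer ({g} : Set S) := by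
          rw [closure_le]
          rintro y (rfl | hy)
          · rw [SetLike.mem_coe, mem_centralizer_singleton_iff]
            exact hg.symm
          · rw [Set.mem_singleton_iff] at hy
            subst hy
            rw [SetLike.mem_coe, mem_centralizer_singleton_iff]
            exact ((mem_center_iff.1 hz) g).symm
        have := hle hx'
        rw [mem_centralizer_singleton_iff] at this
        exact this
      · intro g hg
        rw [← hCV] at hg
        rw [mem_centralizer_singleton_iff]
        exact ((mem_centralizer_iff.1 hg) v hvV).symm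
    refine Cfsg.Agent.TwoFusion.MaxClass.dihedral_or_qd_of_card_centralizer_eq_four hS v hv2 hvc ?_
    rw [hCv, hV4]

/-- a nontrivial finite 2-group has a subgroup of index 2 -/
theorem exists_index_two {K : Type*} [Group K] [Finite K] [Nontrivial K] (hK : IsPGroup 2 K) :
    ∃ H : Subgroup K, H.index = 2 := by
  have : Fact (Nat.Prime 2) := ⟨Nat.prime_two⟩
  obtain ⟨n, hn⟩ := IsPGroup.iff_card.1 hK
  have hn0 : n ≠ 0 := by
    rintro rfl
    have := Finite.one_lt_card (α := K)
    rw [hn] at this; norm_num at this
  obtain ⟨m, rfl⟩ := Nat.exists_eq_succ_of_ne_zero hn0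
  obtain ⟨H, hH⟩ := Sylow.exists_subgroup_card_pow_prime (G := K) 2 (n := m)
    (by rw [hn]; exact pow_dvd_pow 2 (Nat.le_succ m))
  refine ⟨H, ?_⟩
  have h1 := card_mul_index H
  rw [hH, hn, Nat.succ_eq_add_one, pow_succ] at h1
  exact Nat.eq_of_mul_eq_mul_left (by positivity) h1

/-- **(D1)**: a finite simple CIT group with a self-centralising four-group has dihedral Sylow 2-subgroups. -/
theorem dihedral_sylow {G : Type*} [Group G] [Finite G] [IsSimpleGroup G]
    (hCIT : ∀ t : G, orderOf t = 2 → IsPGroup 2 (centralizer ({t} : Set G)))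
    (V : Subgroup G) (hV4 : Nat.card V = 4) (hV2 : ∀ v ∈ V, v * v = 1)
    (hCV : centralizer (V : Set G) = V) (S : Sylow 2 G) :
    ∃ m : ℕ, 2 ≤ m ∧ Nonempty ((S : Subgroup G) ≃* DihedralGroup m) := by
  have : Fact (Nat.Prime 2) := ⟨Nat.prime_two⟩
  -- a Sylow subgroup containing `V`
  have hVp : IsPGroup 2 V := IsPGroup.of_card (n := 2) (by rw [hV4]; norm_num)
  obtain ⟨T, hVT⟩ := hVp.exists_le_sylow
  have hT : ∃ m : ℕ, 2 ≤ m ∧ Nonempty ((T : Subgroup G) ≃* DihedralGroup m) := by
    have hVT4 : Nat.card (V.subgroupOf (T : Subgroup G)) = 4 := by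
      rw [← hV4]
      exact Nat.card_congr (subgroupOfEquivOfLe hVT).toEquiv
    rcases dihedral_or_qd T.isPGroup' (V.subgroupOf (T : Subgroup G)) hVT4
      (fun v hv => Subtype.ext (hV2 v (mem_subgroupOf.1 hv))) (by
        apply le_antisymm
        · intro g hg
          rw [mem_subgroupOf, ← hCV, mem_centralizer_iff]
          intro x hx
          have := (mem_centralizer_iff.1 hg) ⟨x, hVT hx⟩ (mem_subgroupOf.2 hx)
          exact congrArg Subtype.val this
        · intro g hg
          rw [mem_subgroupOf, ← hCV, mem_centralizer_iff] at hg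
          rw [mem_centralizer_iff]
          intro x hx
          exact Subtype.ext (hg x (mem_subgroupOf.1 hx))) with h | h
    · exact h
    · exfalso
      have hidx : ∀ H : Subgroup G, H.index ≠ 2 := by
        intro H hH
        have hN : H.Normal := normal_of_index_eq_two hH
        rcases hN.eq_bot_or_eq_top with h1 | h1
        · rw [h1, index_bot] at hH
          have := card_subgroup_dvd_card V
          rw [hV4, hH] at this
          norm_num at this
        · rw [h1, index_top] at hH
          norm_num at hH
      -- an involution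
      have hnt : ∃ x ∈ V, x ≠ 1 := by
        by_contra hcon
        push Not at hcon
        have : V = ⊥ := (eq_bot_iff_forall V).2 hcon
        rw [this, card_bot] at hV4
        norm_num at hV4
      obtain ⟨x, hxV, hx1⟩ := hnt
      have hx2 : orderOf x = 2 := by
        rw [orderOf_eq_prime_iff, pow_two]
        exact ⟨hV2 x hxV, hx1⟩
      obtain ⟨R, -, ⟨K, -, -, hK2, hKQ⟩, -⟩ := Cfsg.Agent.S1213.result T (Or.inl h) hidx x hx2
      have hKp : IsPGroup 2 K := (hCIT x hx2).to_subgroup K
      obtain ⟨m, -, ⟨e⟩⟩ := hKQ (default : Sylow 2 K)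
      have hKnt : Nontrivial K := by
        by_contra hcon
        rw [not_nontrivial_iff_subsingleton] at hcon
        have h1 : Nat.card ((default : Sylow 2 K) : Subgroup K) = 1 := by
          have : Subsingleton ((default : Sylow 2 K) : Subgroup K) := inferInstance
          exact Nat.card_unique
        have h2 := Nat.card_congr e.toEquiv
        rw [h1, Nat.card_eq_fintype_card, QuaternionGroup.card] at h2
        omega
      obtain ⟨H, hH⟩ := exists_index_two hKp
      exact hK2 H hH
  obtain ⟨m, hm, ⟨e⟩⟩ := hT
  exact ⟨m, hm, ⟨(Sylow.equiv S T).trans e⟩⟩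

end Cfsg.Agent.LieExceptional.CITDihedral
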